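import Mathlib.GroupTheory.SpecificGroups.Alternating

/-!
Two facts on `A₅`.
-/

set_option autoImplicit false

namespace CfsgLib.J3Type

local notation "A₅" => alternatingGroup (Fin 5)

theorem alt5_three_of_invol : ∀ k : A₅, k * k = 1 → k ≠ 1 →
    ∃ a : A₅, a ^ 3 = 1 ∧ a ≠ 1 ∧ k * (a * k * a⁻¹) = a * k * a⁻¹ * k := by
  decide +kernel

theorem alt5_braid : ∀ r : A₅, r ^ 3 = 1 → r ≠ 1 → ∀ m : A₅, m * m = 1 → m ≠ 1 →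
    m * (r * m * r⁻¹) = r * m * r⁻¹ * m → ∀ l : A₅, l * l = 1 → l * r * l⁻¹ = r⁻¹ →
    ∃ i : Fin 3, (r ^ (i : ℕ) * m * (r ^ (i : ℕ))⁻¹ * l) ^ 3 = 1 := by
  decide +kernel

end CfsgLib.J3Type
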