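import Mathlib

/-!
Elements of order 5 of `A₆`.
-/

set_option autoImplicit false

set_option synthInstance.maxSize 512
set_option synthInstance.maxHeartbeats 200000

namespace CfsgLib.J3Type

theorem perm5_three : ∀ s : Equiv.Perm (Fin 5), s ^ 3 = 1 → s ≠ 1 →
    ∃ i j, i ≠ j ∧ s i = i ∧ s j = j ∧ ∀ l, s l = l → l = i ∨ l = j := by
  decide +kernel

theorem perm5_swap : ∀ s : Equiv.Perm (Fin 5), s ^ 3 = 1 → s ≠ 1 → ∀ k : Equiv.Perm (Fin 5),
    k * k = 1 → k ≠ 1 → Equiv.Perm.sign k = 1 → k * s * k = s⁻¹ → ∀ i, s i = i → k i ≠ i := by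
  decide +kernel

/-- A standard 5-cycle. -/
def cyc5 : Equiv.Perm (Fin 6) :=
  Equiv.swap 0 1 * Equiv.swap 1 2 * Equiv.swap 2 3 * Equiv.swap 3 4

theorem cyc5_cent : ∀ d : Equiv.Perm (Fin 6), d * cyc5 = cyc5 * d → Equiv.Perm.sign d = 1 →
    ∃ i : Fin 5, d = cyc5 ^ (i : ℕ) := by
  decide +kernel

theorem perm6_five_conj {a : Equiv.Perm (Fin 6)} (h5 : a ^ 5 = 1) (h1 : a ≠ 1) :
    ∃ g : Equiv.Perm (Fin 6), g * cyc5 * g⁻¹ = a := by
  haveI : Fact (Nat.Prime 5) := ⟨by decide⟩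
  have key : ∀ b : Equiv.Perm (Fin 6), b ^ 5 = 1 → b ≠ 1 → b.cycleType = {5} := by
    intro b hb hb1
    obtain ⟨n, hn⟩ := Equiv.Perm.cycleType_prime_order
      (σ := b) (by rw [orderOf_eq_prime hb hb1]; decide)
    rw [orderOf_eq_prime hb hb1] at hn
    have hs := Equiv.Perm.sum_cycleType b
    have hle := Finset.card_le_univ b.support
    rw [hn, Multiset.sum_replicate, smul_eq_mul] at hs
    rw [Fintype.card_fin] at hle
    obtain rfl : n = 0 := by omega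
    rw [hn, Multiset.replicate_one]
  exact isConj_iff.1 (Equiv.Perm.isConj_iff_cycleType_eq.2
    ((key cyc5 (by decide +kernel) (by decide +kernel)).trans (key a h5 h1).symm))

theorem alt6_five_pow : ∀ a : alternatingGroup (Fin 6), a ^ 5 = 1 → a ≠ 1 →
    ∀ c : alternatingGroup (Fin 6), c * a = a * c → ∃ i : Fin 5, c = a ^ (i : ℕ) := by
  intro a h5 h1 c hc
  obtain ⟨g, hg⟩ := perm6_five_conj (a := (a : Equiv.Perm (Fin 6)))
    (by rw [← SubgroupClass.coe_pow, h5]; rfl) (fun e => h1 (Subtype.ext e))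
  have hc' : (c : Equiv.Perm (Fin 6)) * a = a * c := congrArg Subtype.val hc
  obtain ⟨i, hi⟩ := cyc5_cent (g⁻¹ * c * g)
    (by
      rw [show cyc5 = g⁻¹ * (a : Equiv.Perm (Fin 6)) * g by rw [← hg]; group]
      calc g⁻¹ * (c : Equiv.Perm (Fin 6)) * g * (g⁻¹ * a * g) = g⁻¹ * (c * a) * g := by group
        _ = g⁻¹ * a * g * (g⁻¹ * c * g) := by rw [hc']; group)
    (by
      rw [map_mul, map_mul, Equiv.Perm.mem_alternatingGroup.1 c.2, mul_one, map_inv,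
        inv_mul_cancel])
  refine ⟨i, Subtype.ext ?_⟩
  rw [SubgroupClass.coe_pow, ← hg, conj_pow, ← hi]
  group

theorem alt6_five_inv : ∀ a : alternatingGroup (Fin 6), a ^ 5 = 1 →
    ∃ c : alternatingGroup (Fin 6), c * a * c⁻¹ = a⁻¹ := by
  intro a h5
  by_cases h1 : a = 1
  · exact ⟨1, by simp [h1]⟩
  obtain ⟨g, hg⟩ := perm6_five_conj (a := (a : Equiv.Perm (Fin 6)))
    (by rw [← SubgroupClass.coe_pow, h5]; rfl) (fun e => h1 (Subtype.ext e))
  set d : Equiv.Perm (Fin 6) := Equiv.swap 0 4 * Equiv.swap 1 3 with hd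
  have hdc : d * cyc5 * d⁻¹ = cyc5⁻¹ := by rw [hd]; decide +kernel
  refine ⟨⟨g * d * g⁻¹, Equiv.Perm.mem_alternatingGroup.2 ?_⟩, Subtype.ext ?_⟩
  · rw [map_mul, map_mul, map_inv, mul_right_comm, mul_inv_cancel, one_mul, hd, map_mul,
      Equiv.Perm.sign_swap (by decide), Equiv.Perm.sign_swap (by decide)]
    decide
  · show g * d * g⁻¹ * (a : Equiv.Perm (Fin 6)) * (g * d * g⁻¹)⁻¹ = ((a⁻¹ : alternatingGroup (Fin 6)) : _)
    rw [InvMemClass.coe_inv, ← hg,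
      show g * d * g⁻¹ * (g * cyc5 * g⁻¹) * (g * d * g⁻¹)⁻¹ = g * (d * cyc5 * d⁻¹) * g⁻¹ by group, hdc]
    group

end CfsgLib.J3Type
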