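import Mathlib

/-!
The possible orders.
-/

set_option autoImplicit false
set_option maxRecDepth 100000

namespace CfsgLib.J3Type

def squareDivs : List ℕ :=
  [1, 2, 4, 5, 8, 10, 16, 20, 32, 40, 64, 80, 128, 160, 256, 320, 640, 1280]

theorem square_dvd_list : ∀ d < 7011, 49152000 % (d * d) = 0 → d ∈ squareDivs := by
  decide +kernel

/-- The test on a pair of values. -/
def goodOrder (dn : ℤ) (d : ℕ) : Bool :=
  let g : ℤ := 49152000 / ((d : ℤ) * d) * (dn * (dn + 1))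
  if dn = 0 ∨ dn + 1 = 0 ∨ g % 17280 ≠ 0 ∨ g % 256 = 0 ∨ g % 25 = 0 then true
  else g = 50232960 || g = 51719040 || g = 53066880

theorem good_all : ∀ i < 63, ∀ d ∈ squareDivs,
    goodOrder (((i : ℕ) : ℤ) - 31 + d) d = true ∧ goodOrder (((i : ℕ) : ℤ) - 31 - d) d = true := by
  decide +kernel

theorem order_cases {g : ℕ} {dn sn : ℤ} (hg : 0 < g) (h0 : dn ≠ 0) (h1 : dn + 1 ≠ 0)
    (hd : dn ∣ (g : ℤ)) (hd' : dn + 1 ∣ (g : ℤ)) (hb : 1 + sn ^ 2 + (sn + 1) ^ 2 ≤ 1920)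
    (heq : (g : ℤ) * (dn - sn) ^ 2 = 49152000 * (dn * (dn + 1)))
    (h17280 : 17280 ∣ g) (h256 : ¬ 256 ∣ g) (h25 : ¬ 25 ∣ g) :
    g = 50232960 ∨ g = 51719040 ∨ g = 53066880 := by
  have hco : IsCoprime dn (dn + 1) := ⟨-1, 1, by ring⟩
  obtain ⟨k, hk⟩ := hco.mul_dvd hd hd'
  have hne : dn * (dn + 1) ≠ 0 := mul_ne_zero h0 h1
  rw [hk, mul_assoc, mul_comm (49152000 : ℤ)] at heq
  have hkd : k * (dn - sn) ^ 2 = 49152000 := mul_left_cancel₀ hne heq
  set d := (dn - sn).natAbs with hdd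
  have hd2 : ((d : ℤ)) * d = (dn - sn) ^ 2 := by rw [hdd, Int.natAbs_mul_self', pow_two]
  have hkd' : k * ((d : ℤ) * d) = 49152000 := by rw [hd2]; exact hkd
  have hdiv : ((d * d : ℕ) : ℤ) ∣ 49152000 := ⟨k, by push_cast; rw [mul_comm, hkd']⟩
  have hdivN : d * d ∣ 49152000 := by exact_mod_cast hdiv
  have hdlt : d < 7011 := by
    by_contra h
    have := Nat.le_of_dvd (by norm_num) hdivN
    nlinarith [Nat.mul_le_mul (not_lt.1 h) (not_lt.1 h)]
  have hmem := square_dvd_list d hdlt (Nat.mod_eq_zero_of_dvd hdivN)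
  have hpos : (d : ℤ) * d ≠ 0 := fun e => by rw [e, mul_zero] at hkd'; norm_num at hkd'
  have hkv : 49152000 / ((d : ℤ) * d) = k := by rw [← hkd', Int.mul_ediv_cancel _ hpos]
  have hs : -31 ≤ sn ∧ sn ≤ 31 := ⟨by nlinarith, by nlinarith⟩
  obtain ⟨i, hi, hii⟩ : ∃ i < 63, sn = (i : ℕ) - (31 : ℤ) :=
    ⟨(sn + 31).toNat, by omega, by omega⟩
  obtain ⟨hp, hm⟩ := good_all i hi d hmem
  rw [← hii] at hp hm
  have hgood : goodOrder dn d = true := by
    rcases Int.natAbs_eq (dn - sn) with e | e <;> rw [← hdd] at e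
    · rw [show dn = sn + d by omega]; exact hp
    · rw [show dn = sn - d by omega]; exact hm
  have hgv : 49152000 / ((d : ℤ) * d) * (dn * (dn + 1)) = (g : ℤ) := by rw [hkv, hk]; ring
  unfold goodOrder at hgood
  simp only [hgv] at hgood
  rw [if_neg (by omega)] at hgood
  simp only [Bool.or_eq_true, decide_eq_true_eq] at hgood
  omega

end CfsgLib.J3Type
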