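import Mathlib.GroupTheory.SpecificGroups.Alternating

/-!
A star of five commuting involutions with product one cannot be joined to a common involution.
-/

set_option autoImplicit false

namespace CfsgLib.J3Type.Braid

variable {G : Type*} [Group G] {s : G}

theorem braid_of_cube {a s : G} (ha : a * a = 1) (hs : s * s = 1) (h : (a * s) ^ 3 = 1) :
    s * a * s = a * s * a := by
  have h' : a * s * a * s * a * s = 1 := by
    rw [← h, pow_succ, pow_two]; simp only [mul_assoc]
  calc s * a * s = (a * a) * (s * a * s) := by rw [ha, one_mul]
    _ = a * (a * s * a * s * a * s) * (s * a) := by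
      have e : a * (a * s * a * s * a * s) * (s * a) = (a * a) * (s * a * s) * (a * (s * s) * a) := by
        simp only [mul_assoc]
      rw [e, hs, mul_one, ha, mul_one]
    _ = a * s * a := by rw [h', mul_one, mul_assoc]

theorem cube_of_braid {a s : G} (ha : a * a = 1) (hs : s * s = 1) (h : s * a * s = a * s * a) :
    (a * s) ^ 3 = 1 := by
  rw [pow_succ, pow_two, show a * s * (a * s) * (a * s) = a * (s * a * s) * a * s by
    simp only [mul_assoc], h, show a * (a * s * a) * a * s = (a * a) * s * (a * a) * s by
    simp only [mul_assoc], ha, one_mul, mul_one, hs]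

/-- Conjugates by two neighbours of `s` commute with `s`. -/
theorem pair_comm {a c : G} (ha : a * a = 1) (hc : c * c = 1) (hs : s * s = 1) (hac : a * c = c * a)
    (ba : s * a * s = a * s * a) (bc : s * c * s = c * s * c) :
    s * (a * c * s * c * a) = a * c * s * c * a * s := by
  have hcomm : (a * s * a) * (c * s * c) = (c * s * c) * (a * s * a) := by
    rw [← ba, ← bc, show s * a * s * (s * c * s) = s * a * (s * s) * c * s by simp only [mul_assoc],
      show s * c * s * (s * a * s) = s * c * (s * s) * a * s by simp only [mul_assoc], hs, mul_one, mul_one,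
      mul_assoc s a c, hac, ← mul_assoc]
  calc s * (a * c * s * c * a) = a * ((a * s * a) * (c * s * c)) * a := by
        rw [show a * ((a * s * a) * (c * s * c)) * a = (a * a) * s * (a * c * s * c * a) by
          simp only [mul_assoc], ha, one_mul]
    _ = a * ((c * s * c) * (a * s * a)) * a := by rw [hcomm]
    _ = a * c * s * c * a * s := by
      rw [show a * ((c * s * c) * (a * s * a)) * a = (a * c * s * c * a) * s * (a * a) by
        simp only [mul_assoc], ha, mul_one]

/-- The contradiction. -/
theorem star {a c p q u : G} (ha : a * a = 1) (hc : c * c = 1) (hp : p * p = 1) (hq : q * q = 1)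
    (hu : u * u = 1) (hs : s * s = 1) (hac : a * c = c * a) (hpq : p * q = q * p) (hpu : p * u = u * p)
    (hqu : q * u = u * q) (hb : a * c = p * q * u)
    (ba : s * a * s = a * s * a) (bc : s * c * s = c * s * c) (bp : s * p * s = p * s * p)
    (bq : s * q * s = q * s * q) (bu : s * u * s = u * s * u) : a = c := by
  obtain ⟨b, hb'⟩ : ∃ b, b = a * c := ⟨_, rfl⟩
  obtain ⟨b', hb''⟩ : ∃ b', b' = s * b * s := ⟨_, rfl⟩
  -- `b` commutes with `b'`
  have h1 : b * b' * b = b' := by
    have e1 : b' = (a * s * a) * (c * s * c) := by
      rw [hb'', hb', ← ba, ← bc, show s * a * s * (s * c * s) = s * a * (s * s) * c * s by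
        simp only [mul_assoc], hs, mul_one]
      simp only [mul_assoc]
    have e2 : b' = (c * s * c) * (a * s * a) := by
      rw [hb'', hb', hac, ← ba, ← bc, show s * c * s * (s * a * s) = s * c * (s * s) * a * s by
        simp only [mul_assoc], hs, mul_one]
      simp only [mul_assoc]
    calc b * b' * b = (a * c) * ((a * s * a) * (c * s * c)) * (c * a) := by
          rw [← e1, ← hac, ← hb']
      _ = (c * a) * (a * s * a) * (c * s * c) * c * a := by rw [hac]; simp only [mul_assoc]
      _ = c * (a * a) * s * a * c * s * (c * c) * a := by simp only [mul_assoc]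
      _ = c * s * (a * c) * s * a := by rw [ha, hc, mul_one, mul_one]; simp only [mul_assoc]
      _ = (c * s * c) * (a * s * a) := by rw [hac]; simp only [mul_assoc]
      _ = b' := e2.symm
  -- `b'` commutes with `s`
  have k1 := pair_comm hp hu hs hpu bp bu
  have k2 := pair_comm hq hu hs hqu bq bu
  have k3 := pair_comm hp hq hs hpq bp bq
  have e3 : b * b' * b = (q * u * s * u * q) * (p * u * s * u * p) * (p * q * s * q * p) := by
    have hb2 : b = u * q * p := by rw [hb', hb, hpq, mul_assoc, hpu, ← mul_assoc, hqu]
    have e : b' = (p * s * p) * (q * s * q) * (u * s * u) := by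
      rw [← bp, ← bq, ← bu, show s * p * s * (s * q * s) * (s * u * s) = s * p * (s * s) * q * (s * s) * u * s by
        simp only [mul_assoc], hs, mul_one, mul_one, hb'', hb', hb]
      simp only [mul_assoc]
    have hbb : b * b = 1 := by
      rw [hb', mul_assoc, ← mul_assoc c a c, ← hac, mul_assoc a c c, hc, mul_one, ha]
    have f1 : b * p = q * u := by
      rw [hb2, mul_assoc, hp, mul_one, hqu]
    have f1' : p * b = u * q := by
      rw [hb', hb, ← mul_assoc, ← mul_assoc, hp, one_mul, hqu]
    have f2 : b * q = p * u := by
      rw [hb', hb, mul_assoc (p * q), ← hqu, ← mul_assoc (p * q), mul_assoc p q q, hq, mul_one]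
    have f2' : q * b = u * p := by
      rw [hb', hb, ← mul_assoc, ← mul_assoc, ← hpq, mul_assoc p q q, hq, mul_one, hpu]
    have f3 : b * u = p * q := by rw [hb', hb, mul_assoc, hu, mul_one]
    have f3' : u * b = q * p := by
      rw [hb2, ← mul_assoc, ← mul_assoc, hu, one_mul]
    have key : ∀ x, b * (x * s * x) * b = (b * x) * s * (x * b) := fun x => by simp only [mul_assoc]
    calc b * b' * b = b * (p * s * p) * (b * b) * (q * s * q) * (b * b) * (u * s * u) * b := by
          rw [hbb, mul_one, mul_one, e]; simp only [mul_assoc]
      _ = (b * (p * s * p) * b) * (b * (q * s * q) * b) * (b * (u * s * u) * b) := by simp only [mul_assoc]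
      _ = _ := by rw [key, key, key, f1, f1', f2, f2', f3, f3']; simp only [mul_assoc]
  have h3 : s * b' * s = b' := by
    rw [← h1, e3]
    have hm : ∀ x y z : G, s * x = x * s → s * y = y * s → s * z = z * s → s * (x * y * z) * s = x * y * z := by
      intro x y z hx hy hz
      rw [← mul_assoc, ← mul_assoc, hx, mul_assoc x s y, hy, ← mul_assoc, mul_assoc (x * y) s z, hz,
        ← mul_assoc, mul_assoc (x * y * z) s s, hs, mul_one]
    exact hm _ _ _ k2 k1 k3
  have h4 : b' = b := by
    rw [← h3, hb'', show s * (s * b * s) * s = (s * s) * b * (s * s) by simp only [mul_assoc], hs,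
      one_mul, mul_one]
  -- conclude
  have h5 : s * a * c * s * c = c := by
    have : (a * s * a) * (c * s * c) = a * c := by
      rw [← hb', ← h4, hb'', hb', ← ba, ← bc, show s * a * s * (s * c * s) = s * a * (s * s) * c * s by
        simp only [mul_assoc], hs, mul_one]
      simp only [mul_assoc]
    calc s * a * c * s * c = (a * a) * (s * a * c * s * c) := by rw [ha, one_mul]
      _ = a * ((a * s * a) * (c * s * c)) := by simp only [mul_assoc]
      _ = c := by rw [this, ← mul_assoc, ha, one_mul]
  have h6 : s * a * c * s = 1 := mul_eq_right.1 h5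
  have h7 : a * c = 1 := by
    calc a * c = (s * s) * (a * c) * (s * s) := by rw [hs, one_mul, mul_one]
      _ = s * (s * a * c * s) * s := by simp only [mul_assoc]
      _ = 1 := by rw [h6, mul_one, hs]
  calc a = a * (c * c) := by rw [hc, mul_one]
    _ = c := by rw [← mul_assoc, h7, one_mul]

end CfsgLib.J3Type.Braid
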