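import Mathlib.LinearAlgebra.Matrix.SpecialLinearGroup
import Mathlib.GroupTheory.Index
import Mathlib.FieldTheory.Finite.Basic

/-!
A root group, a torus and one inverting involution with the braid relation give `SL₂` in characteristic two.
-/

set_option autoImplicit false

namespace CfsgLib.J3Type.Bruhat

open Matrix
open scoped MatrixGroups

universe u v

variable {F : Type v} [Field F] [CharP F 2] {G : Type u} [Group G]

/-- Root group `ψ`, torus `τ` and Weyl element `j`. -/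
structure Rel (ψ τ : F → G) (j : G) : Prop where
  add : ∀ x y, ψ (x + y) = ψ x * ψ y
  inj : Function.Injective ψ
  tmul : ∀ x y, x ≠ 0 → y ≠ 0 → τ (x * y) = τ x * τ y
  conj : ∀ c x, c ≠ 0 → τ c * ψ x * (τ c)⁻¹ = ψ (c * x)
  sq : j * j = 1
  inv : ∀ c, c ≠ 0 → j * τ c * j = (τ c)⁻¹
  braid : j * ψ 1 * j = ψ 1 * j * ψ 1
  out : ∃ x, ∀ y, j * ψ x * j ≠ ψ y

variable {ψ τ : F → G} {j : G} (R : Rel ψ τ j)

open scoped Classical in
/-- The map on entries. -/
noncomputable def fnM (ψ τ : F → G) (j : G) (a b c d : F) : G :=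
  if c = 0 then ψ (a * b) * τ (a * a)
  else ψ (a / c) * j * τ (c * c) * ψ (d / c)

/-- The map. -/
noncomputable def fn (ψ τ : F → G) (j : G) (g : SL(2, F)) : G :=
  fnM ψ τ j (g 0 0) (g 0 1) (g 1 0) (g 1 1)

theorem fn_of {g : SL(2, F)} {a b c d : F} (h : (g : Matrix (Fin 2) (Fin 2) F) = !![a, b; c, d]) :
    fn ψ τ j g = fnM ψ τ j a b c d := by
  simp [fn, h]

/-- Upper unitriangular matrices. -/
def xm (t : F) : SL(2, F) := ⟨!![1, t; 0, 1], by simp [Matrix.det_fin_two_of]⟩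

/-- The Weyl element. -/
def wv : SL(2, F) := ⟨!![0, 1; 1, 0], by simp [Matrix.det_fin_two_of, CharTwo.neg_eq]⟩

/-- Diagonal matrices. -/
def dg (c : F) (hc : c ≠ 0) : SL(2, F) := ⟨!![c, 0; 0, c⁻¹], by simp [Matrix.det_fin_two_of, hc]⟩

theorem det_eq (g : SL(2, F)) : g 0 0 * g 1 1 + g 0 1 * g 1 0 = 1 := by
  have h := g.2
  rwa [Matrix.det_fin_two, CharTwo.sub_eq_add] at h

theorem entries (g : SL(2, F)) : ∃ a b c d : F, (g : Matrix (Fin 2) (Fin 2) F) = !![a, b; c, d] ∧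
    a * d + b * c = 1 :=
  ⟨_, _, _, _, Matrix.eta_fin_two _, det_eq g⟩

theorem xm_coe (t : F) : (xm t : Matrix (Fin 2) (Fin 2) F) = !![1, t; 0, 1] := rfl

theorem wv_coe : ((wv : SL(2, F)) : Matrix (Fin 2) (Fin 2) F) = !![0, 1; 1, 0] := rfl

theorem dg_coe (c : F) (hc : c ≠ 0) : (dg c hc : Matrix (Fin 2) (Fin 2) F) = !![c, 0; 0, c⁻¹] := rfl

/-- The Bruhat decomposition. -/
theorem decomp (g : SL(2, F)) :
    (∃ x c, ∃ hc : c ≠ 0, g = xm x * dg c hc) ∨
    ∃ x y c, ∃ hc : c ≠ 0, g = xm x * wv * dg c hc * xm y := by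
  have hd := det_eq g
  by_cases h : g 1 0 = 0
  · rw [h, mul_zero, add_zero] at hd
    have ha : g 0 0 ≠ 0 := fun e => by simp [e] at hd
    refine Or.inl ⟨g 0 0 * g 0 1, g 0 0, ha, ?_⟩
    apply Subtype.ext
    simp only [Matrix.SpecialLinearGroup.coe_mul, xm_coe, dg_coe]
    ext i k
    fin_cases i <;> fin_cases k <;> simp [Matrix.mul_apply, Fin.sum_univ_two, h]
    · field_simp
    · exact (eq_inv_of_mul_eq_one_right hd)
  · refine Or.inr ⟨g 0 0 / g 1 0, g 1 1 / g 1 0, g 1 0, h, ?_⟩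
    apply Subtype.ext
    simp only [Matrix.SpecialLinearGroup.coe_mul, xm_coe, dg_coe, wv_coe]
    ext i k
    fin_cases i <;> fin_cases k <;> simp [Matrix.mul_apply, Fin.sum_univ_two] <;> field_simp
    linear_combination hd - g 0 0 * g 1 1 * (CharTwo.two_eq_zero : (2 : F) = 0)

namespace Rel

include R

theorem map_zero : ψ 0 = 1 := by
  have h := R.add 0 0
  rw [add_zero] at h
  exact left_eq_mul.1 h

theorem t_one : τ 1 = 1 := by
  have h := R.tmul 1 1 one_ne_zero one_ne_zero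
  rw [one_mul] at h
  exact left_eq_mul.1 h

theorem t_inv {c : F} (hc : c ≠ 0) : τ c⁻¹ = (τ c)⁻¹ :=
  eq_inv_of_mul_eq_one_left (by rw [← R.tmul _ _ (inv_ne_zero hc) hc, inv_mul_cancel₀ hc, R.t_one])

theorem shift {c : F} (hc : c ≠ 0) (x : F) : τ c * ψ x = ψ (c * x) * τ c := by
  rw [← R.conj c x hc, inv_mul_cancel_right]

theorem jt {c : F} (hc : c ≠ 0) : τ c * j = j * τ c⁻¹ := by
  rw [R.t_inv hc, ← R.inv c hc, show j * (j * τ c * j) = (j * j) * (τ c * j) by simp only [mul_assoc], R.sq,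
    one_mul]

theorem braid' {s : F} (hs : s ≠ 0) : j * ψ s * j = ψ s⁻¹ * j * τ (s * s) * ψ s⁻¹ := by
  have h1 : ψ s = τ s * ψ 1 * (τ s)⁻¹ := by rw [R.conj s 1 hs, mul_one]
  have h2 : j * τ s = τ s⁻¹ * j := by
    rw [R.jt (inv_ne_zero hs), inv_inv]
  rw [h1, show j * (τ s * ψ 1 * (τ s)⁻¹) * j = (j * τ s) * ψ 1 * ((τ s)⁻¹ * j) by simp only [mul_assoc],
    show (τ s)⁻¹ * j = j * τ s by rw [← R.t_inv hs, R.jt (inv_ne_zero hs), inv_inv],
    show j * τ s * ψ 1 * (j * τ s) = τ s⁻¹ * j * ψ 1 * (j * τ s) by rw [h2],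
    show τ s⁻¹ * j * ψ 1 * (j * τ s) = τ s⁻¹ * (j * ψ 1 * j) * τ s by simp only [mul_assoc], R.braid,
    ← mul_assoc, ← mul_assoc, R.shift (inv_ne_zero hs) 1, mul_one, mul_assoc (ψ s⁻¹) (τ s⁻¹) j,
    R.jt (inv_ne_zero hs), inv_inv, R.tmul s s hs hs, mul_assoc _ (ψ 1) (τ s),
    show ψ 1 * τ s = τ s * ψ s⁻¹ by rw [R.shift hs, mul_inv_cancel₀ hs]]
  simp only [mul_assoc]

theorem fn_xm (g : SL(2, F)) (t : F) : fn ψ τ j (g * xm t) = fn ψ τ j g * ψ t := by
  obtain ⟨a, b, c, d, hg, hd⟩ := entries g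
  have e : ((g * xm t : SL(2, F)) : Matrix (Fin 2) (Fin 2) F) = !![a, a * t + b; c, c * t + d] := by
    rw [Matrix.SpecialLinearGroup.coe_mul, hg, xm_coe]
    ext i k
    fin_cases i <;> fin_cases k <;> simp [Matrix.mul_apply, Fin.sum_univ_two]
  rw [fn_of e, fn_of hg, fnM, fnM]
  by_cases h : c = 0
  · rw [h, mul_zero, add_zero] at hd
    have ha : a ≠ 0 := fun e => by simp [e] at hd
    rw [if_pos h, if_pos h, mul_assoc, R.shift (mul_ne_zero ha ha) t, ← mul_assoc, ← R.add]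
    congr 2; ring
  · rw [if_neg h, if_neg h, mul_assoc _ (ψ _) (ψ t), ← R.add]
    congr 2; field_simp; ring

theorem fn_dg (g : SL(2, F)) (r : F) (hr : r ≠ 0) : fn ψ τ j (g * dg r hr) = fn ψ τ j g * τ (r * r) := by
  obtain ⟨a, b, c, d, hg, hd⟩ := entries g
  have e : ((g * dg r hr : SL(2, F)) : Matrix (Fin 2) (Fin 2) F) = !![a * r, b * r⁻¹; c * r, d * r⁻¹] := by
    rw [Matrix.SpecialLinearGroup.coe_mul, hg, dg_coe]
    ext i k
    fin_cases i <;> fin_cases k <;> simp [Matrix.mul_apply, Fin.sum_univ_two]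
  rw [fn_of e, fn_of hg, fnM, fnM]
  by_cases h : c = 0
  · rw [h, mul_zero, add_zero] at hd
    have ha : a ≠ 0 := fun e => by simp [e] at hd
    rw [if_pos h, if_pos (by simp [h]), mul_assoc (ψ (a * b)) (τ (a * a)) (τ (r * r)), ← R.tmul _ _ (mul_ne_zero ha ha) (mul_ne_zero hr hr)]
    congr 2 <;> field_simp
  · rw [if_neg h, if_neg (mul_ne_zero h hr), mul_assoc _ (ψ _) (τ (r * r)),
      show ψ (d / c) * τ (r * r) = τ (r * r) * ψ (d * r⁻¹ / (c * r)) by
        rw [R.shift (mul_ne_zero hr hr)]; congr 2; field_simp,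
      show ψ (a / c) * j * τ (c * c) * (τ (r * r) * ψ (d * r⁻¹ / (c * r))) =
        ψ (a / c) * j * (τ (c * c) * τ (r * r)) * ψ (d * r⁻¹ / (c * r)) by simp only [mul_assoc],
      ← R.tmul _ _ (mul_ne_zero h h) (mul_ne_zero hr hr)]
    congr 3 <;> field_simp

theorem fn_wv (g : SL(2, F)) : fn ψ τ j (g * wv) = fn ψ τ j g * j := by
  obtain ⟨a, b, c, d, hg, hd⟩ := entries g
  have e : ((g * wv : SL(2, F)) : Matrix (Fin 2) (Fin 2) F) = !![b, a; d, c] := by
    rw [Matrix.SpecialLinearGroup.coe_mul, hg, wv_coe]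
    ext i k
    fin_cases i <;> fin_cases k <;> simp [Matrix.mul_apply, Fin.sum_univ_two]
  rw [fn_of e, fn_of hg, fnM, fnM]
  by_cases h : c = 0
  · rw [h, mul_zero, add_zero] at hd
    have ha : a ≠ 0 := fun e => by simp [e] at hd
    have hdne : d ≠ 0 := fun e => by simp [e] at hd
    have hde : d = a⁻¹ := eq_inv_of_mul_eq_one_right hd
    rw [if_pos h, if_neg hdne, h, zero_div, R.map_zero, mul_one, mul_assoc _ (τ _) j,
      R.jt (mul_ne_zero ha ha), ← mul_assoc, hde, mul_inv, div_inv_eq_mul, mul_comm b]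
  · rw [if_neg h]
    by_cases h' : d = 0
    · rw [h', mul_zero, zero_add] at hd
      rw [if_pos h', h', zero_div, R.map_zero, mul_one, mul_assoc _ (τ _) j, R.jt (mul_ne_zero h h),
        ← mul_assoc, mul_assoc _ j j, R.sq, mul_one]
      have hb : b = c⁻¹ := eq_inv_of_mul_eq_one_left hd
      rw [hb, mul_inv, inv_mul_eq_div]
    · rw [if_neg h']
      have hcd : c * d ≠ 0 := mul_ne_zero h h'
      have hb : b / d = a / c + (c * d)⁻¹ := by
        field_simp
        linear_combination hd - a * d * (CharTwo.two_eq_zero : (2 : F) = 0)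
      calc ψ (b / d) * j * τ (d * d) * ψ (c / d)
          = ψ (a / c) * ψ (c * d)⁻¹ * j * (τ (c * d * (c * d)) * τ (c * c)⁻¹) * ψ (c / d) := by
            rw [← R.add, ← R.tmul _ _ (mul_ne_zero hcd hcd) (inv_ne_zero (mul_ne_zero h h)), hb]
            congr 3
            field_simp
        _ = ψ (a / c) * (ψ (c * d)⁻¹ * j * τ (c * d * (c * d)) * (τ (c * c)⁻¹ * ψ (c / d))) := by
            simp only [mul_assoc]
        _ = ψ (a / c) * (j * ψ (c * d) * j * τ (c * c)⁻¹) := by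
            rw [R.shift (inv_ne_zero (mul_ne_zero h h)), R.braid' hcd,
              show (c * c)⁻¹ * (c / d) = (c * d)⁻¹ by field_simp]
            simp only [mul_assoc]
        _ = _ := by
            rw [show ψ (a / c) * j * τ (c * c) * ψ (d / c) * j = ψ (a / c) * (j * (τ (c * c) * ψ (d / c)) * j) by
                simp only [mul_assoc], R.shift (mul_ne_zero h h), show c * c * (d / c) = c * d by field_simp,
              show j * (ψ (c * d) * τ (c * c)) * j = j * ψ (c * d) * (τ (c * c) * j) by simp only [mul_assoc],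
              R.jt (mul_ne_zero h h)]
            simp only [mul_assoc]

theorem fn_one : fn ψ τ j 1 = 1 := by simp [fn, fnM, R.map_zero, R.t_one]

theorem fn_mul (g h : SL(2, F)) : fn ψ τ j (g * h) = fn ψ τ j g * fn ψ τ j h := by
  have k0 : ∀ x, fn ψ τ j (xm x) = ψ x := fun x => by
    rw [← one_mul (xm x), R.fn_xm, R.fn_one, one_mul]
  rcases decomp h with ⟨x, c, hc, rfl⟩ | ⟨x, y, c, hc, rfl⟩
  · simp only [← mul_assoc, R.fn_dg, R.fn_xm, k0]
  · simp only [← mul_assoc, R.fn_dg, R.fn_xm, R.fn_wv, k0]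

/-- The homomorphism. -/
noncomputable def hom : SL(2, F) →* G where
  toFun := fn ψ τ j
  map_one' := R.fn_one
  map_mul' := R.fn_mul

theorem hom_apply (g : SL(2, F)) : R.hom g = fn ψ τ j g := rfl

theorem hom_xm (x : F) : R.hom (xm x) = ψ x := by
  rw [hom_apply, ← one_mul (xm x), R.fn_xm, R.fn_one, one_mul]

theorem hom_dg (c : F) (hc : c ≠ 0) : R.hom (dg c hc) = τ (c * c) := by
  rw [hom_apply, ← one_mul (dg c hc), R.fn_dg, R.fn_one, one_mul]

theorem hom_wv : R.hom wv = j := by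
  rw [hom_apply, ← one_mul (wv : SL(2, F)), R.fn_wv, R.fn_one, one_mul]

theorem out' {c : F} (hc : c ≠ 0) (p q : F) : ψ p * j * τ c * ψ q ≠ 1 := by
  intro h
  obtain ⟨x, hx⟩ := R.out
  have hp : ∀ p : F, (ψ p)⁻¹ = ψ p := fun p => inv_eq_of_mul_eq_one_right (by
    rw [← R.add, CharTwo.add_self_eq_zero, R.map_zero])
  have hj : j = ψ p * ψ q * (τ c)⁻¹ := by
    have : ψ p * j * τ c = ψ q := by rw [eq_inv_of_mul_eq_one_left h, hp]
    rw [← this, show ψ p * (ψ p * j * τ c) = (ψ p * ψ p) * j * τ c by simp only [mul_assoc],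
      ← R.add, CharTwo.add_self_eq_zero, R.map_zero, one_mul, mul_inv_cancel_right]
  refine hx (c⁻¹ * x) ?_
  calc j * ψ x * j = j * ψ x * j⁻¹ := by rw [inv_eq_of_mul_eq_one_right R.sq]
    _ = ψ p * ψ q * (τ c⁻¹ * ψ x * (τ c⁻¹)⁻¹) * (ψ p * ψ q)⁻¹ := by
      rw [hj, R.t_inv hc]; group
    _ = ψ (c⁻¹ * x) := by
      rw [R.conj _ _ (inv_ne_zero hc), ← R.add, hp, ← R.add, ← R.add]
      congr 1
      linear_combination (CharTwo.add_self_eq_zero (p + q))

theorem hom_injective : Function.Injective R.hom := by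
  refine (injective_iff_map_eq_one _).2 fun g hg => ?_
  rw [hom_apply] at hg
  have hd := det_eq g
  by_cases h : g 1 0 = 0
  · rw [fn, fnM, if_pos h] at hg
    rw [h, mul_zero, add_zero] at hd
    have ha : g 0 0 ≠ 0 := fun e => by simp [e] at hd
    set p := g 0 0 * g 0 1
    have h1 : g 0 0 * g 0 0 = 1 := by
      have := R.conj (g 0 0 * g 0 0) 1 (mul_ne_zero ha ha)
      rw [eq_inv_of_mul_eq_one_right hg, inv_inv, mul_one] at this
      have hp : (ψ p)⁻¹ = ψ p := inv_eq_of_mul_eq_one_right (by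
        rw [← R.add, CharTwo.add_self_eq_zero, R.map_zero])
      rw [hp, ← R.add, ← R.add] at this
      linear_combination (R.inj this).symm + CharTwo.add_self_eq_zero p
    have h2 : g 0 0 = 1 := by
      have : (g 0 0 + 1) * (g 0 0 + 1) = 0 := by
        rw [show (g 0 0 + 1) * (g 0 0 + 1) = g 0 0 * g 0 0 + (g 0 0 + g 0 0) + 1 by ring, h1,
          CharTwo.add_self_eq_zero, add_zero, CharTwo.add_self_eq_zero]
      have := mul_self_eq_zero.1 this
      linear_combination this - CharTwo.add_self_eq_zero (1 : F)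
    rw [h1, R.t_one, mul_one, ← R.map_zero] at hg
    have h3 : g 0 1 = 0 := by
      have := R.inj hg
      simp only [p, h2, one_mul] at this
      exact this
    rw [h2, one_mul] at hd
    apply Subtype.ext
    ext i k
    fin_cases i <;> fin_cases k <;> simp [h, h2, h3, hd]
  · rw [fn, fnM, if_neg h] at hg
    exact absurd hg (R.out' (mul_ne_zero h h) _ _)

theorem range_eq [Finite F] {H : Subgroup G} (h1 : ∀ x, ψ x ∈ H) (h2 : ∀ c, c ≠ 0 → τ c ∈ H) (h3 : j ∈ H) :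
    R.hom.range ≤ H := by
  rintro _ ⟨g, rfl⟩
  rw [hom_apply, fn, fnM]
  split_ifs with h
  · refine H.mul_mem (h1 _) (h2 _ ?_)
    have hd := det_eq g
    rw [h, mul_zero, add_zero] at hd
    exact mul_ne_zero (left_ne_zero_of_mul_eq_one hd) (left_ne_zero_of_mul_eq_one hd)
  · exact H.mul_mem (H.mul_mem (H.mul_mem (h1 _) h3) (h2 _ (mul_ne_zero h h))) (h1 _)

theorem tau_mem [Finite F] {c : F} (hc : c ≠ 0) : τ c ∈ R.hom.range := by
  obtain ⟨r, hr⟩ := FiniteField.isSquare_of_char_two (F := F) (ringChar.eq F 2) c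
  have hr0 : r ≠ 0 := fun e => hc (by rw [hr, e, mul_zero])
  exact ⟨dg r hr0, by rw [R.hom_dg, ← hr]⟩

theorem psi_mem (x : F) : ψ x ∈ R.hom.range := ⟨xm x, R.hom_xm x⟩

theorem j_mem : j ∈ R.hom.range := ⟨wv, R.hom_wv⟩

end Rel

end CfsgLib.J3Type.Bruhat
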