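import Cfsg.Agent.Lib.J3Type.Setup

/-!
Groups with an involution centraliser `2^(1+4).A₅`: existence of the split data.
-/

set_option autoImplicit false

open scoped Classical

namespace CfsgLib.J3Type

open CfsgLib.J2Order

variable {G : Type*} [Group G] [Finite G] {t : G}

theorem exists_base (ht : orderOf t = 2) {C : Subgroup G} (memC : ∀ g : G, g ∈ C ↔ g * t = t * g)
    (E : Subgroup C) [hEn : E.Normal]
    (hE : Nat.card E = 32) (hX : Cfsg.IsExtraspecial 2 E)
    (e : C ⧸ E ≃* alternatingGroup (Fin 5)) :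
    Base t (E.map C.subtype) C := by
  haveI : Fact (Nat.Prime 2) := ⟨Nat.prime_two⟩
  haveI := Fintype.ofFinite G
  obtain ⟨⟨hp, hfr, hder⟩, hcard2⟩ := hX
  obtain ⟨ht1, ht2⟩ := orderTwo ht
  let π : C →* alternatingGroup (Fin 5) := e.toMonoidHom.comp (QuotientGroup.mk' E)
  have hπs : Function.Surjective π := e.surjective.comp (QuotientGroup.mk'_surjective E)
  let tC : C := ⟨t, (memC t).2 rfl⟩
  have htE : tC ∈ E := by
    have : π tC = 1 := alt5_center_free _ fun b => by
      obtain ⟨c, rfl⟩ := hπs b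
      rw [← map_mul, ← map_mul, show tC * c = c * tC from Subtype.ext ((memC c.1).1 c.2).symm]
    change e (QuotientGroup.mk' E tC) = 1 at this
    rwa [MulEquiv.map_eq_one_iff, QuotientGroup.mk'_apply, QuotientGroup.eq_one_iff] at this
  let tO : E := ⟨tC, htE⟩
  have hzc : tO ∈ Subgroup.center E := Subgroup.mem_center_iff.2 fun g =>
    Subtype.ext (Subtype.ext ((memC (g : C).1).1 (g : C).2))
  have hcases : ∀ q : E, q ∈ Subgroup.center E → q = 1 ∨ q = tO := by
    intro q hq
    by_cases h1 : q = 1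
    · exact Or.inl h1
    refine Or.inr ?_
    obtain ⟨y, -, huniq⟩ := (Nat.card_eq_two_iff' (1 : Subgroup.center E)).1 hcard2
    have a := huniq ⟨q, hq⟩ fun h => h1 (congrArg Subtype.val h)
    have b := huniq ⟨tO, hzc⟩ fun h => ht1
      (congrArg (fun t : Subgroup.center E => (((t : E) : C) : G)) h)
    exact congrArg Subtype.val (a.trans b.symm)
  have memQ : ∀ {g : G}, g ∈ E.map C.subtype ↔ ∃ q : E, ((q : C) : G) = g := by
    intro g
    constructor
    · rintro ⟨c, hc, rfl⟩
      exact ⟨⟨c, hc⟩, rfl⟩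
    · rintro ⟨q, rfl⟩
      exact ⟨q, q.2, rfl⟩
  exact
  { z_mem := memQ.2 ⟨tO, rfl⟩
    z_sq := ht2
    z_ne := ht1
    z_cen := fun c hc => (memC c).1 hc
    Q_le := Subgroup.map_subtype_le _
    conj_mem := by
      intro c hc q hq
      obtain ⟨q, rfl⟩ := memQ.1 hq
      exact memQ.2 ⟨⟨(⟨c, hc⟩ : C) * q * (⟨c, hc⟩ : C)⁻¹, hEn.conj_mem _ q.2 _⟩, rfl⟩
    cardQ := by
      rw [← hE]
      exact Nat.card_congr (Subgroup.equivMapOfInjective E C.subtype C.subtype_injective).symm.toEquiv
    comm := by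
      intro a ha b hb
      obtain ⟨a, rfl⟩ := memQ.1 ha
      obtain ⟨b, rfl⟩ := memQ.1 hb
      have hc : a * b * a⁻¹ * b⁻¹ ∈ Subgroup.center E := by
        rw [← hder, commutator_def]
        exact Subgroup.commutator_mem_commutator (Subgroup.mem_top a) (Subgroup.mem_top b)
      rcases hcases _ hc with h | h
      · left
        rw [mul_inv_eq_one, mul_inv_eq_iff_eq_mul] at h
        exact congrArg (fun t : E => ((t : C) : G)) h
      · right
        rw [mul_inv_eq_iff_eq_mul, mul_inv_eq_iff_eq_mul, mul_assoc] at h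
        exact congrArg (fun t : E => ((t : C) : G)) h
    sq := by
      intro a ha
      obtain ⟨a, rfl⟩ := memQ.1 ha
      have hc : a * a ∈ Subgroup.center E := by
        rw [← hfr, ← pow_two]
        exact (CfsgLib.PSolvable.commutator_le_frattini hp).2 a
      rcases hcases _ hc with h | h
      · exact Or.inl (congrArg (fun t : E => ((t : C) : G)) h)
      · exact Or.inr (congrArg (fun t : E => ((t : C) : G)) h)
    cen := by
      intro a ha hall
      obtain ⟨a, rfl⟩ := memQ.1 ha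
      have hc : a ∈ Subgroup.center E := Subgroup.mem_center_iff.2 fun b =>
        Subtype.ext (Subtype.ext (hall _ (memQ.2 ⟨b, rfl⟩)).symm)
      rcases hcases _ hc with h | h
      · exact Or.inl (congrArg (fun t : E => ((t : C) : G)) h)
      · exact Or.inr (congrArg (fun t : E => ((t : C) : G)) h) }

/-- An element of `Q` has a nonabelian centraliser in `Q`. -/
theorem exists_anti_pair {Q C : Subgroup G} (B : Base t Q C) {q : G} (hq : q ∈ Q) :
    ∃ a ∈ Q, ∃ b ∈ Q, a * q = q * a ∧ b * q = q * b ∧ a * b = t * (b * a) := by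
  by_contra hcon
  push Not at hcon
  have hab : ∀ a ∈ Q, ∀ b ∈ Q, a * q = q * a → b * q = q * b → a * b = b * a :=
    fun a ha b hb h1 h2 => (B.comm a ha b hb).resolve_right (hcon a ha b hb h1 h2)
  by_cases hcen : ∀ b ∈ Q, q * b = b * q
  · -- then `Q` is abelian
    have h32 := B.cardQ
    have hsub : (Q : Set G) ⊆ {1, t} := fun a ha => by
      simpa using B.cen a ha fun b hb => hab a ha b hb (hcen a ha).symm (hcen b hb).symm
    rw [show Nat.card Q = (Q : Set G).ncard from Nat.card_coe_set_eq (Q : Set G)] at h32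
    have := Set.ncard_le_ncard hsub
    have := Set.ncard_insert_le (1 : G) {t}
    simp only [Set.ncard_singleton] at this
    omega
  push Not at hcen
  obtain ⟨f, hf, hqf'⟩ := hcen
  have hqf := (B.comm q hq f hf).resolve_left hqf'
  -- everything commuting with `q` is in `⟨t, q⟩` or its translate by one element anticommuting with `f`
  set D : Set G := {1, t, q, q * t} with hD
  have hsmall : ∀ a ∈ Q, a * q = q * a → a * f = f * a → a = 1 ∨ a = t := by
    intro a ha haq haf
    refine B.cen a ha fun b hb => ?_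
    rcases B.comm q hq b hb with h | h
    · exact hab a ha b hb haq h.symm
    · have hb' := hab a ha (b * f) (Q.mul_mem hb hf) haq (B.comm_mul_anti hq hb h hqf).symm
      have := ((show Commute a (b * f) from hb').mul_right (show Commute a f⁻¹ from
        (show Commute a f from haf).inv_right)).eq
      simpa using this
  have hqq : f * q = t * (q * f) := B.anti_symm hf hqf hq
  have hin : ∀ a ∈ Q, a * q = q * a → a ∈ D := by
    intro a ha haq
    rcases B.comm f hf a ha with h | h
    · rcases hsmall a ha haq h.symm with h' | h' <;> simp [hD, h']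
    · have := hsmall (q⁻¹ * a) (Q.mul_mem (Q.inv_mem hq) ha)
        (by rw [mul_assoc, haq, inv_mul_cancel_left, mul_inv_cancel_left]) ?_
      · rcases this with e | e
        · rw [inv_mul_eq_one] at e; simp [hD, ← e]
        · rw [inv_mul_eq_iff_eq_mul] at e; simp [hD, e]
      · rcases B.comm (q⁻¹ * a) (Q.mul_mem (Q.inv_mem hq) ha) f hf with e | e
        · exact e
        · exfalso
          apply B.anti_ne h
          have e' := B.anti_symm hf e (Q.mul_mem (Q.inv_mem hq) ha)
          have e2 := B.comm_mul_anti hf hq hqq e'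
          rwa [mul_inv_cancel_left] at e2
  have h32 := B.cardQ
  rw [show Nat.card Q = (Q : Set G).ncard from Nat.card_coe_set_eq (Q : Set G)] at h32
  have hsub : (Q : Set G) ⊆ D ∪ (fun a => a * f⁻¹) '' D := by
    intro g hg
    rcases B.comm q hq g hg with h | h
    · exact Or.inl (hin g hg h.symm)
    · exact Or.inr ⟨g * f, hin _ (Q.mul_mem hg hf) (B.comm_mul_anti hq hg h hqf).symm, by group⟩
  have h4 : D.ncard ≤ 4 := by
    rw [hD]
    refine (Set.ncard_insert_le _ _).trans (Nat.succ_le_succ ((Set.ncard_insert_le _ _).trans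
      (Nat.succ_le_succ ((Set.ncard_insert_le _ _).trans ?_))))
    rw [Set.ncard_singleton]
  have := Set.ncard_le_ncard hsub (Set.toFinite _)
  have := Set.ncard_union_le D ((fun a => a * f⁻¹) '' D)
  have := Set.ncard_image_le (s := D) (f := fun a => a * f⁻¹) (Set.toFinite _)
  omega

variable (ht : orderOf t = 2) {C : Subgroup G} (memC : ∀ g : G, g ∈ C ↔ g * t = t * g)
    (E : Subgroup C) [hEn : E.Normal]
    (hE : Nat.card E = 32) (hX : Cfsg.IsExtraspecial 2 E)
    (e : C ⧸ E ≃* alternatingGroup (Fin 5))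

include ht memC hE hX e in
/-- If `t` is not weakly closed, then `Q` contains its centraliser. -/
theorem centralizer_le {g : G} (hg1 : g * t * g⁻¹ ≠ t) (hg2 : g * t * g⁻¹ * t = t * (g * t * g⁻¹)) :
    ∀ c : C, (∀ q ∈ E, q * c = c * q) → c ∈ E := by
  intro c0 hc0
  by_contra hcE
  have B := exists_base ht memC E hE hX e
  set Q := E.map C.subtype with hQ
  let π : C →* alternatingGroup (Fin 5) := e.toMonoidHom.comp (QuotientGroup.mk' E)
  have hπs : Function.Surjective π := e.surjective.comp (QuotientGroup.mk'_surjective E)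
  have hπ : ∀ c : C, π c = 1 ↔ c ∈ E := fun c => by
    show e (QuotientGroup.mk' E c) = 1 ↔ _
    rw [MulEquiv.map_eq_one_iff, QuotientGroup.mk'_apply, QuotientGroup.eq_one_iff]
  set D : Subgroup C := Subgroup.centralizer (E : Set C) with hD
  haveI : IsSimpleGroup (alternatingGroup (Fin 5)) := alternatingGroup.isSimpleGroup_five
  haveI : D.Normal := by rw [hD]; infer_instance
  have hDtop : D.map π = ⊤ := by
    rcases IsSimpleGroup.eq_bot_or_eq_top_of_normal (D.map π)
      (Subgroup.Normal.map inferInstance π hπs) with h | h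
    · exfalso
      refine hcE ((hπ c0).1 ?_)
      have : π c0 ∈ D.map π := ⟨c0, Subgroup.mem_centralizer_iff.2 hc0, rfl⟩
      rwa [h, Subgroup.mem_bot] at this
    · exact h
  -- every element of `C` is a product
  have hdec : ∀ a : C, ∃ q ∈ E, ∃ d ∈ D, a = q * d := by
    intro a
    obtain ⟨d, hd, hda⟩ := hDtop.ge (Subgroup.mem_top (π a))
    exact ⟨a * d⁻¹, (hπ _).1 (by rw [map_mul, map_inv, hda, mul_inv_cancel]), d, hd, by group⟩
  have hQmem : ∀ q : C, (q : G) ∈ Q ↔ q ∈ E := fun q =>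
    ⟨fun ⟨r, hr, hrq⟩ => Subtype.ext hrq ▸ hr, fun h => ⟨q, h, rfl⟩⟩
  set x := g⁻¹ * t * g with hx
  have hxC : x ∈ C := by
    rw [memC]
    calc g⁻¹ * t * g * t = g⁻¹ * (t * (g * t * g⁻¹)) * g := by group
      _ = t * (g⁻¹ * t * g) := by rw [← hg2]; group
  have hxt : x ≠ t := fun h => hg1 (by
    calc g * t * g⁻¹ = g * x * g⁻¹ := by rw [h]
      _ = t := by rw [hx]; group)
  obtain ⟨q, hq, d, hd, hxd⟩ := hdec ⟨x, hxC⟩
  have hxd' : x = (q : G) * d := congrArg Subtype.val hxd
  obtain ⟨a, ha, b, hb, haq, hbq, hab⟩ := exists_anti_pair B ((hQmem q).2 hq)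
  have hcx : ∀ y ∈ Q, y * q = q * y → g * y * g⁻¹ ∈ C := by
    intro y hy hyq
    obtain ⟨y', hy', rfl⟩ := hy
    have h1 : Commute (y' : G) (d : G) := congrArg Subtype.val (Subgroup.mem_centralizer_iff.1 hd y' hy')
    have h2 : Commute (y' : G) x := by rw [hxd']; exact (show Commute (y' : G) q from hyq).mul_right h1
    rw [memC]
    calc g * (C.subtype y') * g⁻¹ * t = g * ((y' : G) * x) * g⁻¹ := by rw [hx]; simp only [Subgroup.coe_subtype]; group
      _ = t * (g * (C.subtype y') * g⁻¹) := by rw [h2.eq, hx]; simp only [Subgroup.coe_subtype]; group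
  set a' : C := ⟨g * a * g⁻¹, hcx a ha haq⟩ with ha'
  set b' : C := ⟨g * b * g⁻¹, hcx b hb hbq⟩ with hb'
  have htC : g * t * g⁻¹ ∈ C := (memC _).2 hg2
  set t' : C := ⟨g * t * g⁻¹, htC⟩ with ht'
  have h4 : ∀ y ∈ Q, ∀ hy : g * y * g⁻¹ ∈ C, (⟨g * y * g⁻¹, hy⟩ : C) ^ 4 = 1 := by
    intro y hy hyC
    apply Subtype.ext
    show (g * y * g⁻¹) ^ 4 = 1
    rw [conj_pow, show y ^ 4 = (y * y) * (y * y) by simp only [pow_succ, pow_zero, one_mul, mul_assoc]]
    rcases B.sq y hy with h | h <;> simp [h, B.z_sq]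
  have habC : g * (a * b) * g⁻¹ ∈ C := by
    rw [show g * (a * b) * g⁻¹ = (a' * b' : C) by rw [ha', hb']; simp only [Subgroup.coe_mul]; group]
    exact (a' * b').2
  have hAB : π a' * π b' = π b' * π a' := by
    have p1 := alt5_four (π a') (by rw [← map_pow, h4 a ha, map_one])
    have p2 := alt5_four (π b') (by rw [← map_pow, h4 b hb, map_one])
    have e3 : (⟨g * (a * b) * g⁻¹, habC⟩ : C) = a' * b' := Subtype.ext (by
      rw [ha', hb']; simp only [Subgroup.coe_mul]; group)
    have p3 := alt5_four (π (a' * b')) (by rw [← map_pow, ← e3, h4 _ (Q.mul_mem ha hb), map_one])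
    rw [map_mul] at p3
    calc π a' * π b' = π a' * (π a' * π b' * (π a' * π b')) * π b' := by rw [p3, mul_one]
      _ = (π a' * π a') * (π b' * π a') * (π b' * π b') := by group
      _ = π b' * π a' := by rw [p1, p2, one_mul, mul_one]
  obtain ⟨q1, hq1, d1, hd1, e1⟩ := hdec a'
  obtain ⟨q2, hq2, d2, hd2, e2⟩ := hdec b'
  have hab' : a' * b' = t' * (b' * a') := by
    apply Subtype.ext
    simp only [ha', hb', ht', Subgroup.coe_mul]
    rw [show g * a * g⁻¹ * (g * b * g⁻¹) = g * (a * b) * g⁻¹ by group, hab]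
    group
  have c12 : d1 * q2 = q2 * d1 := (Subgroup.mem_centralizer_iff.1 hd1 q2 hq2).symm
  have c21 : d2 * q1 = q1 * d2 := (Subgroup.mem_centralizer_iff.1 hd2 q1 hq1).symm
  set w := d1 * d2 * d1⁻¹ * d2⁻¹ with hw
  have hwD : w ∈ D := D.mul_mem (D.mul_mem (D.mul_mem hd1 hd2) (D.inv_mem hd1)) (D.inv_mem hd2)
  have hwE : w ∈ E := by
    refine (hπ w).1 ?_
    rw [e1, e2] at hAB
    simp only [map_mul, (hπ q1).2 hq1, (hπ q2).2 hq2, one_mul] at hAB
    rw [hw, map_mul, map_mul, map_mul, map_inv, map_inv, hAB]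
    group
  have hwc : ∀ y ∈ E, y * w = w * y := Subgroup.mem_centralizer_iff.1 hwD
  have hv : ∃ v ∈ E, (∀ y ∈ E, y * v = v * y) ∧ q1 * q2 = v * (q2 * q1) := by
    rcases B.comm _ ((hQmem q1).2 hq1) _ ((hQmem q2).2 hq2) with h | h
    · exact ⟨1, E.one_mem, fun y _ => by simp, by rw [one_mul]; exact Subtype.ext h⟩
    · exact ⟨⟨t, (memC t).2 rfl⟩, (hQmem _).1 B.z_mem, fun y _ => Subtype.ext ((memC y.1).1 y.2),
        Subtype.ext h⟩
  obtain ⟨v, hvE, hvc, hv⟩ := hv
  have ht'E : t' = v * w := by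
    have h1 : a' * b' = v * w * (b' * a') := by
      calc a' * b' = q1 * (d1 * q2) * d2 := by rw [e1, e2]; group
        _ = (q1 * q2) * (d1 * d2) := by rw [c12]; group
        _ = v * (q2 * q1 * w) * (d2 * d1) := by rw [hv, hw]; group
        _ = v * (w * (q2 * q1)) * (d2 * d1) := by rw [hwc _ (E.mul_mem hq2 hq1)]
        _ = v * w * (q2 * (q1 * d2) * d1) := by group
        _ = v * w * (b' * a') := by rw [← c21, e1, e2]; group
    exact mul_right_cancel (hab'.symm.trans h1)
  have htQ : g * t * g⁻¹ ∈ Q := ⟨t', ht'E ▸ E.mul_mem hvE hwE, rfl⟩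
  have hcen : ∀ y ∈ Q, g * t * g⁻¹ * y = y * (g * t * g⁻¹) := by
    rintro _ ⟨y, hy, rfl⟩
    have : y * t' = t' * y := by
      rw [ht'E, ← mul_assoc y v w, hvc y hy, mul_assoc v y w, hwc y hy, ← mul_assoc v w y]
    exact (congrArg Subtype.val this).symm
  rcases B.cen _ htQ hcen with h | h
  · exact B.z_ne (conj_eq_one_iff.1 h)
  · exact hg1 h

include ht memC hE hX e in
/-- The split data. -/
theorem exists_core {g : G} (hg1 : g * t * g⁻¹ ≠ t) (hg2 : g * t * g⁻¹ * t = t * (g * t * g⁻¹)) :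
    ∃ K : Subgroup G, J2Type.Core t (E.map C.subtype) K C := by
  haveI : Fact (Nat.Prime 5) := ⟨by decide⟩
  haveI := Fintype.ofFinite G
  have hCC := centralizer_le ht memC E hE hX e hg1 hg2
  have B := exists_base ht memC E hE hX e
  obtain ⟨o⟩ := J2Type.omega_equiv_alt5
  obtain ⟨-, -, hK⟩ := J2Type.exists_core_aux t ht C memC E hCC hX (by rw [hE]; norm_num) (e.trans o.symm)
  set Q := E.map C.subtype with hQ
  by_cases hout : ∃ y ∈ C, orderOf y = 2 ∧ y ∉ Q
  · obtain ⟨y, hy, hy2, hyQ⟩ := hout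
    exact hK y hy hy2 hyQ
  exfalso
  push Not at hout
  have hQmem : ∀ q : C, (q : G) ∈ Q → q ∈ E := fun q ⟨r, hr, hrq⟩ => Subtype.ext hrq ▸ hr
  have hd5 : 5 ∣ Nat.card C := by
    refine dvd_trans ?_ (Subgroup.card_dvd_of_surjective (e.toMonoidHom.comp (QuotientGroup.mk' E))
      (e.surjective.comp (QuotientGroup.mk'_surjective E)))
    rw [J2Type.card_alt5]; norm_num
  obtain ⟨f, hf⟩ := exists_prime_orderOf_dvd_card' (G := C) 5 hd5
  have hf5 : (f : G) ^ 5 = 1 := by rw [← SubgroupClass.coe_pow, ← hf, pow_orderOf_eq_one]; rfl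
  have hnc : ∃ q ∈ Q, (f : G) * q ≠ q * f := by
    by_contra hcon
    push Not at hcon
    have hfE := hCC f fun q hq => Subtype.ext (hcon _ ⟨q, hq, rfl⟩).symm
    have := Subgroup.orderOf_dvd_natCard E hfE
    rw [hf, hE] at this
    norm_num at this
  have inside : ∀ c ∈ C, c * c = 1 → c ∈ Q := by
    intro c hc hc2
    by_cases h1 : c = 1
    · rw [h1]; exact Q.one_mem
    · exact hout c hc (orderTwo_of h1 hc2)
  have hC' : g * t * g⁻¹ ∈ C := (memC _).2 hg2
  have h2 : g * t * g⁻¹ * (g * t * g⁻¹) = 1 := by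
    rw [show g * t * g⁻¹ * (g * t * g⁻¹) = g * (t * t) * g⁻¹ by group, B.z_sq]; group
  exact Twist.false (B := B) (g := g)
    { mem_C := memC
      ten := B.card_X_of_five f.2 hf5 hnc
      inside := inside
      conjX := B.mem_X.2 ⟨inside _ hC' h2, h2, fun h => B.z_ne (conj_eq_one_iff.1 h), hg1⟩ }

end CfsgLib.J3Type
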