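import Cfsg.Agent.Lib.J3Type.Main
import Cfsg.Agent.Lib.J2Type.Five

/-!
Counting elements by their orders.
-/

set_option autoImplicit false

open scoped Classical

namespace CfsgLib.J3Type

open CfsgLib.J2Order

variable {G : Type*} [Group G] [Fintype G]

/-- The elements of a given order. -/
noncomputable def ofOrder (G : Type*) [Group G] [Fintype G] (n : ℕ) : Finset G :=
  Finset.univ.filter fun h => orderOf h = n

theorem mem_ofOrder {n : ℕ} {h : G} : h ∈ ofOrder G n ↔ orderOf h = n := by simp [ofOrder]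

/-- The elements of even order with a given involution among their powers. -/
noncomputable def withInvol (i : G) : Finset G :=
  Finset.univ.filter fun h => 2 ∣ orderOf h ∧ h ^ (orderOf h / 2) = i

theorem mem_withInvol {i h : G} : h ∈ withInvol i ↔ 2 ∣ orderOf h ∧ h ^ (orderOf h / 2) = i := by
  simp [withInvol]

theorem orderOf_conjugate (g a : G) : orderOf (g * a * g⁻¹) = orderOf a :=
  orderOf_injective (MulAut.conj g).toMonoidHom (MulAut.conj g).injective a

theorem card_withInvol_conj (g i : G) : (withInvol (g * i * g⁻¹)).card = (withInvol i).card := by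
  refine (Finset.card_bij (fun h _ => g * h * g⁻¹) ?_ (fun a _ b _ e => mul_left_cancel (mul_right_cancel e)) ?_).symm
  · intro h hh
    obtain ⟨h1, h2⟩ := mem_withInvol.1 hh
    exact mem_withInvol.2 ⟨by rwa [orderOf_conjugate], by rw [orderOf_conjugate, conj_pow, h2]⟩
  · intro h hh
    obtain ⟨h1, h2⟩ := mem_withInvol.1 hh
    have ho : orderOf (g⁻¹ * h * g) = orderOf h := by simpa using orderOf_conjugate g⁻¹ h
    refine ⟨g⁻¹ * h * g, mem_withInvol.2 ⟨by rwa [ho], ?_⟩, by group⟩
    rw [ho, show g⁻¹ * h * g = g⁻¹ * h * g⁻¹⁻¹ by group, conj_pow, h2]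
    group

theorem sylow_eq_of_mem {p : ℕ} [hp : Fact p.Prime] {P R : Sylow p G} (hP : Nat.card P = p) (hR : Nat.card R = p)
    {a : G} (haP : a ∈ (P : Subgroup G)) (haR : a ∈ (R : Subgroup G)) (ha : a ≠ 1) : P = R := by
  have key : ∀ S : Sylow p G, Nat.card S = p → a ∈ (S : Subgroup G) → Subgroup.zpowers a = (S : Subgroup G) := by
    intro S hS haS
    refine Subgroup.eq_of_le_of_card_ge (Subgroup.zpowers_le.2 haS) ?_
    rw [Nat.card_zpowers, show Nat.card (S : Subgroup G) = p from hS]
    have hd := Subgroup.orderOf_dvd_natCard (S : Subgroup G) haS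
    rw [show Nat.card (S : Subgroup G) = p from hS] at hd
    rcases (Nat.dvd_prime hp.out).1 hd with h | h
    · exact absurd (orderOf_eq_one_iff.1 h) ha
    · rw [h]
  exact Sylow.ext ((key P hP haP).symm.trans (key R hR haR))

theorem card_sub_one (H : Subgroup G) :
    ((Finset.univ.filter fun a => a ∈ H).erase 1).card = Nat.card H - 1 := by
  rw [Finset.card_erase_of_mem (by simp [H.one_mem]), ← Fintype.card_subtype, Nat.card_eq_fintype_card]

theorem prime_elems_le {p : ℕ} [hp : Fact p.Prime] (hP : ∀ P : Sylow p G, Nat.card P = p) :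
    Nat.card (Sylow p G) * (p - 1) ≤ (ofOrder G p).card := by
  let F : Sylow p G → Finset G := fun P => (Finset.univ.filter fun a => a ∈ (P : Subgroup G)).erase 1
  have hF : (Finset.univ.biUnion F).card = Nat.card (Sylow p G) * (p - 1) := by
    rw [Finset.card_biUnion, Finset.sum_const_nat (m := p - 1), Finset.card_univ, Nat.card_eq_fintype_card]
    · intro P _
      rw [card_sub_one, show Nat.card (P : Subgroup G) = p from hP P]
    · intro P _ R _ hne
      refine Finset.disjoint_left.2 fun a ha ha' => hne ?_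
      simp only [F, Finset.mem_erase, Finset.mem_filter, Finset.mem_univ, true_and] at ha ha'
      exact sylow_eq_of_mem (hP P) (hP R) ha.2 ha'.2 ha.1
  rw [← hF]
  refine Finset.card_le_card fun a ha => ?_
  simp only [F, Finset.mem_biUnion, Finset.mem_univ, true_and, Finset.mem_erase, Finset.mem_filter] at ha
  obtain ⟨P, ha1, haP⟩ := ha
  refine mem_ofOrder.2 (orderOf_eq_prime ?_ ha1)
  have hd := Subgroup.orderOf_dvd_natCard (P : Subgroup G) haP
  rw [show Nat.card (P : Subgroup G) = p from hP P] at hd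
  exact orderOf_dvd_iff_pow_eq_one.1 hd

theorem prod_elems_le {p q : ℕ} [hp : Fact p.Prime] [hq : Fact q.Prime] (hpq : p ≠ q)
    (hP : ∀ P : Sylow p G, Nat.card P = p)
    (hv : ∀ P : Sylow p G, ∃ v : G, orderOf v = q ∧ ∀ a ∈ (P : Subgroup G), a * v = v * a) :
    Nat.card (Sylow p G) * ((p - 1) * (q - 1)) ≤ (ofOrder G (p * q)).card := by
  choose v hvo hvc using hv
  have hco : Nat.Coprime p q := (Nat.coprime_primes hp.out hq.out).2 hpq
  let F : Sylow p G → Finset G := fun P =>
    (((Finset.univ.filter fun a => a ∈ (P : Subgroup G)).erase 1) ×ˢ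
      ((Finset.univ.filter fun a => a ∈ Subgroup.zpowers (v P)).erase 1)).image fun ab => ab.1 * ab.2
  have hmem : ∀ P : Sylow p G, ∀ a ∈ (P : Subgroup G), ∀ b ∈ Subgroup.zpowers (v P),
      Commute a b ∧ a ^ p = 1 ∧ b ^ q = 1 := by
    intro P a ha b hb
    refine ⟨?_, ?_, ?_⟩
    · obtain ⟨j, rfl⟩ := Subgroup.mem_zpowers_iff.1 hb
      exact (show Commute a (v P) from hvc P a ha).zpow_right j
    · have hd := Subgroup.orderOf_dvd_natCard (P : Subgroup G) ha
      rw [show Nat.card (P : Subgroup G) = p from hP P] at hd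
      exact orderOf_dvd_iff_pow_eq_one.1 hd
    · have hd := Subgroup.orderOf_dvd_natCard (Subgroup.zpowers (v P)) hb
      rw [Nat.card_zpowers, hvo P] at hd
      exact orderOf_dvd_iff_pow_eq_one.1 hd
  have hF : ∀ P, (F P).card = (p - 1) * (q - 1) := by
    intro P
    rw [Finset.card_image_of_injOn, Finset.card_product, card_sub_one, card_sub_one, Nat.card_zpowers,
      hvo P, show Nat.card (P : Subgroup G) = p from hP P]
    rintro ⟨a, b⟩ hab ⟨a', b'⟩ hab' (e : a * b = a' * b')
    simp only [Finset.coe_product, Set.mem_prod, Finset.mem_coe, Finset.mem_erase, Finset.mem_filter,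
      Finset.mem_univ, true_and] at hab hab'
    obtain ⟨-, hp', -⟩ := hmem P _ ((P : Subgroup G).mul_mem ((P : Subgroup G).inv_mem hab'.1.2) hab.1.2) _
      hab.2.2
    obtain ⟨-, -, hq'⟩ := hmem P _ hab.1.2 _
      ((Subgroup.zpowers (v P)).mul_mem hab'.2.2 ((Subgroup.zpowers (v P)).inv_mem hab.2.2))
    have he : a'⁻¹ * a = b' * b⁻¹ := by rw [eq_mul_inv_iff_mul_eq, mul_assoc, e, inv_mul_cancel_left]
    have h1 := eq_one_of_two_pows hp' (he ▸ hq') hco
    rw [inv_mul_eq_one] at h1
    subst h1
    rw [mul_right_inj] at e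
    subst e
    rfl
  have hord : ∀ P, ∀ h ∈ F P, orderOf h = p * q ∧ h ^ q ∈ (P : Subgroup G) ∧ h ^ q ≠ 1 := by
    intro P h hh
    simp only [F, Finset.mem_image, Finset.mem_product, Finset.mem_erase, Finset.mem_filter, Finset.mem_univ,
      true_and] at hh
    obtain ⟨⟨a, b⟩, ⟨⟨ha1, ha⟩, hb1, hb⟩, rfl⟩ := hh
    obtain ⟨hc, hap, hbq⟩ := hmem P a ha b hb
    have ho : orderOf (a * b) = p * q := by
      rw [hc.orderOf_mul_eq_mul_orderOf_of_coprime, orderOf_eq_prime hap ha1, orderOf_eq_prime hbq hb1]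
      rw [orderOf_eq_prime hap ha1, orderOf_eq_prime hbq hb1]
      exact hco
    refine ⟨ho, ?_, fun h1 => ?_⟩
    · rw [hc.mul_pow, hbq, mul_one]
      exact Subgroup.pow_mem _ ha q
    · have hd := orderOf_dvd_of_pow_eq_one h1
      rw [ho] at hd
      exact hp.out.one_lt.ne' (Nat.eq_one_of_dvd_coprimes hco dvd_rfl (dvd_trans (dvd_mul_right p q) hd))
  have hU : (Finset.univ.biUnion F).card = Nat.card (Sylow p G) * ((p - 1) * (q - 1)) := by
    rw [Finset.card_biUnion, Finset.sum_const_nat (m := (p - 1) * (q - 1)) (fun P _ => hF P), Finset.card_univ,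
      Nat.card_eq_fintype_card]
    intro P _ R _ hne
    refine Finset.disjoint_left.2 fun a ha ha' => hne ?_
    obtain ⟨-, h1, h2⟩ := hord P a ha
    exact sylow_eq_of_mem (hP P) (hP R) h1 (hord R a ha').2.1 h2
  rw [← hU]
  refine Finset.card_le_card fun a ha => ?_
  obtain ⟨P, -, haP⟩ := Finset.mem_biUnion.1 ha
  exact mem_ofOrder.2 (hord P a haP).1

theorem card_withInvol_sum (I : Finset G) : (I.biUnion withInvol).card = ∑ i ∈ I, (withInvol i).card :=
  Finset.card_biUnion fun i _ j _ hne => Finset.disjoint_left.2 fun h hi hj =>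
    hne ((mem_withInvol.1 hi).2.symm.trans (mem_withInvol.1 hj).2)

section

omit [Fintype G]
variable [Finite G] {t x y w s : G} {E K C : Subgroup G}

/-- A conjugacy orbit under `C` is large when the stabiliser is small. -/
theorem orbit_bound [Fintype G] (D : Data t E K C) (h : G) {m : ℕ}
    (hm : Nat.card (C ⊓ Subgroup.centralizer ({h} : Set G) : Subgroup G) ≤ m) :
    1920 ≤ ((Finset.univ.filter fun c => c ∈ C).image fun c => c * h * c⁻¹).card * m := by
  calc 1920 = Nat.card C := D.core.card_C.symm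
    _ = _ := (J2Type.card_orbit C h).symm
    _ ≤ _ := Nat.mul_le_mul_left _ hm

theorem withInvol_lower [Fintype G] (F : Five t x y w s E K C) : 704 ≤ (withInvol t).card := by
  have D := F.D
  obtain ⟨u, v, U⟩ := F.three.exists_Pairs
  obtain ⟨huQ, hu2, hu1, hut⟩ := D.S.mem_X.1 U.uX
  obtain ⟨hvQ, hv2, -, -⟩ := D.S.mem_X.1 U.vX
  have ht2 := D.S.z_sq
  have hot : orderOf t = 2 := orderTwo_of D.S.z_ne ht2
  have hxC := F.three.xC
  have hyC := D.S.K_le F.y_mem
  have hxt : Commute x t := F.three.xt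
  have hyt : Commute y t := F.yt
  set q4 := u * v with hq4
  have hq4E : q4 ∈ E := E.mul_mem huQ hvQ
  have hq4x : Commute q4 x := (show Commute u x from U.ux).mul_left (show Commute v x from U.vx)
  have hq4sq : q4 * q4 = t := U.uv_sq
  have ho4 : orderOf q4 = 4 := by
    refine orderOf_eq_prime_pow (p := 2) (n := 1) ?_ ?_
    · rw [pow_one, pow_two, hq4sq]; exact D.S.z_ne
    · rw [pow_succ, pow_one, pow_mul, pow_two, pow_two, hq4sq, ht2]
  have ho6 : orderOf (x * t) = 6 := by
    rw [hxt.orderOf_mul_eq_mul_orderOf_of_coprime (by rw [F.three.x_ord, hot]; norm_num), F.three.x_ord, hot]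
  have hp6 : (x * t) ^ 3 = t := by
    rw [hxt.mul_pow, F.three.x3, one_mul, pow_succ, pow_two, ht2, one_mul]
  have ho12 : orderOf (q4 * x) = 12 := by
    rw [hq4x.orderOf_mul_eq_mul_orderOf_of_coprime (by rw [F.three.x_ord, ho4]; norm_num), F.three.x_ord, ho4]
  have hp12 : (q4 * x) ^ 6 = t := by
    rw [hq4x.mul_pow, show x ^ 6 = (x ^ 3) ^ 2 by rw [← pow_mul], F.three.x3, one_pow, mul_one,
      show q4 ^ 6 = (q4 * q4) * (q4 * q4) * (q4 * q4) by simp only [pow_succ, pow_zero, one_mul, mul_assoc],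
      hq4sq, ht2, one_mul]
  have h10 : ∀ j : ℕ, ¬ 5 ∣ j → orderOf (y ^ j * t) = 10 ∧ (y ^ j * t) ^ 5 = t := by
    intro j hj
    have hoy : orderOf (y ^ j) = 5 := by
      rw [Nat.Coprime.orderOf_pow (by rw [F.y_ord]; exact (Nat.Prime.coprime_iff_not_dvd (by norm_num)).2 hj), F.y_ord]
    refine ⟨by rw [(hyt.pow_left j).orderOf_mul_eq_mul_orderOf_of_coprime (by rw [hoy, hot]; norm_num), hoy, hot], ?_⟩
    rw [(hyt.pow_left j).mul_pow, ← pow_mul, mul_comm, pow_mul, F.y5, one_pow, one_mul,
      show t ^ 5 = (t * t) * (t * t) * t by simp only [pow_succ, pow_zero, one_mul, mul_assoc], ht2, one_mul, one_mul]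
  have hconjI : ∀ h : G, ∀ n : ℕ, orderOf h = 2 * n → h ^ n = t →
      ∀ a ∈ (Finset.univ.filter fun c => c ∈ C).image (fun c => c * h * c⁻¹),
        a ∈ withInvol t ∧ orderOf a = 2 * n := by
    intro h n ho hp a ha
    obtain ⟨c, hc, rfl⟩ := Finset.mem_image.1 ha
    have hcC := (Finset.mem_filter.1 hc).2
    refine ⟨mem_withInvol.2 ⟨by rw [orderOf_conjugate, ho]; exact dvd_mul_right 2 n, ?_⟩, by rw [orderOf_conjugate, ho]⟩
    rw [orderOf_conjugate, ho, Nat.mul_div_cancel_left n two_pos, conj_pow, hp, D.memC.1 hcC, mul_inv_cancel_right]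
  set O6 := (Finset.univ.filter fun c => c ∈ C).image fun c => c * (x * t) * c⁻¹ with hO6
  set O12 := (Finset.univ.filter fun c => c ∈ C).image fun c => c * (q4 * x) * c⁻¹ with hO12
  set Oa := (Finset.univ.filter fun c => c ∈ C).image fun c => c * (y ^ 1 * t) * c⁻¹ with hOa
  set Ob := (Finset.univ.filter fun c => c ∈ C).image fun c => c * (y ^ 2 * t) * c⁻¹ with hOb
  -- stabilisers
  have hstx : ∀ c ∈ C, c * x = x * c → ∃ q ∈ ({1, t, u, u * t, v, v * t, u * v, u * v * t} : Finset G),
      ∃ a < 3, c = q * x ^ a := by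
    intro c hc hcx
    obtain ⟨q, k, hq, hqx, hk, rfl⟩ := F.three.cent_C hc hcx
    obtain ⟨a, ha, rfl⟩ := F.three.pow_x hk
    exact ⟨q, U.cases hq hqx, a, ha, rfl⟩
  have h6card : 80 ≤ O6.card := by
    have hm : Nat.card (C ⊓ Subgroup.centralizer ({x * t} : Set G) : Subgroup G) ≤ 24 := by
      refine (card_le_of_subset (s := (({1, t, u, u * t, v, v * t, u * v, u * v * t} : Finset G) ×ˢ Finset.range 3).image
        fun p => p.1 * x ^ p.2) fun c hc => ?_).trans (Finset.card_image_le.trans ?_)
      · have h := Subgroup.mem_centralizer_singleton_iff.1 hc.2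
        have hcx : c * x = x * c := by
          have e4 : (x * t) ^ 4 = x := by
            rw [hxt.mul_pow, show x ^ 4 = x ^ 3 * x by rw [pow_succ], F.three.x3, one_mul,
              show t ^ 4 = (t * t) * (t * t) by simp only [pow_succ, pow_zero, one_mul, mul_assoc], ht2, one_mul, mul_one]
          rw [← e4]
          exact ((show Commute c (x * t) from h).pow_right 4).eq
        obtain ⟨q, hq, a, ha, rfl⟩ := hstx c hc.1 hcx
        exact Finset.mem_image.2 ⟨(q, a), Finset.mem_product.2 ⟨hq, Finset.mem_range.2 ha⟩, rfl⟩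
      · rw [Finset.card_product, Finset.card_range]
        refine Nat.mul_le_mul_right (k := 3) (?_ : _ ≤ 8)
        repeat (first | exact (Finset.card_singleton _).le | refine (Finset.card_insert_le _ _).trans (Nat.succ_le_succ ?_))
    have := orbit_bound D (x * t) hm
    rw [hO6]
    refine Nat.le_of_mul_le_mul_right (show 80 * 24 ≤ _ * 24 from ?_) (by norm_num : 0 < 24)
    convert this
  have h12card : 160 ≤ O12.card := by
    have hm : Nat.card (C ⊓ Subgroup.centralizer ({q4 * x} : Set G) : Subgroup G) ≤ 12 := by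
      refine (card_le_of_subset (s := (({1, t, q4, q4 * t} : Finset G) ×ˢ Finset.range 3).image
        fun p => p.1 * x ^ p.2) fun c hc => ?_).trans (Finset.card_image_le.trans ?_)
      · have h := Subgroup.mem_centralizer_singleton_iff.1 hc.2
        have e4 : (q4 * x) ^ 4 = x := by
          rw [hq4x.mul_pow, show x ^ 4 = x ^ 3 * x by rw [pow_succ], F.three.x3, one_mul,
            show q4 ^ 4 = (q4 * q4) * (q4 * q4) by simp only [pow_succ, pow_zero, one_mul, mul_assoc], hq4sq, ht2,
            one_mul]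
        have e9 : (q4 * x) ^ 9 = q4 := by
          rw [hq4x.mul_pow, show x ^ 9 = (x ^ 3) ^ 3 by rw [← pow_mul], F.three.x3, one_pow, mul_one,
            show q4 ^ 9 = q4 ^ 4 * q4 ^ 4 * q4 by simp only [pow_succ, pow_zero, one_mul, mul_assoc],
            show q4 ^ 4 = (q4 * q4) * (q4 * q4) by simp only [pow_succ, pow_zero, one_mul, mul_assoc], hq4sq, ht2,
            one_mul, one_mul]
        have hcx : c * x = x * c := e4 ▸ ((show Commute c (q4 * x) from h).pow_right 4).eq
        have hcq : Commute c q4 := e9 ▸ (show Commute c (q4 * x) from h).pow_right 9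
        obtain ⟨q, hq, a, ha, rfl⟩ := hstx c hc.1 hcx
        have hqq : Commute q q4 := by
          have h2 := hcq.mul_left ((hq4x.symm.pow_left a).inv_left)
          rwa [mul_inv_cancel_right] at h2
        refine Finset.mem_image.2 ⟨(q, a), Finset.mem_product.2 ⟨?_, Finset.mem_range.2 ha⟩, rfl⟩
        have hbadu : ¬ Commute u q4 := fun e => by
          have e' : u * v = v * u := by
            have h3 : u * (u * v) = u * v * u := e.eq
            rw [← mul_assoc, hu2, one_mul] at h3
            calc u * v = u * (u * v * u) := by rw [← h3]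
              _ = (u * u) * v * u := by group
              _ = v * u := by rw [hu2, one_mul]
          exact D.S.anti_ne U.anti e'
        have hbadv : ¬ Commute v q4 := fun e => by
          have e' : u * v = v * u := by
            have h3 : v * (u * v) = u * v * v := e.eq
            rw [mul_assoc u v v, hv2, mul_one] at h3
            calc u * v = v * (u * v) * v := by rw [h3]
              _ = v * u * (v * v) := by group
              _ = v * u := by rw [hv2, mul_one]
          exact D.S.anti_ne U.anti e'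
        have htq : Commute t q4 := (D.S.mul_z hq4E).symm
        simp only [Finset.mem_insert, Finset.mem_singleton] at hq ⊢
        rcases hq with rfl | rfl | rfl | rfl | rfl | rfl | rfl | rfl
        · exact Or.inl rfl
        · exact Or.inr (Or.inl rfl)
        · exact absurd hqq hbadu
        · exact absurd (by simpa [mul_assoc, ht2] using hqq.mul_left htq) hbadu
        · exact absurd hqq hbadv
        · exact absurd (by simpa [mul_assoc, ht2] using hqq.mul_left htq) hbadv
        · exact Or.inr (Or.inr (Or.inl rfl))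
        · exact Or.inr (Or.inr (Or.inr rfl))
      · rw [Finset.card_product, Finset.card_range]
        refine Nat.mul_le_mul_right (k := 3) (?_ : _ ≤ 4)
        repeat (first | exact (Finset.card_singleton _).le | refine (Finset.card_insert_le _ _).trans (Nat.succ_le_succ ?_))
    have := orbit_bound D (q4 * x) hm
    rw [hO12]
    refine Nat.le_of_mul_le_mul_right (show 160 * 12 ≤ _ * 12 from ?_) (by norm_num : 0 < 12)
    convert this
  have hstab10 : ∀ j i : ℕ, ((y ^ j * t) ^ i = y) →
      192 ≤ ((Finset.univ.filter fun c => c ∈ C).image fun c => c * (y ^ j * t) * c⁻¹).card := by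
    intro j i hji
    have hm : Nat.card (C ⊓ Subgroup.centralizer ({y ^ j * t} : Set G) : Subgroup G) ≤ 10 := by
      refine (card_le_of_subset (s := (({1, t} : Finset G) ×ˢ Finset.range 5).image
        fun p => p.1 * y ^ p.2) fun c hc => ?_).trans (Finset.card_image_le.trans ?_)
      · have h := Subgroup.mem_centralizer_singleton_iff.1 hc.2
        have hcy : c * y = y * c := hji ▸ ((show Commute c (y ^ j * t) from h).pow_right i).eq
        obtain ⟨q, hq, k, hk, rfl⟩ := D.five_decomp F.y_mem F.y_ord hc.1 hcy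
        obtain ⟨a, ha, rfl⟩ := conj_mem_zpowers_pow hk
        rw [F.y_ord] at ha
        exact Finset.mem_image.2 ⟨(q, a), Finset.mem_product.2 ⟨by simpa using hq, Finset.mem_range.2 ha⟩, rfl⟩
      · rw [Finset.card_product, Finset.card_range]
        refine Nat.mul_le_mul_right (k := 5) (?_ : _ ≤ 2)
        exact (Finset.card_insert_le _ _).trans (by simp)
    have := orbit_bound D (y ^ j * t) hm
    omega
  have ht6 : ∀ i : ℕ, t ^ (2 * i) = 1 := fun i => by rw [pow_mul, pow_two, ht2, one_pow]
  have hacard : 192 ≤ Oa.card := hstab10 1 6 (by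
    rw [(hyt.pow_left 1).mul_pow, show 6 = 2 * 3 by norm_num, ht6, mul_one, pow_one,
      show y ^ (2 * 3) = y ^ 5 * y by rw [← pow_succ], F.y5, one_mul])
  have hbcard : 192 ≤ Ob.card := hstab10 2 8 (by
    rw [(hyt.pow_left 2).mul_pow, show 8 = 2 * 4 by norm_num, ht6, mul_one, ← pow_mul,
      show 2 * (2 * 4) = 5 * 3 + 1 by norm_num, pow_succ, pow_mul, F.y5, one_pow, one_mul])
  -- elements of order 8
  set KI := Finset.univ.filter fun k => k ∈ K ∧ k ≠ 1 ∧ k * k = 1 with hKI
  set O8 := KI.biUnion fun k => (D.S.X.filter fun q => q * k ≠ k * q).image fun q => q * k with hO8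
  have hKIc : KI.card = 15 := by
    obtain ⟨e⟩ := D.S.equivK
    rw [← alt5_invol]
    refine (Finset.card_bij (fun a _ => ((e.symm a : K) : G)) ?_ ?_ ?_).symm
    · intro a ha
      rw [Finset.mem_filter] at ha
      simp only [hKI, Finset.mem_filter, Finset.mem_univ, true_and]
      refine ⟨SetLike.coe_mem _, fun h => ha.2.1 ?_, ?_⟩
      · have : e.symm a = 1 := Subtype.ext h
        simpa using congrArg e this
      · rw [← Subgroup.coe_mul, ← map_mul, ha.2.2, map_one]; rfl
    · intro a _ b _ h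
      exact e.symm.injective (Subtype.ext h)
    · intro k hk
      simp only [hKI, Finset.mem_filter, Finset.mem_univ, true_and] at hk
      refine ⟨e ⟨k, hk.1⟩, Finset.mem_filter.2 ⟨Finset.mem_univ _, fun h => hk.2.1 ?_, ?_⟩, by simp⟩
      · have : (⟨k, hk.1⟩ : K) = 1 := e.injective (h.trans (map_one e).symm)
        exact congrArg Subtype.val this
      · rw [← map_mul, show (⟨k, hk.1⟩ : K) * ⟨k, hk.1⟩ = 1 from Subtype.ext hk.2.2, map_one]
  have h8ord : ∀ a ∈ O8, a ∈ withInvol t ∧ orderOf a = 8 := by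
    intro a ha
    simp only [hO8, hKI, Finset.mem_biUnion, Finset.mem_image, Finset.mem_filter, Finset.mem_univ, true_and] at ha
    obtain ⟨k, ⟨hk, hk1, hk2⟩, q, ⟨hqX, hqk⟩, rfl⟩ := ha
    have hkC := D.S.K_le hk
    obtain ⟨hqQ, hq2, -, -⟩ := D.S.mem_X.1 hqX
    have hpr : D.S.pr (k * q * k⁻¹) ≠ D.S.pr q := fun e =>
      hqk (((D.core.cq hk hk2 hk1).2.2.1 q hqQ).2 (Or.inr (Or.inr ⟨hqX, e⟩)))
    have hq'X := D.S.conj_X hkC hqX
    set q' := k * q * k⁻¹ with hq'
    have hanti := D.S.anti_of_ne hqX hq'X (Ne.symm hpr)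
    have hsq : q * k * (q * k) = q * q' := by
      rw [hq', show k⁻¹ = k from inv_eq_of_mul_eq_one_right hk2]; group
    have hqq : q * q' * (q * q') = t := by
      obtain ⟨hq'Q, hq'2, -, -⟩ := D.S.mem_X.1 hq'X
      rw [show q * q' * (q * q') = q * (q' * q) * q' by group, D.S.anti_symm hq'Q hanti hqQ, ← mul_assoc q t,
        D.S.mul_z hqQ, show t * q * (q * q') * q' = t * (q * q) * (q' * q') by group, hq2, hq'2, mul_one, mul_one]
    have h4 : (q * k) ^ 4 = t := by
      rw [show (q * k) ^ 4 = (q * k * (q * k)) * (q * k * (q * k)) by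
        simp only [pow_succ, pow_zero, one_mul, mul_assoc], hsq, hqq]
    have ho : orderOf (q * k) = 8 := by
      refine orderOf_eq_prime_pow (p := 2) (n := 2) ?_ ?_
      · rw [show (2 : ℕ) ^ 2 = 4 by norm_num, h4]; exact D.S.z_ne
      · rw [show (2 : ℕ) ^ (2 + 1) = 4 * 2 by norm_num, pow_mul, h4, pow_two, ht2]
    exact ⟨mem_withInvol.2 ⟨by rw [ho]; norm_num, by rw [ho]; exact h4⟩, ho⟩
  have h8card : 120 ≤ O8.card := by
    rw [hO8, Finset.card_biUnion]
    · calc 120 = ∑ k ∈ KI, 8 := by rw [Finset.sum_const, hKIc]; rfl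
        _ ≤ _ := Finset.sum_le_sum fun k hk => by
          obtain ⟨hkK, hk1, hk2⟩ := (Finset.mem_filter.1 hk).2
          rw [Finset.card_image_of_injective _ (mul_left_injective k)]
          have hsplit := Finset.card_filter_add_card_filter_not (s := D.S.X) (fun q => q * k = k * q)
          rw [D.S.card_X] at hsplit
          have hW : (insert 1 (insert t (D.S.X.filter fun q => q * k = k * q))).card ≤ 4 := by
            rw [← (D.core.cq hkK hk2 hk1).1, Nat.card_eq_fintype_card, Fintype.card_subtype]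
            refine Finset.card_le_card fun q hq => ?_
            simp only [Finset.mem_insert, Finset.mem_filter, D.S.mem_X] at hq
            refine Finset.mem_filter.2 ⟨Finset.mem_univ _, ?_⟩
            rcases hq with rfl | rfl | ⟨⟨hqQ, -⟩, hqk⟩
            · exact Subgroup.one_mem _
            · exact ⟨D.S.z_mem, Subgroup.mem_centralizer_singleton_iff.2 (D.memC.1 (D.S.K_le hkK)).symm⟩
            · exact ⟨hqQ, Subgroup.mem_centralizer_singleton_iff.2 hqk⟩
          rw [Finset.card_insert_of_notMem (by simp [D.S.mem_X, D.S.z_ne.symm]),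
            Finset.card_insert_of_notMem (by simp [D.S.mem_X])] at hW
          simp only [ne_eq] at hsplit ⊢
          omega
    · intro k hk k' hk' hne
      refine Finset.disjoint_left.2 fun a ha ha' => hne ?_
      simp only [Finset.mem_image, Finset.mem_filter, D.S.mem_X] at ha ha'
      obtain ⟨q, ⟨⟨hq, -⟩, -⟩, rfl⟩ := ha
      obtain ⟨q', ⟨⟨hq', -⟩, -⟩, e⟩ := ha'
      exact ((D.core.decomp_unique hq hq' (Finset.mem_filter.1 hk).2.1 (Finset.mem_filter.1 hk').2.1 e.symm).2)
  -- disjointness
  have e6 := hconjI _ 3 (by rw [ho6]) hp6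
  have e12 := hconjI _ 6 (by rw [ho12]) hp12
  have ea := hconjI _ 5 (by rw [(h10 1 (by norm_num)).1]) (h10 1 (by norm_num)).2
  have eb := hconjI _ 5 (by rw [(h10 2 (by norm_num)).1]) (h10 2 (by norm_num)).2
  have hab : Disjoint Oa Ob := by
    refine Finset.disjoint_left.2 fun a ha ha' => ?_
    obtain ⟨c, hc, rfl⟩ := Finset.mem_image.1 ha
    obtain ⟨c', hc', e⟩ := Finset.mem_image.1 ha'
    have hcC := (Finset.mem_filter.1 hc).2
    have hc'C := (Finset.mem_filter.1 hc').2
    have e2 : (c'⁻¹ * c) * (y ^ 1 * t) * (c'⁻¹ * c)⁻¹ = y ^ 2 * t := by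
      rw [show (c'⁻¹ * c) * (y ^ 1 * t) * (c'⁻¹ * c)⁻¹ = c'⁻¹ * (c * (y ^ 1 * t) * c⁻¹) * c' by group, ← e]
      group
    have hd : c'⁻¹ * c ∈ C := C.mul_mem (C.inv_mem hc'C) hcC
    refine (D.five_not_sq_C F.y_mem F.y_ord hd).1 (mul_right_cancel (b := t) ?_)
    rw [← e2, pow_one, mul_assoc (c'⁻¹ * c * y), (D.memC.1 (C.inv_mem hd)), ← mul_assoc, ← mul_assoc,
      mul_assoc (c'⁻¹ * c) y t]
  have hdis : ∀ {A B : Finset G} {m n : ℕ}, (∀ a ∈ A, orderOf a = m) → (∀ b ∈ B, orderOf b = n) → m ≠ n →
      Disjoint A B := fun hA hB hne => Finset.disjoint_left.2 fun a ha hb => hne ((hA a ha).symm.trans (hB a hb))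
  have hall : ∀ a ∈ Oa ∪ Ob, orderOf a = 10 := fun a ha => by
    rcases Finset.mem_union.1 ha with h | h
    · exact (ea a h).2
    · exact (eb a h).2
  have h2 : ∀ a ∈ ({t} : Finset G), orderOf a = 2 := fun a ha => by rw [Finset.mem_singleton.1 ha, hot]
  have hsub : {t} ∪ O6 ∪ O8 ∪ (Oa ∪ Ob) ∪ O12 ⊆ withInvol t := by
    intro a ha
    simp only [Finset.mem_union, Finset.mem_singleton] at ha
    rcases ha with (((rfl | h) | h) | (h | h)) | h
    · exact mem_withInvol.2 ⟨by rw [hot], by rw [hot]; norm_num⟩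
    exacts [(e6 a h).1, (h8ord a h).1, (ea a h).1, (eb a h).1, (e12 a h).1]
  have hcard := Finset.card_le_card hsub
  rw [Finset.card_union_of_disjoint, Finset.card_union_of_disjoint, Finset.card_union_of_disjoint,
    Finset.card_union_of_disjoint, Finset.card_union_of_disjoint hab, Finset.card_singleton] at hcard
  · omega
  · exact hdis h2 (fun a h => (e6 a h).2) (by norm_num)
  · exact Finset.disjoint_union_left.2 ⟨hdis h2 (fun a h => (h8ord a h).2) (by norm_num),
      hdis (fun a h => (e6 a h).2) (fun a h => (h8ord a h).2) (by norm_num)⟩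
  · exact Finset.disjoint_union_left.2 ⟨Finset.disjoint_union_left.2 ⟨hdis h2 hall (by norm_num),
      hdis (fun a h => (e6 a h).2) hall (by norm_num)⟩, hdis (fun a h => (h8ord a h).2) hall (by norm_num)⟩
  · exact Finset.disjoint_union_left.2 ⟨Finset.disjoint_union_left.2 ⟨Finset.disjoint_union_left.2
      ⟨hdis h2 (fun a h => (e12 a h).2) (by norm_num), hdis (fun a h => (e6 a h).2) (fun a h => (e12 a h).2) (by norm_num)⟩,
      hdis (fun a h => (h8ord a h).2) (fun a h => (e12 a h).2) (by norm_num)⟩,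
      hdis hall (fun a h => (e12 a h).2) (by norm_num)⟩

end

end CfsgLib.J3Type
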