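import Cfsg.Agent.Lib.J3Type.Entry
import Cfsg.Agent.Lib.J2Type.Order
import Cfsg.Agent.S0215

/-!
Groups with a 2-central involution whose centraliser is `2^(1+4).A₅`.
-/

set_option autoImplicit false

open scoped Classical

namespace CfsgLib.J3Type

open CfsgLib.J2Order

variable {G : Type*} [Group G] [Finite G]

/-- A 2-central involution of a simple group commutes with another conjugate. -/
theorem exists_commuting_conj [IsSimpleGroup G] {t : G} (ht : orderOf t = 2) (P : Sylow 2 G) (htP : t ∈ P)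
    (hPt : ∀ x ∈ P, x * t = t * x) (h3 : 2 < Nat.card G) :
    ∃ g : G, g * t * g⁻¹ ≠ t ∧ g * t * g⁻¹ * t = t * (g * t * g⁻¹) := by
  by_contra hcon
  push Not at hcon
  obtain ⟨N, hN, hodd, hcomm⟩ := Cfsg.Agent.S0215.result P t ht htP fun g hg => by
    by_contra hne
    exact hcon g hne (hPt _ hg)
  rcases hN.eq_bot_or_eq_top with h | h
  · -- `t` is central
    have htc : ∀ g : G, t * g = g * t := fun g => by
      have := hcomm g
      rw [h, Subgroup.mem_bot, mul_inv_eq_one, mul_inv_eq_iff_eq_mul] at this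
      exact this
    have hn : (Subgroup.zpowers t).Normal := ⟨fun n hn g => by
      obtain ⟨j, rfl⟩ := Subgroup.mem_zpowers_iff.1 hn
      rw [((show Commute g t from (htc g).symm).zpow_right j).eq, mul_inv_cancel_right]
      exact Subgroup.zpow_mem _ (Subgroup.mem_zpowers t) j⟩
    rcases hn.eq_bot_or_eq_top with e | e
    · rw [Subgroup.zpowers_eq_bot] at e
      rw [e, orderOf_one] at ht
      omega
    · have := congrArg (fun H : Subgroup G => Nat.card H) e
      simp only [Nat.card_zpowers, ht, Subgroup.card_top] at this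
      omega
  · rw [h, Subgroup.card_top] at hodd
    have hd := ht ▸ orderOf_dvd_natCard t
    rcases hodd with ⟨m, hm⟩
    omega

theorem dichotomy [IsSimpleGroup G] (t : G) (ht : Cfsg.IsTwoCentralInvolution t)
    (E : Subgroup (Subgroup.centralizer ({t} : Set G))) [E.Normal] (hE : Nat.card E = 32)
    (hX : Cfsg.IsExtraspecial 2 E)
    (e : (Subgroup.centralizer ({t} : Set G)) ⧸ E ≃* alternatingGroup (Fin 5)) :
    Nat.card G = 604800 ∨ Nat.card G = 50232960 := by
  haveI : Fact (Nat.Prime 2) := ⟨Nat.prime_two⟩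
  have := Fintype.ofFinite G
  obtain ⟨ht2o, P, htP, hPt⟩ := ht
  have memC : ∀ g : G, g ∈ Subgroup.centralizer ({t} : Set G) ↔ g * t = t * g :=
    fun _ => Subgroup.mem_centralizer_singleton_iff
  have h32 : 32 ∣ Nat.card G := hE ▸ dvd_trans (Subgroup.card_subgroup_dvd_card E)
    (Subgroup.card_subgroup_dvd_card _)
  have h3 : 2 < Nat.card G := by
    have := Nat.le_of_dvd Nat.card_pos h32
    omega
  obtain ⟨g0, hg1, hg2⟩ := exists_commuting_conj ht2o P htP hPt h3
  obtain ⟨K, hK⟩ := exists_core ht2o memC E hE hX e hg1 hg2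
  by_cases hone : ∀ x : G, orderOf x = 2 → IsConj x t
  · exact Or.inr ((⟨hK, hone⟩ : Data t _ K _).card_eq inferInstance)
  left
  push Not at hone
  obtain ⟨w, hw, hwt⟩ := hone
  set Q := E.map (Subgroup.centralizer ({t} : Set G)).subtype with hQ
  have S := hK.setup
  obtain ⟨o⟩ := J2Type.omega_equiv_alt5
  obtain ⟨-, hQz, -⟩ := J2Type.exists_core_aux t ht2o (Subgroup.centralizer ({t} : Set G)) memC E (centralizer_le ht2o memC E hE hX e hg1 hg2) hX
    (by rw [hE]; norm_num) (e.trans o.symm)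
  have hcov : ∀ x : G, orderOf x = 2 → ∃ g : G, g * x * g⁻¹ ∈ (Subgroup.centralizer ({t} : Set G)) := by
    intro x hx
    obtain ⟨R, hR⟩ := (IsPGroup.of_card (n := 1) (by rw [Nat.card_zpowers, hx, pow_one] :
      Nat.card (Subgroup.zpowers x) = 2 ^ 1)).exists_le_sylow
    obtain ⟨g, hg⟩ := MulAction.exists_smul_eq G R P
    refine ⟨g, (memC _).2 (hPt _ ?_)⟩
    show g * x * g⁻¹ ∈ (P : Subgroup G)
    rw [← hg, Sylow.coe_subgroup_smul]
    exact ⟨x, hR (Subgroup.mem_zpowers x), rfl⟩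
  -- some conjugate of `t` other than `t` lies in `Q`
  have hnwc : ∃ g : G, (∃ hq : g * t * g⁻¹ ∈ (Subgroup.centralizer ({t} : Set G)), (⟨g * t * g⁻¹, hq⟩ : (Subgroup.centralizer ({t} : Set G))) ∈ E) ∧ g * t * g⁻¹ ≠ t := by
    by_contra hcon
    have hQt : ∀ a ∈ Q, IsConj a t → a = t := by
      intro a ha hat
      obtain ⟨g, hg⟩ := isConj_iff.1 hat.symm
      by_contra hne
      obtain ⟨c, hc, hca⟩ := ha
      subst hg
      refine hcon ⟨g, ⟨S.Q_le ⟨c, hc, hca⟩, ?_⟩, hne⟩
      rwa [show (⟨g * t * g⁻¹, _⟩ : (Subgroup.centralizer ({t} : Set G))) = c from Subtype.ext hca.symm]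
    obtain ⟨k, hk, hk2, hk1⟩ := hK.exists_invol
    have hkQ := hK.notQ_of_K hk hk1
    have hout : ∀ a ∈ (Subgroup.centralizer ({t} : Set G)), a * a = 1 → a ∉ Q → IsConj a k := fun a ha ha2 haQ => by
      obtain ⟨c, -, hc⟩ := hK.conj_out ha ha2 haQ hk hk2 hk1
      exact isConj_iff.2 ⟨c, hc⟩
    have hkt : IsConj k t := by
      have hxC : g0 * t * g0⁻¹ ∈ (Subgroup.centralizer ({t} : Set G)) := (memC _).2 hg2
      have hxQ : g0 * t * g0⁻¹ ∉ Q := fun h => hg1 (hQt _ h (isConj_iff.2 ⟨g0, rfl⟩).symm)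
      exact (hout _ hxC (conj_sq_one S.z_sq) hxQ).symm.trans (isConj_iff.2 ⟨g0, rfl⟩).symm
    obtain ⟨g, hg⟩ := isConj_iff.1 hkt
    obtain ⟨hWc, hWsq, -, -⟩ := hK.cq hk hk2 hk1
    obtain ⟨u, hu, hu1, hut⟩ : ∃ u ∈ (Q ⊓ Subgroup.centralizer ({k} : Set G) : Subgroup G), u ≠ 1 ∧ u ≠ t := by
      by_contra hall
      push Not at hall
      have := card_le_of_subset (H := (Q ⊓ Subgroup.centralizer ({k} : Set G) : Subgroup G)) (s := {1, t})
        fun a ha => by simpa using Classical.or_iff_not_imp_left.2 (hall a ha)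
      rw [hWc] at this
      have := this.trans (Finset.card_insert_le _ _)
      simp at this
    obtain ⟨huQ, huk⟩ := hu
    replace huk : u * k = k * u := Subgroup.mem_centralizer_singleton_iff.1 huk
    replace huQ : u ∈ Q := huQ
    have hu2 := hWsq u huQ huk
    have hkt' : k * t = t * k := S.z_cen k (S.K_le hk)
    have hout' : ∀ a : G, a ∈ Q → a * a = 1 → a ≠ 1 → a ≠ t → a * k = k * a → g * a * g⁻¹ ∈ Q := by
      intro a haQ ha2 ha1 hat hak
      by_contra hgQ
      have hgC : g * a * g⁻¹ ∈ (Subgroup.centralizer ({t} : Set G)) := by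
        rw [memC, ← hg]; exact conj_comm hak
      have : IsConj a t := (isConj_iff.2 ⟨g, rfl⟩ : IsConj a (g * a * g⁻¹)).trans
        ((hout _ hgC (conj_sq_one ha2) hgQ).trans hkt)
      exact hat (hQt a haQ this)
    have h1 := hout' u huQ hu2 hu1 hut huk
    have hutt : u * t ≠ t := fun e => hu1 (mul_eq_right.1 e)
    have hut1 : u * t ≠ 1 := fun e => hut (by
      rw [eq_inv_of_mul_eq_one_left e, inv_eq_of_mul_eq_one_right S.z_sq])
    have h2 := hout' (u * t) (Q.mul_mem huQ S.z_mem)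
      (by rw [show u * t * (u * t) = u * (t * u) * t by group, ← S.mul_z huQ,
        show u * (u * t) * t = u * u * (t * t) by group, hu2, S.z_sq, one_mul]) hut1 hutt
      ((show Commute u k from huk).mul_left (show Commute t k from hkt'.symm)).eq
    have hgt : g * t * g⁻¹ ∈ Q := by
      have h := Q.mul_mem (Q.inv_mem h1) h2
      rwa [show (g * u * g⁻¹)⁻¹ * (g * (u * t) * g⁻¹) = g * t * g⁻¹ by group] at h
    have hgC : g ∈ (Subgroup.centralizer ({t} : Set G)) := (memC g).2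
      (mul_inv_eq_iff_eq_mul.1 (hQt _ hgt (isConj_iff.2 ⟨g, rfl⟩).symm))
    refine hkQ ?_
    have h := S.conj_mem g⁻¹ ((Subgroup.centralizer ({t} : Set G)).inv_mem hgC) t S.z_mem
    rwa [show g⁻¹ * t * g⁻¹⁻¹ = k by rw [← hg]; group] at h
  have hQz' := hQz hnwc
  obtain ⟨gw, hgw⟩ := hcov w hw
  have hcw : IsConj w (gw * w * gw⁻¹) := isConj_iff.2 ⟨gw, rfl⟩
  have hwo : orderOf (gw * w * gw⁻¹) = 2 := order_of_conj hw hcw
  have hwQ : gw * w * gw⁻¹ ∉ Q := fun h => hwt (hcw.trans (hQz' _ h hwo))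
  have H : J2Type.Hyp t Q K (Subgroup.centralizer ({t} : Set G)) :=
    ⟨hK, hQz', ⟨_, hgw, hwo, hwQ, fun h => hwt (hcw.trans h)⟩, hcov⟩
  obtain ⟨k, hk, hk2, hk1⟩ := hK.exists_invol
  obtain ⟨V, M0, g, D⟩ := (⟨H, hk, hk2, hk1⟩ : J2Type.Pair t k Q K (Subgroup.centralizer ({t} : Set G))).exists_cent
  exact D.order

end CfsgLib.J3Type
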