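import Cfsg.Agent.Lib.J3Type.Main

/-!
From the centraliser to the split data.
-/

set_option autoImplicit false

open scoped Classical

namespace CfsgLib.J3Type

variable {G : Type*} [Group G] [Finite G]

/-- One class of involutions gives the data. -/
theorem exists_data (hone : ∀ x y : G, orderOf x = 2 → orderOf y = 2 → IsConj x y) (t : G) (ht : orderOf t = 2)
    (E : Subgroup (Subgroup.centralizer ({t} : Set G))) [E.Normal] (hE : Nat.card E = 32)
    (hX : Cfsg.IsExtraspecial 2 E)
    (e : (Subgroup.centralizer ({t} : Set G)) ⧸ E ≃* alternatingGroup (Fin 5)) :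
    ∃ (Q K C : Subgroup G), Data t Q K C ∧ C = Subgroup.centralizer ({t} : Set G) ∧
      Q = E.map (Subgroup.centralizer ({t} : Set G)).subtype := by
  have := Fintype.ofFinite G
  have memC : ∀ g : G, g ∈ Subgroup.centralizer ({t} : Set G) ↔ g * t = t * g :=
    fun _ => Subgroup.mem_centralizer_singleton_iff
  have B := exists_base ht memC E hE hX e
  obtain ⟨x, hx⟩ : B.X.Nonempty := Finset.card_pos.1 (by rcases B.card_X_cases with h | h <;> omega)
  obtain ⟨hxQ, hx2, hx1, hxt⟩ := B.mem_X.1 hx
  obtain ⟨g, hg⟩ := isConj_iff.1 (hone t x ht (J2Order.orderTwo_of hx1 hx2))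
  obtain ⟨K, hK⟩ := exists_core ht memC E hE hX e (g := g) (by rw [hg]; exact hxt) (by rw [hg]; exact B.mul_z hxQ)
  exact ⟨_, K, _, ⟨hK, fun x hx => hone x t hx ht⟩, rfl, rfl⟩

end CfsgLib.J3Type
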