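import Cfsg.Agent.Lib.J3Type.Local

/-!
One class of involutions with centraliser `2^(1+4).A₅`: an element of order 3 centralised by an
involution commutes with an element of order 5.
-/

set_option autoImplicit false

open scoped Classical

namespace CfsgLib.J3Type

open CfsgLib.J2Order

theorem perm6_order : ∀ σ : Equiv.Perm (Fin 6), σ ^ 15 = 1 → σ ^ 5 = 1 ∨ σ ^ 3 = 1 := by
  decide +kernel

/-- An element of order 5 acting on a subgroup: the fixed points. -/
theorem five_fixed {X : Type*} [Group X] [Finite X] (H : Subgroup X) {e : X} (he : e ^ 5 = 1)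
    (h : ∀ a ∈ H, e * a * e⁻¹ ∈ H) :
    Nat.card H ≡ Nat.card (H ⊓ Subgroup.centralizer ({e} : Set X) : Subgroup X) [MOD 5] := by
  have hpow : ∀ (n : ℕ), ∀ a ∈ H, e ^ n * a * (e ^ n)⁻¹ ∈ H := by
    intro n
    induction n with
    | zero => intro a ha; simpa using ha
    | succ n ih =>
      intro a ha
      rw [pow_succ', show e * e ^ n * a * (e * e ^ n)⁻¹ = e * (e ^ n * a * (e ^ n)⁻¹) * e⁻¹ by group]
      exact h _ (ih a ha)
  have hinv : ∀ a ∈ H, e⁻¹ * a * e ∈ H := fun a ha => by
    have h4 := hpow 4 a ha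
    rwa [show e ^ 4 = e⁻¹ from eq_inv_of_mul_eq_one_left (by rw [← pow_succ]; exact he), inv_inv] at h4
  let π : Equiv.Perm H :=
  { toFun := fun a => ⟨e * a * e⁻¹, h a a.2⟩
    invFun := fun a => ⟨e⁻¹ * a * e, hinv a a.2⟩
    left_inv := fun a => Subtype.ext (by show e⁻¹ * (e * a * e⁻¹) * e = (a : X); group)
    right_inv := fun a => Subtype.ext (by show e * (e⁻¹ * a * e) * e⁻¹ = (a : X); group) }
  have hπ : ∀ (n : ℕ) (a : H), (((π ^ n) a : H) : X) = e ^ n * a * (e ^ n)⁻¹ := by
    intro n
    induction n with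
    | zero => intro a; simp
    | succ n ih =>
      intro a
      rw [pow_succ', Equiv.Perm.mul_apply]
      show e * (((π ^ n) a : H) : X) * e⁻¹ = _
      rw [ih, pow_succ']
      group
  have hmod := Base.fixed_count π (Equiv.ext fun a => Subtype.ext (by rw [hπ, he]; simp))
  refine hmod.trans ?_
  rw [Nat.ModEq]
  congr 1
  refine Nat.card_congr ⟨fun a => ⟨a.1.1, a.1.2, Subgroup.mem_centralizer_singleton_iff.2 ?_⟩,
    fun a => ⟨⟨a.1, a.2.1⟩, Subtype.ext ?_⟩, fun _ => rfl, fun _ => rfl⟩
  · have := congrArg Subtype.val a.2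
    exact (mul_inv_eq_iff_eq_mul.1 this).symm
  · exact mul_inv_eq_iff_eq_mul.2 (Subgroup.mem_centralizer_singleton_iff.1 a.2.2).symm

/-- An element of order 3 normalising a subgroup of order 5 centralises it. -/
theorem three_on_five {X : Type*} [Group X] {u e : X} (hu : u ^ 3 = 1) (he : orderOf e = 5)
    (h : u * e * u⁻¹ ∈ Subgroup.zpowers e) : u * e = e * u := by
  have hfe : IsOfFinOrder e := orderOf_pos_iff.1 (by omega)
  obtain ⟨i, hi⟩ : ∃ i : ℕ, e ^ i = u * e * u⁻¹ :=
    Submonoid.mem_powers_iff _ _ |>.1 (hfe.mem_powers_iff_mem_zpowers.2 h)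
  have hstep : ∀ j : ℕ, u ^ j * e * (u ^ j)⁻¹ = e ^ (i ^ j) := by
    intro j
    induction j with
    | zero => simp
    | succ j ih =>
      rw [pow_succ' u, show u * u ^ j * e * (u * u ^ j)⁻¹ = u * (u ^ j * e * (u ^ j)⁻¹) * u⁻¹ by group,
        ih, ← conj_pow, ← hi, ← pow_mul, pow_succ']
  have h3 := hstep 3
  rw [hu, one_mul, inv_one, mul_one] at h3
  have h5 : i ^ 3 % 5 = 1 := by
    have := (pow_inj_mod (x := e) (n := i ^ 3) (m := 1)).1 (by rw [pow_one]; exact h3.symm)
    rw [he] at this
    exact this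
  have hi1 : i % 5 = 1 := by
    rw [Nat.pow_mod] at h5
    have : i % 5 < 5 := Nat.mod_lt _ (by norm_num)
    interval_cases hh : i % 5 <;> first | rfl | (simp at h5)
  rw [← pow_mod_orderOf, he, hi1, pow_one] at hi
  exact mul_inv_eq_iff_eq_mul.1 hi.symm

/-- A group of order 180 of this kind cannot have 36 Sylow 5-subgroups. -/
theorem not_thirtysix {Q : Type*} [Group Q] [Finite Q] [Fact (Nat.Prime 5)] (hQ : Nat.card Q = 180)
    (P : Sylow 5 Q) (hP : Nat.card P = 5)
    (hN : Nat.card (Subgroup.normalizer ((P : Subgroup Q) : Set Q)) = 5) : False := by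
  haveI : Fact (Nat.Prime 3) := ⟨Nat.prime_three⟩
  have hle : Subgroup.normalizer ((P : Subgroup Q) : Set Q) ≤ Subgroup.centralizer ((P : Subgroup Q) : Set Q) := by
    have heq : (P : Subgroup Q) = Subgroup.normalizer ((P : Subgroup Q) : Set Q) :=
      Subgroup.eq_of_le_of_card_ge Subgroup.le_normalizer (le_of_eq (hN.trans hP.symm))
    rw [← heq]
    intro a ha
    rw [Subgroup.mem_centralizer_iff]
    intro b hb
    haveI : IsCyclic P := isCyclic_of_prime_card hP
    letI : CommGroup P := IsCyclic.commGroup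
    exact congrArg Subtype.val (mul_comm (⟨b, hb⟩ : P) ⟨a, ha⟩)
  set M := (MonoidHom.transferSylow P hle).ker with hM
  have hcomp := MonoidHom.ker_transferSylow_isComplement' P hle
  have hcard := hcomp.card_mul
  rw [← hM, hQ, hP] at hcard
  obtain ⟨R⟩ : Nonempty (Sylow 3 M) := inferInstance
  have hR : Nat.card R = 9 := by
    rw [R.card_eq_multiplicity, show Nat.card M = 3 ^ 2 * 4 by omega,
      Nat.factorization_mul (by norm_num) (by norm_num), Finsupp.add_apply,
      Nat.Prime.factorization_pow Nat.prime_three, Finsupp.single_eq_same,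
      Nat.factorization_eq_zero_of_not_dvd (by norm_num : ¬ 3 ∣ 4)]
    norm_num
  set R' := (R : Subgroup M).map M.subtype with hR'
  have hR'c : Nat.card R' = 9 := by
    rw [Subgroup.card_map_of_injective M.subtype_injective]; exact hR
  have hsup := R.normalizer_sup_eq_top
  have h5 : 5 ∣ Nat.card (Subgroup.normalizer (R' : Set Q)) := by
    have hsurj : Function.Surjective ((QuotientGroup.mk' M).comp
        (Subgroup.normalizer (R' : Set Q)).subtype) := by
      intro q
      obtain ⟨q, rfl⟩ := QuotientGroup.mk'_surjective M q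
      have : q ∈ Subgroup.normalizer (R' : Set Q) ⊔ M := by rw [hR', hsup]; trivial
      obtain ⟨a, ha, b, hb, rfl⟩ := Subgroup.mem_sup_of_normal_right.1 this
      refine ⟨⟨a, ha⟩, ?_⟩
      show QuotientGroup.mk' M a = QuotientGroup.mk' M (a * b)
      rw [map_mul, show QuotientGroup.mk' M b = 1 from (QuotientGroup.eq_one_iff b).2 hb, mul_one]
    have hq : Nat.card (Q ⧸ M) = 5 := by
      have := Subgroup.card_eq_card_quotient_mul_card_subgroup M
      rw [hQ] at this
      nlinarith
    exact hq ▸ Subgroup.card_dvd_of_surjective _ hsurj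
  obtain ⟨e, he⟩ := exists_prime_orderOf_dvd_card' (G := Subgroup.normalizer (R' : Set Q)) 5 h5
  have heQ : orderOf (e : Q) = 5 := by rw [Subgroup.orderOf_coe]; exact he
  have hmod := five_fixed R' (e := (e : Q)) (by rw [← heQ]; exact pow_orderOf_eq_one _)
    fun a ha => (Subgroup.mem_normalizer_iff.1 e.2 a).1 ha
  set F := R' ⊓ Subgroup.centralizer ({(e : Q)} : Set Q) with hF
  rw [hR'c] at hmod
  have hd : Nat.card F ∣ 3 ^ 2 := by
    rw [show (3 : ℕ) ^ 2 = Nat.card R' by rw [hR'c]; norm_num]; exact Subgroup.card_dvd_of_le inf_le_left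
  obtain ⟨i, hi, hic⟩ := (Nat.dvd_prime_pow Nat.prime_three).1 hd
  have hi2 : i = 2 := by
    rw [hic] at hmod
    interval_cases i <;> first | rfl | exact absurd hmod (by decide)
  have hFR : F = R' := Subgroup.eq_of_le_of_card_ge inf_le_left (by rw [hR'c, hic, hi2]; norm_num)
  -- `R'` normalises the Sylow subgroup generated by `e`
  obtain ⟨P', hP'⟩ := (IsPGroup.of_card (p := 5) (n := 1)
    (by rw [Nat.card_zpowers, heQ, pow_one] : Nat.card (Subgroup.zpowers (e : Q)) = 5 ^ 1)).exists_le_sylow
  obtain ⟨g, hg⟩ := MulAction.exists_smul_eq Q P P'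
  have hP'c : Nat.card P' = 5 := by
    rw [← hg]
    exact (Nat.card_congr (P.equivSMul g).toEquiv).symm.trans hP
  have hPe : (P' : Subgroup Q) = Subgroup.zpowers (e : Q) :=
    (Subgroup.eq_of_le_of_card_ge hP' (by rw [Nat.card_zpowers, heQ]; exact le_of_eq hP'c)).symm
  have hN' : Nat.card (Subgroup.normalizer ((P' : Subgroup Q) : Set Q)) = 5 := by
    have h1 : Nat.card (Sylow 5 Q) = (Subgroup.normalizer ((P' : Subgroup Q) : Set Q)).index :=
      Sylow.card_eq_index_normalizer P'
    have h2 : Nat.card (Sylow 5 Q) = (Subgroup.normalizer ((P : Subgroup Q) : Set Q)).index :=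
      Sylow.card_eq_index_normalizer P
    have h3 := Subgroup.card_mul_index (Subgroup.normalizer ((P' : Subgroup Q) : Set Q))
    have h4 := Subgroup.card_mul_index (Subgroup.normalizer ((P : Subgroup Q) : Set Q))
    rw [hQ] at h3 h4
    rw [hN] at h4
    rw [← h1, h2] at h3
    nlinarith
  have hle' : R' ≤ Subgroup.normalizer ((P' : Subgroup Q) : Set Q) := by
    intro a ha
    rw [← hFR] at ha
    rw [hPe]
    have hc : a * e = e * a := Subgroup.mem_centralizer_singleton_iff.1 ha.2
    refine Subgroup.centralizer_le_normalizer _ ?_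
    rw [Subgroup.mem_centralizer_iff]
    intro z hz
    obtain ⟨n, rfl⟩ := Subgroup.mem_zpowers_iff.1 hz
    exact ((show Commute a (e : Q) from hc).zpow_right n).eq.symm
  have := Subgroup.card_le_of_le hle'
  omega

namespace Klein

variable {G : Type*} [Group G] [Finite G] {t k : G} {E K C : Subgroup G} (P : Klein t k E K C)
include P

/-- Element of order 3 with an involution and an element of order 5 in its centraliser. -/
theorem exists_fifteen_local : ∃ r f i : G, orderOf r = 3 ∧ orderOf f = 5 ∧ r * f = f * r ∧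
    orderOf i = 2 ∧ r * i = i * r ∧ r ∈ Subgroup.normalizer (AK C k : Set G) ∧
    f ∈ Subgroup.normalizer (AK C k : Set G) ∧
    90 ∣ Nat.card (Subgroup.normalizer (AK C k : Set G) ⊓ Subgroup.centralizer ({r} : Set G) : Subgroup G) := by
  haveI : Fact (Nat.Prime 5) := ⟨by decide⟩
  haveI : Fact (Nat.Prime 3) := ⟨Nat.prime_three⟩
  haveI : Fact (Nat.Prime 2) := ⟨Nat.prime_two⟩
  set A := AK C k with hA
  set N := Subgroup.normalizer (A : Set G) with hN
  have hAN : A ≤ N := Subgroup.le_normalizer
  set An := A.subgroupOf N with hAn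
  haveI : An.Normal := Subgroup.normal_subgroupOf_of_le_normalizer le_rfl
  have hAnc : Nat.card An = 16 := by
    rw [Nat.card_congr (Subgroup.subgroupOfEquivOfLe hAN).toEquiv]; exact P.card_AK
  have hNc : Nat.card N = 2880 := P.card_N
  have hQ : Nat.card (N ⧸ An) = 180 := by
    have := Subgroup.card_eq_card_quotient_mul_card_subgroup An
    rw [hNc, hAnc] at this
    omega
  set π := QuotientGroup.mk' An with hπ
  have hπs : Function.Surjective π := QuotientGroup.mk'_surjective An
  have hπ1 : ∀ n : N, π n = 1 ↔ (n : G) ∈ A := fun n => by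
    rw [hπ, QuotientGroup.mk'_apply, QuotientGroup.eq_one_iff, hAn, Subgroup.mem_subgroupOf]
  -- elements of order 5 act without fixed points
  obtain ⟨f, hf⟩ := exists_prime_orderOf_dvd_card' (G := N) 5 (by rw [hNc]; norm_num)
  have hfG : orderOf (f : G) = 5 := by rw [Subgroup.orderOf_coe]; exact hf
  have hf5 : (f : G) ^ 5 = 1 := by rw [← hfG]; exact pow_orderOf_eq_one _
  have hfA : (f : G) ∉ A := fun h => by
    have := Subgroup.orderOf_dvd_natCard A h
    rw [hfG, P.card_AK] at this
    norm_num at this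
  have hfpf : ∀ a ∈ A, a * f = f * a → a = 1 := by
    have hmod := five_fixed A hf5 fun a ha => P.conj_N f.2 ha
    rw [P.card_AK] at hmod
    set F := A ⊓ Subgroup.centralizer ({(f : G)} : Set G) with hF
    obtain ⟨i, hi, hic⟩ := (Nat.dvd_prime_pow Nat.prime_two).1
      (show Nat.card F ∣ 2 ^ 4 by
        rw [show 2 ^ 4 = Nat.card A by rw [P.card_AK]; norm_num]; exact Subgroup.card_dvd_of_le inf_le_left)
    intro a ha hac
    have hi04 : i = 0 ∨ i = 4 := by
      rw [hic] at hmod
      interval_cases i <;> first | exact Or.inl rfl | exact Or.inr rfl | exact absurd hmod (by decide)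
    rcases hi04 with rfl | rfl
    · have hbot : F = ⊥ := Subgroup.card_eq_one.1 (by rw [hic]; norm_num)
      have : a ∈ F := ⟨ha, Subgroup.mem_centralizer_singleton_iff.2 hac⟩
      rwa [hbot, Subgroup.mem_bot] at this
    · exfalso
      have hFA : F = A := Subgroup.eq_of_le_of_card_ge inf_le_left (by rw [hic, P.card_AK]; norm_num)
      refine hfA (P.cent_AK fun b hb => ?_)
      exact (Subgroup.mem_centralizer_singleton_iff.1 (hFA.ge hb).2).symm
  set e := π f with he
  have heo : orderOf e = 5 := by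
    refine orderOf_eq_prime ?_ ?_
    · rw [he, ← map_pow, ← hf, pow_orderOf_eq_one, map_one]
    · rw [he, Ne, hπ1]; exact hfA
  obtain ⟨S, hS⟩ := (IsPGroup.of_card (p := 5) (n := 1)
    (by rw [Nat.card_zpowers, heo, pow_one] : Nat.card (Subgroup.zpowers e) = 5 ^ 1)).exists_le_sylow
  have hSc : Nat.card S = 5 := by
    rw [S.card_eq_multiplicity, hQ, show (180 : ℕ) = 5 ^ 1 * 36 by norm_num,
      Nat.factorization_mul (by norm_num) (by norm_num), Finsupp.add_apply,
      Nat.Prime.factorization_pow (by decide : Nat.Prime 5), Finsupp.single_eq_same,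
      Nat.factorization_eq_zero_of_not_dvd (by norm_num : ¬ 5 ∣ 36)]
    norm_num
  have he5 : e ^ 5 = 1 := orderOf_dvd_iff_pow_eq_one.1 (dvd_of_eq heo)
  have hSe : (S : Subgroup (N ⧸ An)) = Subgroup.zpowers e :=
    (Subgroup.eq_of_le_of_card_ge hS (by rw [Nat.card_zpowers, heo]; exact le_of_eq hSc)).symm
  set NS := Subgroup.normalizer ((S : Subgroup (N ⧸ An)) : Set (N ⧸ An)) with hNS
  have hm : Nat.card (Sylow 5 (N ⧸ An)) =
      (Subgroup.normalizer ((S : Subgroup (N ⧸ An)) : Set (N ⧸ An))).index :=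
    Sylow.card_eq_index_normalizer S
  have hmul := Subgroup.card_mul_index NS
  rw [hQ] at hmul
  have hS5 : 5 ∣ Nat.card NS := by
    have := Subgroup.card_dvd_of_le (Subgroup.le_normalizer (H := (S : Subgroup (N ⧸ An))))
    rwa [hSc] at this
  have hmod5 := card_sylow_modEq_one 5 (N ⧸ An)
  rw [hm, ← hNS] at hmod5
  obtain ⟨d, hd⟩ := hS5
  have h36 : d * NS.index = 36 := by rw [hd] at hmul; nlinarith
  have hidx : NS.index = 1 ∨ NS.index = 6 ∨ NS.index = 36 := by
    have hle : NS.index ≤ 36 := Nat.le_of_dvd (by norm_num) ⟨d, by rw [← h36]; ring⟩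
    have hdvd : NS.index ∣ 36 := ⟨d, by rw [← h36]; ring⟩
    rw [Nat.ModEq] at hmod5
    interval_cases hh : NS.index <;> first | omega | (exfalso; revert hdvd; norm_num)
  have hu3 : ∀ u : N ⧸ An, u ∈ NS → u ^ 3 = 1 → u * e = e * u := fun u hu hu3 => by
    refine three_on_five hu3 heo ?_
    rw [← hSe]
    exact (Subgroup.mem_normalizer_iff.1 hu e).1 (hSe ▸ Subgroup.mem_zpowers e)
  rcases hidx with h1 | h6 | h36'
  · -- a normal Sylow subgroup
    exfalso
    have hNC : 3 ∣ Nat.card (N ⊓ C : Subgroup G) := by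
      rw [hN, P.card_NC]; norm_num
    obtain ⟨x, hx⟩ := exists_prime_orderOf_dvd_card' (G := (N ⊓ C : Subgroup G)) 3 hNC
    have hxG : orderOf (x : G) = 3 := by rw [Subgroup.orderOf_coe]; exact hx
    set xN : N := ⟨x, x.2.1⟩ with hxN
    have hxu : π xN ^ 3 = 1 := by
      rw [← map_pow, hπ1, SubgroupClass.coe_pow, hxN, ← hxG, pow_orderOf_eq_one]; exact A.one_mem
    have hcm := hu3 (π xN) (by rw [Subgroup.index_eq_one.1 h1]; trivial) hxu
    have ha0 : (x : G)⁻¹ * (f * x * (f : G)⁻¹) ∈ A := by
      have : π (xN⁻¹ * (f * xN * f⁻¹)) = 1 := by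
        simp only [map_mul, map_inv, ← he]
        rw [← hcm]; group
      exact (hπ1 _).1 this
    set F := A ⊓ Subgroup.centralizer ({(x : G)} : Set G) with hF
    have hfF : ∀ b ∈ F, (f : G) * b * (f : G)⁻¹ ∈ F := by
      rintro b ⟨hb, hbx⟩
      refine ⟨P.conj_N f.2 hb, Subgroup.mem_centralizer_singleton_iff.2 ?_⟩
      have h1 : Commute ((f : G) * b * (f : G)⁻¹) (f * x * (f : G)⁻¹) :=
        Commute.conj_iff _ |>.2 (Subgroup.mem_centralizer_singleton_iff.1 hbx)
      have h2 : Commute ((f : G) * b * (f : G)⁻¹) ((x : G)⁻¹ * (f * x * (f : G)⁻¹)) :=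
        P.AK_comm (P.conj_N f.2 hb) ha0
      have h3 := h1.mul_right h2.inv_right
      rw [mul_inv_rev, inv_inv, ← mul_assoc, mul_inv_cancel, one_mul] at h3
      exact h3.eq
    have hmod := five_fixed F hf5 hfF
    have h1' : (F ⊓ Subgroup.centralizer ({(f : G)} : Set G) : Subgroup G) = ⊥ := by
      rw [eq_bot_iff]
      rintro a ⟨⟨ha, -⟩, hac⟩
      rw [Subgroup.mem_bot]
      exact hfpf a ha (Subgroup.mem_centralizer_singleton_iff.1 hac)
    rw [h1', Subgroup.card_bot] at hmod
    obtain ⟨i, hi, hic⟩ := (Nat.dvd_prime_pow Nat.prime_two).1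
      (show Nat.card F ∣ 2 ^ 4 by
        rw [show 2 ^ 4 = Nat.card A by rw [P.card_AK]; norm_num]; exact Subgroup.card_dvd_of_le inf_le_left)
    have htF : t ∈ F := ⟨P.t_mem, Subgroup.mem_centralizer_singleton_iff.2 (P.data.memC.1 x.2.2).symm⟩
    rw [hic] at hmod
    have hi04 : i = 0 ∨ i = 4 := by
      interval_cases i <;> first | exact Or.inl rfl | exact Or.inr rfl | exact absurd hmod (by decide)
    rcases hi04 with rfl | rfl
    · rw [Subgroup.card_eq_one.1 (hic.trans (pow_zero 2)), Subgroup.mem_bot] at htF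
      exact P.S.z_ne htF
    · have hFA : F = A := Subgroup.eq_of_le_of_card_ge inf_le_left (by rw [hic, P.card_AK]; norm_num)
      have hxA : (x : G) ∈ A := P.cent_AK fun b hb => by
        exact (Subgroup.mem_centralizer_singleton_iff.1 (hFA.ge hb).2).symm
      have := Subgroup.orderOf_dvd_natCard A hxA
      rw [hxG, P.card_AK] at this
      norm_num at this
  · -- six Sylow subgroups
    have hNS30 : Nat.card NS = 30 := by rw [h6] at hmul; omega
    obtain ⟨u', hu'⟩ := exists_prime_orderOf_dvd_card' (G := NS) 3 (by rw [hNS30]; norm_num)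
    set u : N ⧸ An := u'.1 with hu
    have huo : orderOf u = 3 := by rw [hu, Subgroup.orderOf_coe]; exact hu'
    have hu3' : u ^ 3 = 1 := by rw [← huo]; exact pow_orderOf_eq_one _
    have hue := hu3 u u'.2 hu3'
    set φ := MulAction.toPermHom (N ⧸ An) (Sylow 5 (N ⧸ An)) with hφ
    have hker : ∀ q, φ q = 1 ↔ ∀ T : Sylow 5 (N ⧸ An), q • T = T := fun q => by
      simp [hφ, Equiv.ext_iff]
    have hphie : φ e ≠ 1 := by
      intro h
      have hall : ∀ T : Sylow 5 (N ⧸ An), T = S := by
        intro T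
        have hmem : e ∈ Subgroup.normalizer ((T : Subgroup (N ⧸ An)) : Set (N ⧸ An)) :=
          Sylow.smul_eq_iff_mem_normalizer.1 ((hker e).1 h T)
        have hle : (S : Subgroup (N ⧸ An)) ≤ Subgroup.normalizer ((T : Subgroup (N ⧸ An)) : Set (N ⧸ An)) := by
          rw [hSe, Subgroup.zpowers_le]; exact hmem
        have hST : (S : Subgroup (N ⧸ An)) ≤ T := by
          have h2 : (S : Subgroup (N ⧸ An)) ⊓ Subgroup.normalizer ((T : Subgroup (N ⧸ An)) : Set (N ⧸ An)) =
              (S : Subgroup (N ⧸ An)) ⊓ T := S.2.inf_normalizer_sylow T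
          rw [inf_eq_left.2 hle] at h2
          exact inf_eq_left.1 h2.symm
        exact Sylow.ext (S.3 T.2 hST)
      haveI : Subsingleton (Sylow 5 (N ⧸ An)) := ⟨fun a b => (hall a).trans (hall b).symm⟩
      have := Nat.card_of_subsingleton S
      rw [hm, ← hNS, h6] at this
      norm_num at this
    have hcard6 : Nat.card (Sylow 5 (N ⧸ An)) = 6 := by rw [hm, ← hNS, h6]
    let E6 : Sylow 5 (N ⧸ An) ≃ Fin 6 := Finite.equivFinOfCardEq hcard6
    have hphiu : φ u = 1 := by
      have hc : Commute u e := hue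
      have hw : (u * e) ^ 15 = 1 := by
        rw [hc.mul_pow, show u ^ 15 = (u ^ 3) ^ 5 from pow_mul u 3 5, hu3', one_pow, one_mul,
          show e ^ 15 = (e ^ 5) ^ 3 from pow_mul e 5 3, he5, one_pow]
      have h := perm6_order (E6.permCongrHom (φ (u * e))) (by
        rw [← map_pow, ← map_pow, hw, map_one, map_one])
      rw [← map_pow, ← map_pow, ← map_pow, ← map_pow, MulEquiv.map_eq_one_iff, MulEquiv.map_eq_one_iff,
        hc.mul_pow, hc.mul_pow, hu3', one_mul] at h
      rcases h with h | h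
      · rw [he5, mul_one] at h
        have : u = (u ^ 5) ^ 2 := by
          rw [← pow_mul, show 5 * 2 = 3 * 3 + 1 from rfl, pow_succ, pow_mul, hu3', one_pow, one_mul]
        rw [this, map_pow, h, one_pow]
      · exfalso
        apply hphie
        have : e = (e ^ 3) ^ 2 := by
          rw [← pow_mul, show 3 * 2 = 5 + 1 from rfl, pow_succ, he5, one_mul]
        rw [this, map_pow, h, one_pow]
    -- the kernel
    have hkerNS : φ.ker ≤ NS := fun q hq =>
      Sylow.smul_eq_iff_mem_normalizer.1 ((hker q).1 hq S)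
    have hk5 : ¬ 5 ∣ Nat.card φ.ker := by
      intro h5
      obtain ⟨v, hv⟩ := exists_prime_orderOf_dvd_card' (G := φ.ker) 5 h5
      have hvo : orderOf (v : N ⧸ An) = 5 := by rw [Subgroup.orderOf_coe]; exact hv
      have hle : Subgroup.zpowers (v : N ⧸ An) ≤ (S : Subgroup (N ⧸ An)) := by
        have hle' : Subgroup.zpowers (v : N ⧸ An) ≤ NS := by
          rw [Subgroup.zpowers_le]; exact hkerNS v.2
        have h2 : Subgroup.zpowers (v : N ⧸ An) ⊓
            Subgroup.normalizer ((S : Subgroup (N ⧸ An)) : Set (N ⧸ An)) =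
            Subgroup.zpowers (v : N ⧸ An) ⊓ S := (IsPGroup.of_card (p := 5) (n := 1) (by rw [Nat.card_zpowers, hvo, pow_one] :
          Nat.card (Subgroup.zpowers (v : N ⧸ An)) = 5 ^ 1)).inf_normalizer_sylow S
        rw [← hNS, inf_eq_left.2 hle'] at h2
        exact inf_eq_left.1 h2.symm
      have heq : Subgroup.zpowers (v : N ⧸ An) = Subgroup.zpowers e :=
        hSe ▸ Subgroup.eq_of_le_of_card_ge hle (by rw [Nat.card_zpowers, hvo]; exact le_of_eq hSc)
      have : e ∈ φ.ker := by
        have he' : e ∈ Subgroup.zpowers (v : N ⧸ An) := heq ▸ Subgroup.mem_zpowers e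
        exact (Subgroup.zpowers_le.2 v.2) he'
      exact hphie (MonoidHom.mem_ker.1 this)
    have hk6 : Nat.card φ.ker ∣ 6 := by
      have h := Subgroup.card_dvd_of_le hkerNS
      rw [hNS30, show 30 = 5 * 6 from rfl] at h
      exact ((Nat.Prime.coprime_iff_not_dvd (by decide)).2 hk5).symm.dvd_of_dvd_mul_left h
    have hnormal : ∀ q : N ⧸ An, q * u * q⁻¹ ∈ Subgroup.zpowers u := by
      intro q
      have hv : q * u * q⁻¹ ∈ φ.ker := (inferInstance : φ.ker.Normal).conj_mem u hphiu q
      set U := (Subgroup.zpowers u).subgroupOf φ.ker with hU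
      have hUc : Nat.card U = 3 := by
        rw [Nat.card_congr (Subgroup.subgroupOfEquivOfLe (Subgroup.zpowers_le.2 hphiu)).toEquiv,
          Nat.card_zpowers, huo]
      have hmu := U.card_mul_index
      rw [hUc] at hmu
      have h6' := Nat.le_of_dvd (by norm_num) hk6
      have hv3 : (q * u * q⁻¹) ^ 3 = 1 := by rw [conj_pow, hu3']; group
      rcases (show U.index = 1 ∨ U.index = 2 by
        have := U.index_ne_zero_of_finite; omega) with hi | hi
      · have : (⟨q * u * q⁻¹, hv⟩ : φ.ker) ∈ U := by rw [Subgroup.index_eq_one.1 hi]; trivial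
        exact this
      · have h2 := Subgroup.sq_mem_of_index_two hi ⟨q * u * q⁻¹, hv⟩
        rw [hU, Subgroup.mem_subgroupOf, SubgroupClass.coe_pow] at h2
        have := Subgroup.pow_mem _ h2 2
        rwa [← pow_mul, show 2 * 2 = 3 + 1 from rfl, pow_succ, hv3, one_mul] at this
    -- lift to an element of order 3
    obtain ⟨l, hl⟩ := hπs u
    have hl3 : ((l ^ 3 : N) : G) ∈ A := (hπ1 _).1 (by rw [map_pow, hl, hu3'])
    set r : N := l ^ 4 with hr
    have hr3 : r ^ 3 = 1 := by
      apply Subtype.ext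
      rw [hr, ← pow_mul, show 4 * 3 = 3 * 2 * 2 from rfl, pow_mul, pow_mul, SubgroupClass.coe_pow,
        SubgroupClass.coe_pow, pow_two ((l ^ 3 : N) : G), P.AK_sq hl3, one_pow]
      rfl
    have hπr : π r = u := by rw [hr, map_pow, hl, pow_succ, hu3', one_mul]
    have hr1 : r ≠ 1 := fun h => by
      rw [h, map_one] at hπr
      rw [← hπr, orderOf_one] at huo
      omega
    have hro : orderOf r = 3 := orderOf_eq_prime hr3 hr1
    -- Frattini argument for the preimage of the normal subgroup
    set R := (Subgroup.zpowers u).comap π with hR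
    have hRc : Nat.card R = 48 := by
      have h := Subgroup.card_eq_card_quotient_mul_card_subgroup (An.subgroupOf R)
      have hle : An ≤ R := fun a ha => by
        rw [hR, Subgroup.mem_comap, show π a = 1 from (QuotientGroup.eq_one_iff a).2 ha]
        exact Subgroup.one_mem _
      have hR3 : R.index = (Subgroup.zpowers u).index := Subgroup.index_comap_of_surjective _ hπs
      have hu' := (Subgroup.zpowers u).card_mul_index
      rw [Nat.card_zpowers, huo, hQ] at hu'
      have := R.card_mul_index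
      rw [hNc, hR3] at this
      have h60 : (Subgroup.zpowers u).index = 60 := by omega
      rw [h60] at this
      omega
    have hrR : r ∈ R := by rw [hR, Subgroup.mem_comap, hπr]; exact Subgroup.mem_zpowers u
    have hT : Nat.card (Subgroup.zpowers (⟨r, hrR⟩ : R)) = 3 ^ (Nat.card R).factorization 3 := by
      rw [hRc, Nat.card_zpowers, Subgroup.orderOf_mk, hro, show (48 : ℕ) = 3 ^ 1 * 16 by norm_num,
        Nat.factorization_mul (by norm_num) (by norm_num), Finsupp.add_apply,
        Nat.Prime.factorization_pow Nat.prime_three, Finsupp.single_eq_same,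
        Nat.factorization_eq_zero_of_not_dvd (by norm_num : ¬ 3 ∣ 16)]
      norm_num
    set T : Sylow 3 R := Sylow.ofCard _ hT with hT'
    set NR := Subgroup.normalizer ((Subgroup.zpowers r : Subgroup N) : Set N) with hNR
    have hsurj : Function.Surjective (π.comp NR.subtype) := by
      intro q
      obtain ⟨n, rfl⟩ := hπs q
      have hnR : n * r * n⁻¹ ∈ R := by
        rw [hR, Subgroup.mem_comap, map_mul, map_mul, map_inv, hπr]
        exact hnormal _
      have hno : orderOf (⟨n * r * n⁻¹, hnR⟩ : R) = 3 := by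
        rw [Subgroup.orderOf_mk]
        exact (orderOf_injective (MulAut.conj n).toMonoidHom (MulAut.conj n).injective r).trans hro
      obtain ⟨T2, hT2⟩ := (IsPGroup.of_card (p := 3) (n := 1)
        (by rw [Nat.card_zpowers, hno, pow_one] :
          Nat.card (Subgroup.zpowers (⟨n * r * n⁻¹, hnR⟩ : R)) = 3 ^ 1)).exists_le_sylow
      obtain ⟨⟨b, hb⟩, hbT⟩ := MulAction.exists_smul_eq R T2 T
      have hmem : (⟨b, hb⟩ : R) * ⟨n * r * n⁻¹, hnR⟩ * (⟨b, hb⟩ : R)⁻¹ ∈ (T : Subgroup R) := by
        rw [← hbT, Sylow.coe_subgroup_smul]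
        exact ⟨_, hT2 (Subgroup.mem_zpowers _), rfl⟩
      have hmem' : b * (n * r * n⁻¹) * b⁻¹ ∈ Subgroup.zpowers r := by
        rw [hT', Sylow.coe_ofCard, Subgroup.mem_zpowers_iff] at hmem
        obtain ⟨j, hj⟩ := hmem
        exact Subgroup.mem_zpowers_iff.2 ⟨j, by simpa using congrArg Subtype.val hj⟩
      obtain ⟨j, hj⟩ := Subgroup.mem_zpowers_iff.1 (show π b ∈ Subgroup.zpowers u from hb)
      set b' := r ^ (-j) * b with hb'
      refine ⟨⟨b' * n, ?_⟩, ?_⟩
      · have hm : b' * n * r * (b' * n)⁻¹ ∈ Subgroup.zpowers r := by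
          rw [show b' * n * r * (b' * n)⁻¹ = r ^ (-j) * (b * (n * r * n⁻¹) * b⁻¹) * (r ^ (-j))⁻¹ by
            rw [hb']; group]
          exact Subgroup.mul_mem _ (Subgroup.mul_mem _ (Subgroup.zpow_mem _ (Subgroup.mem_zpowers r) _) hmem')
            (Subgroup.inv_mem _ (Subgroup.zpow_mem _ (Subgroup.mem_zpowers r) _))
        rw [hNR]
        have heq : (Subgroup.zpowers r).map (MulAut.conj (b' * n)).toMonoidHom = Subgroup.zpowers r :=
          Subgroup.eq_of_le_of_card_ge (by
            rw [MonoidHom.map_zpowers, Subgroup.zpowers_le]; exact hm)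
            (by rw [Subgroup.card_map_of_injective (MulAut.conj (b' * n)).injective])
        refine Subgroup.mem_normalizer_iff.2 fun a => ⟨fun ha => ?_, fun ha => ?_⟩
        · exact heq.le ⟨a, ha, rfl⟩
        · rw [← heq] at ha
          obtain ⟨c, hc, hca⟩ := ha
          exact (MulAut.conj (b' * n)).injective hca ▸ hc
      · show π (b' * n) = π n
        rw [map_mul, hb', map_mul, map_zpow, hπr, ← hj, ← zpow_add, neg_add_cancel, zpow_zero, one_mul]
    have h180 : 180 ∣ Nat.card NR := hQ ▸ Subgroup.card_dvd_of_surjective _ hsurj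
    set Cr := NR ⊓ Subgroup.centralizer ({r} : Set N) with hCr
    have h2 : Nat.card NR ≤ 2 * Nat.card Cr := by
      have hcases : ∀ n ∈ NR, n * r * n⁻¹ = r ∨ n * r * n⁻¹ = r⁻¹ := by
        intro n hn
        have hmem := (Subgroup.mem_normalizer_iff.1 hn r).1 (Subgroup.mem_zpowers r)
        obtain ⟨j, hj⟩ := Subgroup.mem_zpowers_iff.1 hmem
        rw [← zpow_mod_orderOf, hro] at hj
        have h0 := Int.emod_nonneg j (show ((3 : ℕ) : ℤ) ≠ 0 by norm_num)
        have h3 := Int.emod_lt_of_pos j (show (0 : ℤ) < ((3 : ℕ) : ℤ) by norm_num)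
        rcases (show j % ((3 : ℕ) : ℤ) = 0 ∨ j % ((3 : ℕ) : ℤ) = 1 ∨ j % ((3 : ℕ) : ℤ) = 2 by omega) with e' | e' | e'
        · rw [e', zpow_zero, eq_comm, conj_eq_one_iff] at hj
          exact absurd hj hr1
        · rw [e', zpow_one] at hj
          exact Or.inl hj.symm
        · rw [e', show r ^ (2 : ℤ) = r⁻¹ from eq_inv_of_mul_eq_one_left (by
            rw [← zpow_add_one, show (2 : ℤ) + 1 = ((3 : ℕ) : ℤ) from rfl, zpow_natCast, hr3])] at hj
          exact Or.inr hj.symm
      haveI := Fintype.ofFinite N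
      rw [Nat.card_eq_fintype_card, Fintype.card_subtype, Nat.card_eq_fintype_card, Fintype.card_subtype]
      have hfib := Finset.card_le_mul_card_image (f := fun n : N => n * r * n⁻¹)
        (Finset.univ.filter fun n => n ∈ NR) (Finset.univ.filter fun n => n ∈ Cr).card (by
          intro y hy
          obtain ⟨n0, hn0, rfl⟩ := Finset.mem_image.1 hy
          refine Finset.card_le_card_of_injOn (fun n => n0⁻¹ * n) ?_ (fun _ _ _ _ h => mul_left_cancel h)
          intro n hn
          simp only [Finset.coe_filter, Set.mem_setOf_eq] at hn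
          obtain ⟨hnN, hne⟩ := hn
          refine Finset.mem_filter.2 ⟨Finset.mem_univ _,
            Subgroup.mul_mem _ (Subgroup.inv_mem _ (Finset.mem_filter.1 hn0).2) (Finset.mem_filter.1 hnN).2, ?_⟩
          refine Subgroup.mem_centralizer_singleton_iff.2 ?_
          calc n0⁻¹ * n * r = n0⁻¹ * (n * r * n⁻¹) * n := by group
            _ = r * (n0⁻¹ * n) := by rw [hne]; group)
      refine hfib.trans ?_
      rw [mul_comm]
      refine Nat.mul_le_mul_right _ ?_
      refine (Finset.card_le_card (t := {r, r⁻¹}) ?_).trans Finset.card_le_two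
      intro y hy
      obtain ⟨n, hn, rfl⟩ := Finset.mem_image.1 hy
      simpa using hcases n (Finset.mem_filter.1 hn).2
    obtain ⟨j, hj⟩ := Subgroup.card_dvd_of_le (show Cr ≤ NR from inf_le_left)
    have hj0 : 0 < Nat.card NR := Nat.card_pos
    have hj2 : j = 1 ∨ j = 2 := by
      have hC0 : 0 < Nat.card Cr := Nat.card_pos
      have : j ≤ 2 := by
        by_contra hc
        push Not at hc
        nlinarith
      rcases Nat.eq_zero_or_pos j with h | h
      · rw [h, mul_zero] at hj; omega
      · omega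
    have h90 : 90 ∣ Nat.card Cr := by
      obtain ⟨c, hc⟩ := h180
      rcases hj2 with rfl | rfl
      · exact ⟨2 * c, by omega⟩
      · exact ⟨c, by omega⟩
    obtain ⟨i, hi⟩ := exists_prime_orderOf_dvd_card' (G := Cr) 2 (dvd_trans (by norm_num) h90)
    obtain ⟨g, hg⟩ := exists_prime_orderOf_dvd_card' (G := Cr) 5 (dvd_trans (by norm_num) h90)
    refine ⟨(r : G), ((g : N) : G), ((i : N) : G), ?_, ?_, ?_, ?_, ?_, r.2, (g : N).2, ?_⟩
    · rw [Subgroup.orderOf_coe]; exact hro
    · rw [Subgroup.orderOf_coe, Subgroup.orderOf_coe]; exact hg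
    · exact (congrArg Subtype.val (Subgroup.mem_centralizer_singleton_iff.1 g.2.2)).symm
    · rw [Subgroup.orderOf_coe, Subgroup.orderOf_coe]; exact hi
    · exact (congrArg Subtype.val (Subgroup.mem_centralizer_singleton_iff.1 i.2.2)).symm
    · refine h90.trans ?_
      rw [← Subgroup.card_map_of_injective N.subtype_injective]
      refine Subgroup.card_dvd_of_le ?_
      rintro _ ⟨c, hc, rfl⟩
      exact ⟨c.2, Subgroup.mem_centralizer_singleton_iff.2
        (congrArg Subtype.val (Subgroup.mem_centralizer_singleton_iff.1 hc.2))⟩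
  · exfalso
    refine not_thirtysix hQ S hSc ?_
    rw [← hNS]
    rw [h36'] at hmul
    omega

theorem exists_fifteen : ∃ r f i : G, orderOf r = 3 ∧ orderOf f = 5 ∧ r * f = f * r ∧
    orderOf i = 2 ∧ r * i = i * r := by
  obtain ⟨r, f, i, h1, h2, h3, h4, h5, -⟩ := P.exists_fifteen_local
  exact ⟨r, f, i, h1, h2, h3, h4, h5⟩

end Klein

end CfsgLib.J3Type
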