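import Cfsg.Agent.Lib.J3Type.Three
import Cfsg.Agent.Lib.SmallTwo.DihedralRec
import Cfsg.Agent.Lib.J3Type.AltSix

/-!
One class of involutions with centraliser `2^(1+4).A₅`: the centraliser and the normaliser of an
element of order 5.
-/

set_option autoImplicit false

open scoped Classical

namespace CfsgLib.J3Type

open CfsgLib.J2Order

theorem dihedral3_center : ∀ a : DihedralGroup 3, (∀ b, a * b = b * a) → a = 1 := by decide

theorem dihedral5_rot : ∀ m : DihedralGroup 5, m ^ 5 = 1 → m ≠ 1 → ∀ k : ZMod 5,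
    ∃ n : Fin 5, m ^ (n : ℕ) = DihedralGroup.r k := by decide

theorem conj_step {X : Type*} [Group X] {n a : X} {i : ℕ} (h : n * a * n⁻¹ = a ^ i) (j : ℕ) :
    n ^ j * a * (n ^ j)⁻¹ = a ^ (i ^ j) := by
  induction j with
  | zero => simp
  | succ j ih =>
    rw [pow_succ' n, show n * n ^ j * a * (n * n ^ j)⁻¹ = n * (n ^ j * a * (n ^ j)⁻¹) * n⁻¹ by group,
      ih, ← conj_pow, h, ← pow_mul, pow_succ']

theorem eq_one_of_two_pows {X : Type*} [Group X] {d : X} {m n : ℕ} (hm : d ^ m = 1) (hn : d ^ n = 1)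
    (h : m.Coprime n) : d = 1 :=
  orderOf_eq_one_iff.1 (Nat.eq_one_of_dvd_coprimes h (orderOf_dvd_of_pow_eq_one hm)
    (orderOf_dvd_of_pow_eq_one hn))

theorem conj_mem_zpowers_pow {X : Type*} [Group X] [Finite X] {a b : X}
    (h : b ∈ Subgroup.zpowers a) : ∃ i < orderOf a, b = a ^ i := by
  obtain ⟨i, hi⟩ := (Submonoid.mem_powers_iff _ _).1
    ((isOfFinOrder_of_finite a).mem_powers_iff_mem_zpowers.2 h)
  exact ⟨i % orderOf a, Nat.mod_lt _ (orderOf_pos a), by rw [pow_mod_orderOf]; exact hi.symm⟩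

theorem zpowers_normal_cent {X : Type*} [Group X] (a : X) :
    ((Subgroup.zpowers a).subgroupOf (Subgroup.centralizer ({a} : Set X))).Normal := by
  refine ⟨fun n hn g => ?_⟩
  rw [Subgroup.mem_subgroupOf] at hn ⊢
  obtain ⟨j, hj⟩ := Subgroup.mem_zpowers_iff.1 hn
  have hg : Commute (g : X) a := Subgroup.mem_centralizer_singleton_iff.1 g.2
  rw [Subgroup.coe_mul, Subgroup.coe_mul, Subgroup.coe_inv, ← hj, (hg.zpow_right j).eq, mul_inv_cancel_right]
  exact Subgroup.zpow_mem _ (Subgroup.mem_zpowers a) j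

/-- A group with a self-centralising involution has an abelian normal subgroup of index 2. -/
theorem invol_self_cent {Q : Type*} [Group Q] [Finite Q] {τ : Q} (hτ2 : τ * τ = 1) (hτ1 : τ ≠ 1)
    (hc : ∀ c : Q, c * τ = τ * c → c = 1 ∨ c = τ) :
    ∃ N : Subgroup Q, N.index = 2 ∧ τ ∉ N ∧ ∀ a ∈ N, ∀ b ∈ N, a * b = b * a := by
  haveI : Fact (Nat.Prime 2) := ⟨Nat.prime_two⟩
  have hord : orderOf τ = 2 := orderOf_eq_prime (by rw [pow_two, hτ2]) hτ1
  have hz : IsPGroup 2 (Subgroup.zpowers τ) :=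
    IsPGroup.of_card (n := 1) (by rw [Nat.card_zpowers, hord, pow_one])
  obtain ⟨P, hP⟩ := hz.exists_le_sylow
  have hτP : τ ∈ (P : Subgroup Q) := hP (Subgroup.mem_zpowers τ)
  haveI : Nontrivial P := ⟨⟨⟨τ, hτP⟩, 1, fun h => hτ1 (congrArg Subtype.val h)⟩⟩
  haveI := P.2.center_nontrivial
  obtain ⟨⟨z0, hz0⟩, hz01⟩ := exists_ne (1 : Subgroup.center P)
  rw [Subgroup.mem_center_iff] at hz0
  have hz0τ : (z0 : Q) = τ := (hc z0 (congrArg Subtype.val (hz0 ⟨τ, hτP⟩)).symm).resolve_left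
    fun h => hz01 (Subtype.ext (Subtype.ext h))
  have hPc : ∀ p ∈ (P : Subgroup Q), p = 1 ∨ p = τ := fun p hp => hc p (by
    rw [← hz0τ]; exact congrArg Subtype.val (hz0 ⟨p, hp⟩))
  have hle : Subgroup.normalizer ((P : Subgroup Q) : Set Q) ≤
      Subgroup.centralizer ((P : Subgroup Q) : Set Q) := by
    intro a ha
    rw [Subgroup.mem_centralizer_iff]
    intro b hb
    rcases hPc b hb with rfl | rfl
    · simp
    · rcases hPc _ ((Subgroup.mem_normalizer_iff.1 ha b).1 hb) with h | h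
      · exact absurd (conj_eq_one_iff.1 h) hτ1
      · exact (mul_inv_eq_iff_eq_mul.1 h).symm
  have hcard : Nat.card P = 2 := by
    have heq : (P : Subgroup Q) = Subgroup.zpowers τ := le_antisymm (fun p hp => by
      rcases hPc p hp with rfl | rfl
      · exact Subgroup.one_mem _
      · exact Subgroup.mem_zpowers _) hP
    rw [show Nat.card P = Nat.card (P : Subgroup Q) from rfl, heq, Nat.card_zpowers, hord]
  set N := (MonoidHom.transferSylow P hle).ker with hN
  have hcomp := MonoidHom.ker_transferSylow_isComplement' P hle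
  have hdis : ∀ a ∈ N, a = τ → False := fun a ha e =>
    hτ1 (Subgroup.disjoint_def.1 hcomp.disjoint (e ▸ ha) hτP)
  refine ⟨N, by rw [hcomp.symm.index_eq_card]; exact hcard, fun h => hdis τ h rfl, ?_⟩
  haveI : N.Normal := by rw [hN]; infer_instance
  have hτi : τ⁻¹ = τ := inv_eq_of_mul_eq_one_right hτ2
  let φ : N →* N := ((MulAut.conjNormal τ : MulAut N)).toMonoidHom
  have hφ : ∀ a : N, ((φ a : N) : Q) = τ * a * τ⁻¹ := fun a => MulAut.conjNormal_apply τ a
  have hfix : MonoidHom.FixedPointFree φ := fun a ha => by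
    have := congrArg Subtype.val ha
    rw [hφ, mul_inv_eq_iff_eq_mul] at this
    rcases hc a this.symm with h | h
    · exact Subtype.ext h
    · exact (hdis a a.2 h).elim
  have hinv : Function.Involutive φ := fun a => Subtype.ext (by
    rw [hφ, hφ, hτi, show τ * (τ * (a : Q) * τ) * τ = (τ * τ) * a * (τ * τ) by group, hτ2, one_mul, mul_one])
  intro a ha b hb
  exact congrArg Subtype.val (hfix.commute_all_of_involutive hinv ⟨a, ha⟩ ⟨b, hb⟩).eq

variable {G : Type*} [Group G] [Finite G] {t : G} {E K C : Subgroup G}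

namespace Three

variable {x : G} (T : Three t x E K C)
include T

theorem card_M : Nat.card (Subgroup.centralizer ({x} : Set G)) = 1080 := by
  obtain ⟨φ, hφs, hφk⟩ := T.exists_hom
  have hker : φ.ker = (Subgroup.zpowers x).subgroupOf (Subgroup.centralizer ({x} : Set G)) := by
    ext c
    rw [MonoidHom.mem_ker, hφk, Subgroup.mem_subgroupOf]
  have hq : Nat.card (↥(Subgroup.centralizer ({x} : Set G)) ⧸ φ.ker) = 360 := by
    rw [Nat.card_congr (QuotientGroup.quotientKerEquivOfSurjective φ hφs).toEquiv, alt6_card]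
  have hm := Subgroup.card_eq_card_quotient_mul_card_subgroup φ.ker
  rw [hq, hker, Nat.card_congr (Subgroup.subgroupOfEquivOfLe (show Subgroup.zpowers x ≤
    Subgroup.centralizer ({x} : Set G) by
      rw [Subgroup.zpowers_le, Subgroup.mem_centralizer_singleton_iff])).toEquiv, Nat.card_zpowers,
    T.x_ord] at hm
  exact hm

theorem pow_x {y : G} (hy : y ∈ Subgroup.zpowers x) : ∃ a < 3, y = x ^ a :=
  T.x_ord ▸ conj_mem_zpowers_pow hy

/-- Elements of order 5 centralising `x`: the common centraliser. -/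
theorem cent_five {f c : G} (hf : orderOf f = 5) (hfx : f * x = x * f) (hcx : c * x = x * c)
    (hcf : c * f = f * c) : ∃ a < 3, ∃ i < 5, c = x ^ a * f ^ i := by
  obtain ⟨φ, -, hφk⟩ := T.exists_hom
  set F : Subgroup.centralizer ({x} : Set G) := ⟨f, Subgroup.mem_centralizer_singleton_iff.2 hfx⟩
  set Cc : Subgroup.centralizer ({x} : Set G) := ⟨c, Subgroup.mem_centralizer_singleton_iff.2 hcx⟩
  have hF5 : φ F ^ 5 = 1 := by
    rw [← map_pow, show F ^ 5 = 1 from Subtype.ext (show f ^ 5 = 1 from hf ▸ pow_orderOf_eq_one f), map_one]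
  have hF1 : φ F ≠ 1 := fun h => by
    have hd := Subgroup.orderOf_dvd_natCard (Subgroup.zpowers x) ((hφk F).1 h)
    rw [Nat.card_zpowers, T.x_ord, show orderOf (F : G) = 5 from hf] at hd
    norm_num at hd
  obtain ⟨i, hi⟩ := alt6_five_pow (φ F) hF5 hF1 (φ Cc) (by
    rw [← map_mul, ← map_mul]; exact congrArg φ (Subtype.ext hcf))
  obtain ⟨a, ha, hxa⟩ := T.pow_x ((hφk (Cc * (F ^ (i : ℕ))⁻¹)).1 (by
    rw [map_mul, map_inv, map_pow, hi, mul_inv_cancel]))
  refine ⟨a, ha, i, i.2, ?_⟩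
  rw [← hxa]
  show c = c * (f ^ (i : ℕ))⁻¹ * f ^ (i : ℕ)
  rw [inv_mul_cancel_right]

theorem cent_five_fifteen {f c : G} (hf : orderOf f = 5) (hfx : f * x = x * f) (hcx : c * x = x * c)
    (hcf : c * f = f * c) : c ^ 15 = 1 := by
  obtain ⟨a, -, i, -, rfl⟩ := T.cent_five hf hfx hcx hcf
  rw [((show Commute x f from hfx.symm).pow_pow a i).mul_pow, ← pow_mul, ← pow_mul, mul_comm a, mul_comm i,
    pow_mul, pow_mul, show x ^ 15 = (x ^ 3) ^ 5 by rw [← pow_mul], T.x3, one_pow, one_pow,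
    show f ^ 15 = (f ^ 5) ^ 3 by rw [← pow_mul], show f ^ 5 = 1 from hf ▸ pow_orderOf_eq_one f, one_pow,
    one_pow, mul_one]

theorem cent_five_card {f : G} (hf : orderOf f = 5) (hfx : f * x = x * f) :
    Nat.card (Subgroup.centralizer ({x} : Set G) ⊓ Subgroup.centralizer ({f} : Set G) : Subgroup G) ≤ 15 := by
  refine (card_le_of_subset (s := (Finset.univ : Finset (Fin 3 × Fin 5)).image
    fun p => x ^ (p.1 : ℕ) * f ^ (p.2 : ℕ)) fun c hc => ?_).trans (Finset.card_image_le.trans (by simp))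
  obtain ⟨a, ha, i, hi, h⟩ := T.cent_five hf hfx (Subgroup.mem_centralizer_singleton_iff.1 hc.1)
    (Subgroup.mem_centralizer_singleton_iff.1 hc.2)
  exact Finset.mem_image.2 ⟨(⟨a, ha⟩, ⟨i, hi⟩), Finset.mem_univ _, h.symm⟩

theorem five_inverted {f : G} (hf : orderOf f = 5) (hfx : f * x = x * f) :
    ∃ c, c * x = x * c ∧ c * f * c⁻¹ = f⁻¹ := by
  obtain ⟨φ, hφs, hφk⟩ := T.exists_hom
  set F : Subgroup.centralizer ({x} : Set G) := ⟨f, Subgroup.mem_centralizer_singleton_iff.2 hfx⟩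
  have hf5 : f ^ 5 = 1 := hf ▸ pow_orderOf_eq_one f
  obtain ⟨c', hc'⟩ := alt6_five_inv (φ F) (by
    rw [← map_pow, show F ^ 5 = 1 from Subtype.ext hf5, map_one])
  obtain ⟨c, rfl⟩ := hφs c'
  have hk : (c : G) * f * (c : G)⁻¹ * f ∈ Subgroup.zpowers x := by
    have := (hφk (c * F * c⁻¹ * F)).1 (by rw [map_mul, map_mul, map_mul, map_inv, hc', inv_mul_cancel])
    exact this
  have hc := Subgroup.mem_centralizer_singleton_iff.1 c.2
  refine ⟨c, hc, eq_inv_of_mul_eq_one_left ?_⟩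
  set d := (c : G) * f * (c : G)⁻¹ * f with hd
  have hdf : Commute d f := by
    obtain ⟨j, hj⟩ := Subgroup.mem_zpowers_iff.1 hk
    rw [← hj]
    exact (show Commute x f from hfx.symm).zpow_left j
  have hd3 : d ^ 3 = 1 := by
    obtain ⟨a, -, ha⟩ := T.pow_x hk
    rw [ha, ← pow_mul, mul_comm, pow_mul, T.x3, one_pow]
  have h5 : d ^ 5 = 1 := by
    have : (d * f⁻¹) ^ 5 = 1 := by rw [hd, mul_inv_cancel_right, conj_pow, hf5, mul_one, mul_inv_cancel]
    rwa [hdf.inv_right.mul_pow, inv_pow, hf5, inv_one, mul_one] at this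
  exact eq_one_of_two_pows hd3 h5 (by norm_num)

theorem exists_five : ∃ f, orderOf f = 5 ∧ f * x = x * f := by
  haveI : Fact (Nat.Prime 5) := ⟨by decide⟩
  obtain ⟨f, hf⟩ := exists_prime_orderOf_dvd_card' (G := Subgroup.centralizer ({x} : Set G)) 5 T.five_dvd
  exact ⟨f, by rw [Subgroup.orderOf_coe]; exact hf, Subgroup.mem_centralizer_singleton_iff.1 f.2⟩

theorem five_conj {f f' : G} (hf : orderOf f = 5) (hfx : f * x = x * f) (hf' : orderOf f' = 5)
    (hfx' : f' * x = x * f') : ∃ c, c * x = x * c ∧ c * f' * c⁻¹ ∈ Subgroup.zpowers f := by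
  haveI : Fact (Nat.Prime 5) := ⟨by decide⟩
  set M := Subgroup.centralizer ({x} : Set G)
  set F : M := ⟨f, Subgroup.mem_centralizer_singleton_iff.2 hfx⟩
  set F' : M := ⟨f', Subgroup.mem_centralizer_singleton_iff.2 hfx'⟩
  have hT : Nat.card (Subgroup.zpowers F) = 5 ^ (Nat.card M).factorization 5 := by
    rw [T.card_M, Nat.card_zpowers, Subgroup.orderOf_mk, hf, show (1080 : ℕ) = 5 ^ 1 * 216 by norm_num,
      Nat.factorization_mul (by norm_num) (by norm_num), Finsupp.add_apply,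
      Nat.Prime.factorization_pow (by decide : Nat.Prime 5), Finsupp.single_eq_same,
      Nat.factorization_eq_zero_of_not_dvd (by norm_num : ¬ 5 ∣ 216)]
    norm_num
  obtain ⟨T2, hT2⟩ := (IsPGroup.of_card (p := 5) (n := 1)
    (by rw [Nat.card_zpowers, Subgroup.orderOf_mk, hf', pow_one] :
      Nat.card (Subgroup.zpowers F') = 5 ^ 1)).exists_le_sylow
  obtain ⟨b, hbT⟩ := MulAction.exists_smul_eq M T2 (Sylow.ofCard _ hT)
  have hmem : b * F' * b⁻¹ ∈ ((Sylow.ofCard _ hT : Sylow 5 M) : Subgroup M) := by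
    rw [← hbT, Sylow.coe_subgroup_smul]
    exact ⟨_, hT2 (Subgroup.mem_zpowers _), rfl⟩
  rw [Sylow.coe_ofCard, Subgroup.mem_zpowers_iff] at hmem
  obtain ⟨j, hj⟩ := hmem
  exact ⟨b, Subgroup.mem_centralizer_singleton_iff.1 b.2,
    Subgroup.mem_zpowers_iff.2 ⟨j, congrArg Subtype.val hj⟩⟩

/-- No element of `C` has square `t` and inverts `x`. -/
theorem no_four_inverter {n : G} (hn2 : n * n = t) (hnx : n * x * n⁻¹ = x⁻¹) : False := by
  obtain ⟨u, v, U⟩ := T.exists_Pairs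
  have hnC : n ∈ C := T.data.memC.2 (by rw [← hn2, mul_assoc])
  obtain ⟨q, hq, l, hl, rfl⟩ := T.S.decomp n hnC
  have hxi : x⁻¹ ∈ K := K.inv_mem T.x_mem
  set m := l * x * l⁻¹ with hm
  have hmK : m ∈ K := K.mul_mem (K.mul_mem hl T.x_mem) (K.inv_mem hl)
  obtain ⟨h1, h2⟩ := T.core.decomp_unique
    (E.mul_mem hq (T.S.conj_mem m (T.S.K_le hmK) _ (E.inv_mem hq))) E.one_mem hmK hxi
    (show q * (m * q⁻¹ * m⁻¹) * m = 1 * x⁻¹ by
      rw [← hnx, hm, one_mul]; group)
  have hqx : q * x = x * q := by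
    rw [h2] at h1
    have h3 : q * x⁻¹ * q⁻¹ = x⁻¹ := by
      calc q * x⁻¹ * q⁻¹ = q * (x⁻¹ * q⁻¹ * x⁻¹⁻¹) * x⁻¹ := by group
        _ = x⁻¹ := by rw [h1, one_mul]
    exact (show Commute q x from inv_inv x ▸
      (show Commute q x⁻¹ from mul_inv_eq_iff_eq_mul.1 h3).inv_right).eq
  have hlC := T.S.K_le hl
  obtain ⟨h3, h4⟩ := T.core.decomp_unique (E.mul_mem hq (T.S.conj_mem l hlC q hq)) T.S.z_mem
    (K.mul_mem hl hl) K.one_mem
    (show q * (l * q * l⁻¹) * (l * l) = t * 1 by rw [mul_one, ← hn2]; group)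
  have hl1 : l ≠ 1 := by
    intro e
    rw [e, one_mul, inv_one, mul_one] at hm
    rw [hm] at h2
    exact T.x_ne (eq_one_of_two_pows (m := 2) (by rw [pow_two]; exact mul_eq_one_iff_eq_inv.2 h2) T.x3 (by norm_num))
  have hsw := U.swap l hl h4 hl1 h2
  obtain ⟨huQ, hu2, -, -⟩ := T.S.mem_X.1 U.uX
  obtain ⟨hvQ, hv2, -, -⟩ := T.S.mem_X.1 U.vX
  have huv : u * v ≠ 1 := fun e => U.ne (by
    rw [show u = v from by rw [eq_inv_of_mul_eq_one_left e, inv_eq_of_mul_eq_one_right hv2]])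
  have huvt : u * v ≠ t := fun e => by
    have hv' : v = u * t := by rw [← e, ← mul_assoc, hu2, one_mul]
    exact U.ne (T.S.pr_eq (T.S.mem_pr.2 (Or.inr hv'))).symm
  have hvu : v * u ≠ t := fun e => huvt (by
    have := congrArg (fun a => a⁻¹) e
    simpa [inv_eq_of_mul_eq_one_right hu2, inv_eq_of_mul_eq_one_right hv2,
      inv_eq_of_mul_eq_one_right T.S.z_sq] using this)
  have hvu1 : v * u ≠ 1 := fun e => huv (by
    rw [eq_inv_of_mul_eq_one_left e, mul_inv_cancel])
  have hL : ∀ a b : G, l * (a * b) * l⁻¹ = l * a * l⁻¹ * (l * b * l⁻¹) := fun a b => by group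
  have hLt : l * t * l⁻¹ = t := by rw [T.data.memC.1 hlC, mul_inv_cancel_right]
  have hLL : ∀ a : G, l * (l * a * l⁻¹) * l⁻¹ = a := fun a => by
    rw [show l * (l * a * l⁻¹) * l⁻¹ = l * l * a * (l * l)⁻¹ by group, h4]; group
  have hzu : t * u = u * t := (T.S.mul_z huQ).symm
  have hzv : t * v = v * t := (T.S.mul_z hvQ).symm
  have hcases := U.cases hq hqx
  simp only [Finset.mem_insert, Finset.mem_singleton] at hcases
  rcases T.S.mem_pr.1 (hsw ▸ Finset.mem_insert_self _ _ : l * u * l⁻¹ ∈ T.S.pr v) with hLu | hLu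
  · have hLv : l * v * l⁻¹ = u := by rw [← hLu, hLL]
    rcases hcases with rfl | rfl | rfl | rfl | rfl | rfl | rfl | rfl <;>
      simp only [hL, hLu, hLv, hLt, mul_one, one_mul, mul_inv_cancel] at h3
    · exact T.S.z_ne h3.symm
    · exact T.S.z_ne (h3.symm.trans T.S.z_sq)
    · exact huvt h3
    · rw [show u * t * (v * t) = u * v * (t * t) by rw [mul_assoc, ← mul_assoc t v t, hzv]; group,
        T.S.z_sq, mul_one] at h3
      exact huvt h3
    · exact hvu h3
    · rw [show v * t * (u * t) = v * u * (t * t) by rw [mul_assoc, ← mul_assoc t u t, hzu]; group,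
        T.S.z_sq, mul_one] at h3
      exact hvu h3
    · rw [show u * v * (v * u) = u * (v * v) * u by group, hv2, mul_one, hu2] at h3
      exact T.S.z_ne h3.symm
    · rw [show u * v * t * (v * u * t) = u * (v * (t * v)) * (u * t) by group, hzv,
        show u * (v * (v * t)) * (u * t) = u * (v * v) * (t * u) * t by group, hv2, mul_one, hzu,
        show u * (u * t) * t = (u * u) * (t * t) by group, hu2, T.S.z_sq, one_mul] at h3
      exact T.S.z_ne h3.symm
  · have hLv : l * v * l⁻¹ = u * t := by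
      have := congrArg (fun a => l * a * l⁻¹) hLu
      simp only [hLL, hL, hLt] at this
      rw [this, T.S.mul_zz]
    rcases hcases with rfl | rfl | rfl | rfl | rfl | rfl | rfl | rfl <;>
      simp only [hL, hLu, hLv, hLt, mul_one, one_mul, mul_inv_cancel] at h3
    · exact T.S.z_ne h3.symm
    · exact T.S.z_ne (h3.symm.trans T.S.z_sq)
    · exact huv (by rwa [← mul_assoc, mul_eq_right] at h3)
    · rw [T.S.mul_zz, mul_assoc, hzv, ← mul_assoc, mul_eq_right] at h3
      exact huv h3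
    · exact hvu1 (by rwa [← mul_assoc, mul_eq_right] at h3)
    · rw [T.S.mul_zz, mul_assoc, hzu, ← mul_assoc, mul_eq_right] at h3
      exact hvu1 h3
    · rw [show u * v * (v * t * (u * t)) = u * (v * v) * (t * u) * t by group, hv2, mul_one, hzu,
        show u * (u * t) * t = (u * u) * (t * t) by group, hu2, T.S.z_sq, one_mul] at h3
      exact T.S.z_ne h3.symm
    · rw [show u * v * t * (v * t * (u * t) * t) = u * (v * (t * v)) * (t * u) * (t * t) by group, hzv, hzu,
        T.S.z_sq, mul_one, show u * (v * (v * t)) * (u * t) = u * (v * v) * (t * u) * t by group, hv2, mul_one,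
        hzu, show u * (u * t) * t = (u * u) * (t * t) by group, hu2, T.S.z_sq, one_mul] at h3
      exact T.S.z_ne h3.symm

/-- An involution inverting `x` centralises an element of order 5 centralising `x`. -/
theorem exists_inv_comm : ∃ f b : G, orderOf f = 5 ∧ f * x = x * f ∧ b * b = 1 ∧ b ≠ 1 ∧
    b * x * b⁻¹ = x⁻¹ ∧ b * f = f * b := by
  obtain ⟨f, hf, hfx⟩ := T.exists_five
  have hf5 : f ^ 5 = 1 := hf ▸ pow_orderOf_eq_one f
  have hxi : x⁻¹ = x ^ 2 := (eq_inv_of_mul_eq_one_left (by rw [← pow_succ]; exact T.x3)).symm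
  obtain ⟨s, hs, hs2, -, hsx⟩ := T.exists_inverter
  have hfx' : s * f * s⁻¹ * x = x * (s * f * s⁻¹) := by
    have h := conj_comm (c := s) (show f * x⁻¹ = x⁻¹ * f from (show Commute f x from hfx).inv_right.eq)
    rwa [show s * x⁻¹ * s⁻¹ = (s * x * s⁻¹)⁻¹ by group, hsx, inv_inv] at h
  obtain ⟨c, hcx, hc⟩ := T.five_conj hf hfx
    ((orderOf_injective (MulAut.conj s).toMonoidHom (MulAut.conj s).injective f).trans hf) hfx'
  set n := c * s with hn
  have hnx : n * x * n⁻¹ = x⁻¹ := by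
    rw [hn, show c * s * x * (c * s)⁻¹ = c * (s * x * s⁻¹) * c⁻¹ by group, hsx]
    exact mul_inv_eq_iff_eq_mul.2 (show Commute c x from hcx).inv_right.eq
  obtain ⟨i, hi5, hni⟩ := conj_mem_zpowers_pow
    (show n * f * n⁻¹ ∈ Subgroup.zpowers f by
      rw [hn, show c * s * f * (c * s)⁻¹ = c * (s * f * s⁻¹) * c⁻¹ by group]; exact hc)
  rw [hf] at hi5
  -- from an inverter of `x` to one of 2-power order
  have htwo : ∀ n : G, n * x * n⁻¹ = x⁻¹ → ∀ i : ℕ, n * f * n⁻¹ = f ^ i →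
      ∃ n' : G, ∃ r a : ℕ, n' ^ (2 ^ a) = 1 ∧ n' * x * n'⁻¹ = x⁻¹ ∧ n' * f * n'⁻¹ = f ^ i ^ (2 * r + 1) := by
    intro n hnx i hni
    obtain ⟨a, m, ⟨r, rfl⟩, hm⟩ := Nat.exists_eq_two_pow_mul_odd (n := orderOf n) (orderOf_pos n).ne'
    refine ⟨n ^ (2 * r + 1), r, a, by rw [← pow_mul, mul_comm, ← hm, pow_orderOf_eq_one], ?_, conj_step hni _⟩
    rw [hxi] at hnx ⊢
    rw [conj_step hnx, ← pow_mod_orderOf, T.x_ord]
    congr 1
    rw [pow_succ, pow_mul, Nat.mul_mod, Nat.pow_mod]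
    norm_num
  have hfin : ∀ n : G, ∀ a : ℕ, n ^ (2 ^ a) = 1 → n * x = x * n → n * f = f * n → n = 1 := by
    intro n a ha hx hf'
    exact eq_one_of_two_pows ha (T.cent_five_fifteen hf hfx hx hf')
      (Nat.Coprime.pow_left a (by norm_num))
  have hsqx : ∀ n : G, n * x * n⁻¹ = x⁻¹ → n * n * x = x * (n * n) := by
    intro n h
    refine mul_inv_eq_iff_eq_mul.1 ?_
    rw [show n * n * x * (n * n)⁻¹ = n * (n * x * n⁻¹) * n⁻¹ by group, h,
      show n * x⁻¹ * n⁻¹ = (n * x * n⁻¹)⁻¹ by group, h, inv_inv]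
  have hgood : ∀ n : G, n * x * n⁻¹ = x⁻¹ → n * f = f * n → ∃ f b : G, orderOf f = 5 ∧ f * x = x * f ∧
      b * b = 1 ∧ b ≠ 1 ∧ b * x * b⁻¹ = x⁻¹ ∧ b * f = f * b := by
    intro n hnx hnf
    obtain ⟨b, r, a, hb, hbx, hbf⟩ := htwo n hnx 1 (by rw [pow_one, hnf, mul_inv_cancel_right])
    rw [one_pow, pow_one] at hbf
    have hbf' := mul_inv_eq_iff_eq_mul.1 hbf
    refine ⟨f, b, hf, hfx, hfin _ a ?_ (hsqx b hbx) ((show Commute b f from hbf').mul_left hbf').eq, ?_, hbx, hbf'⟩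
    · rw [(Commute.refl b).mul_pow, hb, one_mul]
    · rintro rfl
      rw [one_mul, inv_one, mul_one] at hbx
      exact T.x_ne (eq_one_of_two_pows (m := 2) (by rw [pow_two]; exact mul_eq_one_iff_eq_inv.2 hbx) T.x3
        (by norm_num))
  have hmod : ∀ i : ℕ, i * i % 5 = 4 → ∀ {r : ℕ}, (i ^ (2 * r + 1)) ^ 2 % 5 = 4 := by
    intro i hi r
    rw [← pow_mul, mul_comm, pow_mul, Nat.pow_mod, pow_two, hi, pow_succ, pow_mul, Nat.mul_mod, Nat.pow_mod]
    norm_num
  interval_cases i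
  · rw [pow_zero] at hni
    rw [conj_eq_one_iff.1 hni, orderOf_one] at hf
    omega
  · rw [pow_one] at hni
    exact hgood n hnx (mul_inv_eq_iff_eq_mul.1 hni)
  rotate_left 2
  · obtain ⟨c', hc'x, hc'f⟩ := T.five_inverted hf hfx
    refine hgood (c' * n) ?_ (mul_inv_eq_iff_eq_mul.1 ?_)
    · rw [show c' * n * x * (c' * n)⁻¹ = c' * (n * x * n⁻¹) * c'⁻¹ by group, hnx]
      exact mul_inv_eq_iff_eq_mul.2 (show Commute c' x from hc'x).inv_right.eq
    · rw [show c' * n * f * (c' * n)⁻¹ = c' * (n * f * n⁻¹) * c'⁻¹ by group, hni,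
        show f ^ 4 = f⁻¹ from eq_inv_of_mul_eq_one_left (by rw [← pow_succ]; exact hf5),
        show c' * f⁻¹ * c'⁻¹ = (c' * f * c'⁻¹)⁻¹ by group, hc'f, inv_inv]
  all_goals
    obtain ⟨n', r, a, hn'2, hn'x, hn'f⟩ := htwo n hnx _ hni
    exfalso
    set j := n' * n' with hj
    have hjx := hsqx n' hn'x
    have hjf : j * f * j⁻¹ = f⁻¹ := by
      rw [hj, ← pow_two, conj_step hn'f, ← pow_mod_orderOf, hf, hmod _ (by norm_num)]
      exact eq_inv_of_mul_eq_one_left (by rw [← pow_succ]; exact hf5)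
    have hj2 : j * j = 1 := by
      refine hfin _ a (by rw [(Commute.refl j).mul_pow, hj, (Commute.refl n').mul_pow, hn'2]; simp)
        ((show Commute j x from hjx).mul_left hjx).eq (mul_inv_eq_iff_eq_mul.1 ?_)
      rw [show j * j * f * (j * j)⁻¹ = j * (j * f * j⁻¹) * j⁻¹ by group, hjf,
        show j * f⁻¹ * j⁻¹ = (j * f * j⁻¹)⁻¹ by group, hjf, inv_inv]
    have hj1 : j ≠ 1 := by
      intro e
      rw [e, one_mul, inv_one, mul_one] at hjf
      have := eq_one_of_two_pows (m := 2) (by rw [pow_two]; exact mul_eq_one_iff_eq_inv.2 hjf) hf5 (by norm_num)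
      rw [this, orderOf_one] at hf
      omega
    obtain ⟨h, hhx, hht⟩ := T.invol_conj hj2 hj1 hjx
    refine T.no_four_inverter (n := h * n' * h⁻¹) ?_ ?_
    · rw [← hht, hj]; group
    · rw [show h * n' * h⁻¹ * x * (h * n' * h⁻¹)⁻¹ = h * (n' * (h⁻¹ * x * h) * n'⁻¹) * h⁻¹ by group,
        show h⁻¹ * x * h = x by rw [mul_assoc, ← hhx, inv_mul_cancel_left], hn'x]
      exact mul_inv_eq_iff_eq_mul.2 (show Commute h x from hhx).inv_right.eq

end Three

theorem Data.five_decomp (D : Data t E K C) {y c : G} (hy : y ∈ K) (hyo : orderOf y = 5) (hc : c ∈ C)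
    (hcy : c * y = y * c) : ∃ q : G, (q = 1 ∨ q = t) ∧ ∃ k ∈ Subgroup.zpowers y, c = q * k := by
  obtain ⟨e⟩ := D.S.equivK
  obtain ⟨q, hq, k, hk, rfl⟩ := D.S.decomp c hc
  obtain ⟨h1, h2⟩ := D.core.commute_decomp hq hk hy hcy
  have hy5 : y ^ 5 = 1 := hyo ▸ pow_orderOf_eq_one y
  have hy1 : y ≠ 1 := fun h => by rw [h, orderOf_one] at hyo; omega
  refine ⟨q, D.S.five_centralizer hy hy5 hy1 hq h2.symm, k, ?_, rfl⟩
  have hm := Subgroup.mem_zpowers y
  rcases J2Type.alt5_five_cent (e ⟨y, hy⟩) (by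
      rw [← map_pow, show (⟨y, hy⟩ : K) ^ 5 = 1 from Subtype.ext hy5, map_one])
    (fun h => hy1 (congrArg Subtype.val (e.injective (h.trans (map_one e).symm)))) (e ⟨k, hk⟩)
    (by rw [← map_mul, ← map_mul, show (⟨k, hk⟩ : K) * ⟨y, hy⟩ = ⟨y, hy⟩ * ⟨k, hk⟩ from Subtype.ext h1])
    with h | h | h | h | h
  · rw [show k = 1 from congrArg Subtype.val (e.injective (h.trans (map_one e).symm))]
    exact Subgroup.one_mem _
  · rw [show k = y from congrArg Subtype.val (e.injective h)]; exact hm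
  all_goals
    rw [← map_pow] at h
    first
    | (rw [show k = y ^ 2 from congrArg Subtype.val (e.injective h)]; exact Subgroup.pow_mem _ hm _)
    | (rw [show k = y ^ 3 from congrArg Subtype.val (e.injective h)]; exact Subgroup.pow_mem _ hm _)
    | (rw [show k = y ^ 4 from congrArg Subtype.val (e.injective h)]; exact Subgroup.pow_mem _ hm _)

theorem Data.five_not_sq_C (D : Data t E K C) {y c : G} (hy : y ∈ K) (hyo : orderOf y = 5) (hc : c ∈ C) :
    c * y * c⁻¹ ≠ y ^ 2 ∧ c * y * c⁻¹ ≠ y ^ 3 := by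
  obtain ⟨e⟩ := D.S.equivK
  obtain ⟨q, hq, k, hk, rfl⟩ := D.S.decomp c hc
  set Y : K := ⟨y, hy⟩
  have hY5 : Y ^ 5 = 1 := Subtype.ext (show y ^ 5 = 1 from hyo ▸ pow_orderOf_eq_one y)
  have hY1 : e Y ≠ 1 := fun h => by
    rw [show y = 1 from congrArg Subtype.val (e.injective (h.trans (map_one e).symm)), orderOf_one] at hyo
    omega
  have key := J2Type.alt5_five_not_sq (e Y) (by rw [← map_pow, hY5, map_one]) hY1 (e ⟨k, hk⟩)
  simp only [← map_mul, ← map_inv, ← map_pow, ne_eq] at key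
  have hkf : k * y * k⁻¹ ∈ K := K.mul_mem (K.mul_mem hk hy) (K.inv_mem hk)
  have hsplit : ∀ m : G, m ∈ K → q * k * y * (q * k)⁻¹ = m → k * y * k⁻¹ = m := by
    intro m hm' h
    have h' : (1 : G) * (k * y * k⁻¹) = q⁻¹ * (m * q * m⁻¹) * m := by rw [← h]; group
    exact (D.core.decomp_unique E.one_mem
      (E.mul_mem (E.inv_mem hq) (D.S.conj_mem m (D.S.K_le hm') q hq)) hkf hm' h').2
  exact ⟨fun h => key.1 (congrArg e (Subtype.ext (hsplit _ (K.pow_mem hy 2) h))),
    fun h => key.2 (congrArg e (Subtype.ext (hsplit _ (K.pow_mem hy 3) h)))⟩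

/-- An element `y` of order 5 of the complement, an inverting involution `s` and an element `w` of
order 3 centralising `y`. -/
structure Five (t x y w s : G) (E K C : Subgroup G) : Prop where
  three : Three t x E K C
  y_mem : y ∈ K
  y_ord : orderOf y = 5
  s_mem : s ∈ K
  s_sq : s * s = 1
  s_y : s * y * s⁻¹ = y⁻¹
  w_ord : orderOf w = 3
  w_y : w * y = y * w
  t_w : t * w * t⁻¹ = w⁻¹
  w_conj : ∃ g : G, g * x * g⁻¹ = w

theorem Data.exists_Five (D : Data t E K C) : ∃ x y w s : G, Five t x y w s E K C := by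
  haveI : Fact (Nat.Prime 5) := ⟨by decide⟩
  obtain ⟨x, T⟩ := D.exists_three
  obtain ⟨f, b, hf, hfx, hb2, hb1, hbx, hbf⟩ := T.exists_inv_comm
  obtain ⟨g, hg⟩ := D.exists_to_t hb2 hb1
  set f1 := g * f * g⁻¹ with hf1
  have hf1o : orderOf f1 = 5 := (orderOf_injective (MulAut.conj g).toMonoidHom (MulAut.conj g).injective f).trans hf
  have hf1C : f1 ∈ C := by rw [D.memC, ← hg]; exact conj_comm hbf.symm
  obtain ⟨⟨y0, hy0⟩, ho⟩ := exists_prime_orderOf_dvd_card' (G := K) 5 (by rw [D.S.card_K]; norm_num)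
  rw [Subgroup.orderOf_mk] at ho
  have hy0C := D.S.K_le hy0
  -- conjugate `f1` into `⟨y0⟩`
  have hT : Nat.card (Subgroup.zpowers (⟨y0, hy0C⟩ : C)) = 5 ^ (Nat.card C).factorization 5 := by
    rw [D.core.card_C, Nat.card_zpowers, Subgroup.orderOf_mk, ho, show (1920 : ℕ) = 5 ^ 1 * 384 by norm_num,
      Nat.factorization_mul (by norm_num) (by norm_num), Finsupp.add_apply,
      Nat.Prime.factorization_pow (by decide : Nat.Prime 5), Finsupp.single_eq_same,
      Nat.factorization_eq_zero_of_not_dvd (by norm_num : ¬ 5 ∣ 384)]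
    norm_num
  obtain ⟨T2, hT2⟩ := (IsPGroup.of_card (p := 5) (n := 1)
    (by rw [Nat.card_zpowers, Subgroup.orderOf_mk, hf1o, pow_one] :
      Nat.card (Subgroup.zpowers (⟨f1, hf1C⟩ : C)) = 5 ^ 1)).exists_le_sylow
  obtain ⟨c, hcT⟩ := MulAction.exists_smul_eq C T2 (Sylow.ofCard _ hT)
  have hmem : c * ⟨f1, hf1C⟩ * c⁻¹ ∈ ((Sylow.ofCard _ hT : Sylow 5 C) : Subgroup C) := by
    rw [← hcT, Sylow.coe_subgroup_smul]
    exact ⟨_, hT2 (Subgroup.mem_zpowers _), rfl⟩
  rw [Sylow.coe_ofCard, Subgroup.mem_zpowers_iff] at hmem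
  obtain ⟨j, hj⟩ := hmem
  set y := (c : G) * f1 * (c : G)⁻¹ with hy
  have hyK : y ∈ K := by
    rw [hy, ← show y0 ^ j = (c : G) * f1 * (c : G)⁻¹ by simpa using congrArg Subtype.val hj]
    exact K.zpow_mem hy0 j
  have hyo : orderOf y = 5 :=
    (orderOf_injective (MulAut.conj (c : G)).toMonoidHom (MulAut.conj (c : G)).injective f1).trans hf1o
  obtain ⟨e⟩ := D.S.equivK
  obtain ⟨i, hi2, -, hiy⟩ := J2Type.alt5_five_inv (e ⟨y, hyK⟩) (by
    rw [← map_pow, show (⟨y, hyK⟩ : K) ^ 5 = 1 from Subtype.ext (show y ^ 5 = 1 from hyo ▸ pow_orderOf_eq_one y),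
      map_one])
  have hs2 : e.symm i * e.symm i = 1 := by rw [← map_mul, hi2, map_one]
  have hsy : e.symm i * ⟨y, hyK⟩ * (e.symm i)⁻¹ = (⟨y, hyK⟩ : K)⁻¹ := e.injective (by simp [hiy])
  set h := (c : G) * g with hh
  refine ⟨x, y, h * x * h⁻¹, (e.symm i : G), T, hyK, hyo, SetLike.coe_mem _, congrArg Subtype.val hs2,
    congrArg Subtype.val hsy,
    (orderOf_injective (MulAut.conj h).toMonoidHom (MulAut.conj h).injective x).trans T.x_ord, ?_, ?_, h, rfl⟩
  · rw [show y = h * f * h⁻¹ by rw [hy, hf1, hh]; group]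
    exact conj_comm hfx.symm
  · have ht : h * b * h⁻¹ = t := by
      rw [hh, show (c : G) * g * b * ((c : G) * g)⁻¹ = c * (g * b * g⁻¹) * (c : G)⁻¹ by group, hg,
        D.memC.1 c.2, mul_inv_cancel_right]
    rw [← ht, show h * b * h⁻¹ * (h * x * h⁻¹) * (h * b * h⁻¹)⁻¹ = h * (b * x * b⁻¹) * h⁻¹ by group, hbx]
    group

namespace Five

variable {x y w s : G} (F : Five t x y w s E K C)
include F

theorem D : Data t E K C := F.three.data

theorem y5 : y ^ 5 = 1 := F.y_ord ▸ pow_orderOf_eq_one y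

theorem w3 : w ^ 3 = 1 := F.w_ord ▸ pow_orderOf_eq_one w

theorem yt : y * t = t * y := F.D.memC.1 (F.D.S.K_le F.y_mem)

/-- The common centraliser of `y` and `w`. -/
theorem cent_wy {c : G} (hcw : c * w = w * c) (hcy : c * y = y * c) :
    ∃ a i : ℕ, c = w ^ a * y ^ i := by
  obtain ⟨g, hg⟩ := F.w_conj
  have hx : g⁻¹ * w * g = x := by rw [← hg]; group
  have hconj : ∀ {p q : G}, p * q = q * p → g⁻¹ * p * g * (g⁻¹ * q * g) = g⁻¹ * q * g * (g⁻¹ * p * g) := by
    intro p q h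
    simpa using conj_comm (c := g⁻¹) h
  obtain ⟨a, -, i, -, h⟩ := F.three.cent_five (f := g⁻¹ * y * g) (c := g⁻¹ * c * g)
    (by rw [← F.y_ord]; simpa using orderOf_injective (MulAut.conj g⁻¹).toMonoidHom (MulAut.conj g⁻¹).injective y)
    (hx ▸ hconj F.w_y.symm) (hx ▸ hconj hcw) (hconj hcy)
  refine ⟨a, i, ?_⟩
  calc c = g * (g⁻¹ * c * g) * g⁻¹ := by group
    _ = (g * x * g⁻¹) ^ a * (g * (g⁻¹ * y * g) * g⁻¹) ^ i := by rw [h, conj_pow, conj_pow]; group
    _ = w ^ a * y ^ i := by rw [hg]; group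

/-- The centraliser of `y` has order 30; its elements of order 3 centralise `w`. -/
theorem cent_y : Nat.card (Subgroup.centralizer ({y} : Set G)) = 30 ∧
    ∀ u : G, u ^ 3 = 1 → u * y = y * u → u * w = w * u := by
  haveI := zpowers_normal_cent y
  set M := Subgroup.centralizer ({y} : Set G) with hM
  set H := (Subgroup.zpowers y).subgroupOf M
  set π := QuotientGroup.mk' H with hπ
  have hπs : Function.Surjective π := QuotientGroup.mk'_surjective _
  have hπ1 : ∀ c : M, π c = 1 ↔ (c : G) ∈ Subgroup.zpowers y := fun c => by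
    rw [hπ, QuotientGroup.mk'_apply, QuotientGroup.eq_one_iff, Subgroup.mem_subgroupOf]
  have htM : t ∈ M := Subgroup.mem_centralizer_singleton_iff.2 F.yt.symm
  have hwM : w ∈ M := Subgroup.mem_centralizer_singleton_iff.2 F.w_y
  set tM : M := ⟨t, htM⟩
  have h5 : ∀ {d : G}, d ∈ Subgroup.zpowers y → d ^ 5 = 1 ∧ ∀ a : G, a * y = y * a → Commute d a := by
    intro d hd
    obtain ⟨j, -, rfl⟩ := conj_mem_zpowers_pow hd
    exact ⟨by rw [← pow_mul, mul_comm, pow_mul, F.y5, one_pow],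
      fun a ha => (show Commute y a from ha.symm).pow_left j⟩
  have hτ1 : π tM ≠ 1 := fun h => F.D.S.z_ne
    (eq_one_of_two_pows (m := 2) (by rw [pow_two]; exact F.D.S.z_sq) (h5 ((hπ1 _).1 h)).1 (by norm_num))
  have hself : ∀ q : M ⧸ H, q * π tM = π tM * q → q = 1 ∨ q = π tM := by
    intro q hq
    obtain ⟨c, rfl⟩ := hπs q
    have hd : (c : G) * t * (c : G)⁻¹ * t⁻¹ ∈ Subgroup.zpowers y :=
      (hπ1 (c * tM * c⁻¹ * tM⁻¹)).1 (by
        simp only [map_mul, map_inv, hq]; group)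
    obtain ⟨hd5, hdc⟩ := h5 hd
    set d := (c : G) * t * (c : G)⁻¹ * t⁻¹ with hdd
    have hd2 : d ^ 2 = 1 := by
      have h3 : (d * t) ^ 2 = 1 := by
        rw [show d * t = (c : G) * t * (c : G)⁻¹ by rw [hdd]; group, pow_two, conj_sq_one F.D.S.z_sq]
      rwa [(hdc t F.yt.symm).mul_pow, pow_two t, F.D.S.z_sq, mul_one] at h3
    have hd1 := eq_one_of_two_pows hd2 hd5 (by norm_num)
    rw [hdd, mul_inv_eq_one, mul_inv_eq_iff_eq_mul] at hd1
    obtain ⟨p, hp, k, hk, hcq⟩ := F.D.five_decomp F.y_mem F.y_ord (F.D.memC.2 hd1)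
      (Subgroup.mem_centralizer_singleton_iff.1 c.2)
    have hkM : k ∈ M := Subgroup.mem_centralizer_singleton_iff.2 ((h5 hk).2 y rfl).eq
    rcases hp with rfl | rfl
    · left
      rw [hπ1, hcq, one_mul]
      exact hk
    · right
      rw [show c = tM * ⟨k, hkM⟩ from Subtype.ext hcq, map_mul, (hπ1 ⟨k, hkM⟩).2 hk, mul_one]
  obtain ⟨N, hN2, -, hNab⟩ := invol_self_cent
    (by rw [← map_mul, show tM * tM = 1 from Subtype.ext F.D.S.z_sq, map_one]) hτ1 hself
  set P := N.comap π with hP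
  have hP2 : P.index = 2 := (Subgroup.index_comap_of_surjective N hπs).trans hN2
  have h3N : ∀ c : M, (c : G) ^ 3 = 1 → c ∈ P := by
    intro c hc
    have h := Subgroup.mul_self_mem_of_index_two hP2 c
    rw [show c = c * c * (c * c) by
      apply Subtype.ext
      rw [Subgroup.coe_mul, Subgroup.coe_mul]
      calc (c : G) = (c : G) ^ 3 * c := by rw [hc, one_mul]
        _ = _ := by simp only [pow_succ, pow_zero, one_mul, mul_assoc]]
    exact P.mul_mem h h
  have hPw : ∀ c ∈ P, (c : G) * w = w * c := by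
    intro c hc
    have hwP := h3N ⟨w, hwM⟩ F.w3
    have hd : (c : G) * w * (c : G)⁻¹ * w⁻¹ ∈ Subgroup.zpowers y :=
      (hπ1 (c * ⟨w, hwM⟩ * c⁻¹ * ⟨w, hwM⟩⁻¹)).1 (by
        simp only [map_mul, map_inv, hNab _ hc _ hwP]; group)
    obtain ⟨hd5, hdc⟩ := h5 hd
    set d := (c : G) * w * (c : G)⁻¹ * w⁻¹ with hdd
    have hd3 : d ^ 3 = 1 := by
      have h3 : (d * w) ^ 3 = 1 := by
        rw [show d * w = (c : G) * w * (c : G)⁻¹ by rw [hdd]; group, conj_pow, F.w3]; group
      rwa [(hdc w F.w_y).mul_pow, F.w3, mul_one] at h3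
    have hd1 := eq_one_of_two_pows hd3 hd5 (by norm_num)
    rwa [hdd, mul_inv_eq_one, mul_inv_eq_iff_eq_mul] at hd1
  have hPle : Nat.card P ≤ 15 := by
    obtain ⟨g, hg⟩ := F.w_conj
    have hx : g⁻¹ * w * g = x := by rw [← hg]; group
    have hconj : ∀ {p q : G}, p * q = q * p → g⁻¹ * p * g * (g⁻¹ * q * g) = g⁻¹ * q * g * (g⁻¹ * p * g) := by
      intro p q h
      simpa using conj_comm (c := g⁻¹) h
    refine le_trans ?_ (F.three.cent_five_card (f := g⁻¹ * y * g)
      (by rw [← F.y_ord]; simpa using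
        orderOf_injective (MulAut.conj g⁻¹).toMonoidHom (MulAut.conj g⁻¹).injective y)
      (hx ▸ hconj F.w_y.symm))
    refine Nat.card_le_card_of_injective
      (fun c : P => ⟨g⁻¹ * ((c : M) : G) * g, Subgroup.mem_inf.2
        ⟨Subgroup.mem_centralizer_singleton_iff.2 (hx ▸ hconj (hPw _ c.2)),
         Subgroup.mem_centralizer_singleton_iff.2
           (hconj (Subgroup.mem_centralizer_singleton_iff.1 (c : M).2))⟩⟩) ?_
    intro a b hab
    exact Subtype.ext (Subtype.ext (mul_left_cancel (mul_right_cancel (congrArg Subtype.val hab))))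
  refine ⟨?_, fun u hu huy => hPw ⟨u, Subgroup.mem_centralizer_singleton_iff.2 huy⟩ (h3N _ hu)⟩
  have hle : Nat.card M ≤ 30 := by
    rw [← Subgroup.card_mul_index P, hP2]
    omega
  have h2 : 2 ∣ Nat.card M := (orderOf_eq_prime (p := 2) (by rw [pow_two]; exact F.D.S.z_sq) F.D.S.z_ne) ▸
    Subgroup.orderOf_dvd_natCard M htM
  have h3 : 3 ∣ Nat.card M := F.w_ord ▸ Subgroup.orderOf_dvd_natCard M hwM
  have h5' : 5 ∣ Nat.card M := F.y_ord ▸
    Subgroup.orderOf_dvd_natCard M (Subgroup.mem_centralizer_singleton_iff.2 rfl : y ∈ M)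
  have hpos : 0 < Nat.card M := Nat.card_pos
  omega

theorem not_conj_sq (g : G) : g * y * g⁻¹ ≠ y ^ 2 ∧ g * y * g⁻¹ ≠ y ^ 3 := by
  haveI : Fact (Nat.Prime 2) := ⟨Nat.prime_two⟩
  have key : ∀ j : ℕ, (∀ c ∈ C, c * y * c⁻¹ ≠ y ^ j) → ¬ 5 ∣ j → g * y * g⁻¹ ≠ y ^ j := by
    intro j hj hj5 h
    set M := Subgroup.centralizer ({y} : Set G) with hM
    set t' := g * t * g⁻¹ with ht'
    have htM : t ∈ M := Subgroup.mem_centralizer_singleton_iff.2 F.yt.symm
    have hcomm : t' * y ^ j = y ^ j * t' := by rw [← h]; exact conj_comm F.yt.symm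
    -- `y` is a power of `y ^ j`
    obtain ⟨i, hi⟩ : ∃ i, (y ^ j) ^ i = y := by
      obtain ⟨i, hi⟩ := exists_pow_eq_self_of_coprime (x := y) (n := j)
        (by rw [F.y_ord]; exact ((Nat.Prime.coprime_iff_not_dvd (by decide)).2 hj5).symm)
      exact ⟨i, hi⟩
    have ht'y : t' * y = y * t' := by
      rw [← hi]; exact ((show Commute t' (y ^ j) from hcomm).pow_right i).eq
    have ht'M : t' ∈ M := Subgroup.mem_centralizer_singleton_iff.2 ht'y
    have hot : orderOf t = 2 := orderOf_eq_prime (by rw [pow_two]; exact F.D.S.z_sq) F.D.S.z_ne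
    have hot' : orderOf t' = 2 :=
      (orderOf_injective (MulAut.conj g).toMonoidHom (MulAut.conj g).injective t).trans hot
    have hT : Nat.card (Subgroup.zpowers (⟨t, htM⟩ : M)) = 2 ^ (Nat.card M).factorization 2 := by
      rw [F.cent_y.1, Nat.card_zpowers, Subgroup.orderOf_mk, hot, show (30 : ℕ) = 2 ^ 1 * 15 by norm_num,
        Nat.factorization_mul (by norm_num) (by norm_num), Finsupp.add_apply,
        Nat.Prime.factorization_pow Nat.prime_two, Finsupp.single_eq_same,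
        Nat.factorization_eq_zero_of_not_dvd (by norm_num : ¬ 2 ∣ 15)]
      norm_num
    obtain ⟨T2, hT2⟩ := (IsPGroup.of_card (p := 2) (n := 1)
      (by rw [Nat.card_zpowers, Subgroup.orderOf_mk, hot', pow_one] :
        Nat.card (Subgroup.zpowers (⟨t', ht'M⟩ : M)) = 2 ^ 1)).exists_le_sylow
    obtain ⟨⟨b, hb⟩, hbT⟩ := MulAction.exists_smul_eq M T2 (Sylow.ofCard _ hT)
    have hmem : (⟨b, hb⟩ : M) * ⟨t', ht'M⟩ * (⟨b, hb⟩ : M)⁻¹ ∈
        ((Sylow.ofCard _ hT : Sylow 2 M) : Subgroup M) := by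
      rw [← hbT, Sylow.coe_subgroup_smul]
      exact ⟨_, hT2 (Subgroup.mem_zpowers _), rfl⟩
    rw [Sylow.coe_ofCard, Subgroup.mem_zpowers_iff] at hmem
    obtain ⟨k, hk⟩ := hmem
    have hk' : t ^ k = b * t' * b⁻¹ := by simpa using congrArg Subtype.val hk
    have hbt : b * t' * b⁻¹ = t := by
      obtain ⟨a, ha, hta⟩ := conj_mem_zpowers_pow (a := t) (Subgroup.mem_zpowers_iff.2 ⟨k, hk'⟩)
      rw [hot] at ha
      interval_cases a
      · rw [pow_zero, conj_eq_one_iff] at hta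
        exact absurd (conj_eq_one_iff.1 hta) F.D.S.z_ne
      · rwa [pow_one] at hta
    refine hj (b * g) (F.D.memC.2 (mul_inv_eq_iff_eq_mul.1 ?_)) ?_
    · rw [show b * g * t * (b * g)⁻¹ = b * (g * t * g⁻¹) * b⁻¹ by group]; exact hbt
    · rw [show b * g * y * (b * g)⁻¹ = b * (g * y * g⁻¹) * b⁻¹ by group, h]
      exact mul_inv_eq_iff_eq_mul.2
        ((show Commute b y from Subgroup.mem_centralizer_singleton_iff.1 hb).pow_right j).eq
  exact ⟨key 2 (fun c hc => (F.D.five_not_sq_C F.y_mem F.y_ord hc).1) (by norm_num),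
    key 3 (fun c hc => (F.D.five_not_sq_C F.y_mem F.y_ord hc).2) (by norm_num)⟩

theorem not_dvd_25 : ¬ 25 ∣ Nat.card G := by
  intro h
  haveI : Fact (Nat.Prime 5) := ⟨by decide⟩
  obtain ⟨P, hP⟩ := (IsPGroup.of_card (p := 5) (n := 1)
    (by rw [Nat.card_zpowers, F.y_ord, pow_one] : Nat.card (Subgroup.zpowers y) = 5 ^ 1)).exists_le_sylow
  have hyP : y ∈ (P : Subgroup G) := hP (Subgroup.mem_zpowers y)
  have h25 : 25 ∣ Nat.card P := P.pow_dvd_card_of_pow_dvd_card (n := 2) h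
  haveI : Nontrivial P :=
    ⟨⟨⟨y, hyP⟩, 1, fun e => by
      have := F.y_ord
      rw [show y = 1 from congrArg Subtype.val e, orderOf_one] at this
      omega⟩⟩
  haveI := P.2.center_nontrivial
  obtain ⟨⟨z0, hz0⟩, hz01⟩ := exists_ne (1 : Subgroup.center P)
  rw [Subgroup.mem_center_iff] at hz0
  set M := Subgroup.centralizer ({y} : Set G) with hM
  have hz0y : (z0 : G) * y = y * z0 := (congrArg Subtype.val (hz0 ⟨y, hyP⟩)).symm
  obtain ⟨k, hk⟩ := P.2 z0
  have hzM : (z0 : G) ∈ M := Subgroup.mem_centralizer_singleton_iff.2 hz0y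
  -- `⟨y⟩` is the Sylow 5-subgroup of the centraliser
  have hd := Subgroup.orderOf_dvd_natCard M hzM
  rw [F.cent_y.1] at hd
  have hzo : orderOf (z0 : G) ∣ 5 := by
    have h5k : orderOf (z0 : G) ∣ 5 ^ k := orderOf_dvd_of_pow_eq_one (congrArg Subtype.val hk)
    obtain ⟨m, -, hm⟩ := (Nat.dvd_prime_pow (by decide : Nat.Prime 5)).1 h5k
    rw [hm] at hd ⊢
    rcases m with _ | _ | m
    · simp
    · simp
    · exfalso
      have h52 : 5 ^ 2 ∣ 30 := dvd_trans (pow_dvd_pow 5 (by omega)) hd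
      norm_num at h52
  have hzw : (z0 : G) ^ 5 = 1 := orderOf_dvd_iff_pow_eq_one.1 hzo
  -- elements of order 5 centralising `y` are powers of `y`
  have hzy : (z0 : G) ∈ Subgroup.zpowers y := by
    have hyM : y ∈ M := Subgroup.mem_centralizer_singleton_iff.2 rfl
    have hT : Nat.card (Subgroup.zpowers (⟨y, hyM⟩ : M)) = 5 ^ (Nat.card M).factorization 5 := by
      rw [F.cent_y.1, Nat.card_zpowers, Subgroup.orderOf_mk, F.y_ord, show (30 : ℕ) = 5 ^ 1 * 6 by norm_num,
        Nat.factorization_mul (by norm_num) (by norm_num), Finsupp.add_apply,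
        Nat.Prime.factorization_pow (by decide : Nat.Prime 5), Finsupp.single_eq_same,
        Nat.factorization_eq_zero_of_not_dvd (by norm_num : ¬ 5 ∣ 6)]
      norm_num
    haveI : (Subgroup.zpowers (⟨y, hyM⟩ : M)).Normal := by
      refine ⟨fun n hn g => ?_⟩
      obtain ⟨j, rfl⟩ := Subgroup.mem_zpowers_iff.1 hn
      have hg : Commute g (⟨y, hyM⟩ : M) := Subtype.ext (Subgroup.mem_centralizer_singleton_iff.1 g.2)
      rw [(hg.zpow_right j).eq, mul_inv_cancel_right]
      exact Subgroup.zpow_mem _ (Subgroup.mem_zpowers _) j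
    haveI := Sylow.unique_of_normal (Sylow.ofCard _ hT : Sylow 5 M) (by rw [Sylow.coe_ofCard]; infer_instance)
    obtain ⟨e5, -, he5⟩ := (Nat.dvd_prime_pow (i := orderOf (z0 : G)) (m := 1) (by decide : Nat.Prime 5)).1 (by rwa [pow_one])
    have hpz : IsPGroup 5 (Subgroup.zpowers (⟨z0, hzM⟩ : M)) :=
      IsPGroup.of_card (n := e5) (by rw [Nat.card_zpowers, Subgroup.orderOf_mk]; exact he5)
    obtain ⟨R, hR⟩ := hpz.exists_le_sylow
    have hRe : R = Sylow.ofCard _ hT := Subsingleton.elim _ _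
    have hm := hR (Subgroup.mem_zpowers _)
    rw [hRe, Sylow.coe_ofCard, Subgroup.mem_zpowers_iff] at hm
    obtain ⟨j, hj⟩ := hm
    exact Subgroup.mem_zpowers_iff.2 ⟨j, by simpa using congrArg Subtype.val hj⟩
  have hgen : y ∈ Subgroup.zpowers (z0 : G) := by
    obtain ⟨i, hi, hzi⟩ := conj_mem_zpowers_pow hzy
    rw [F.y_ord] at hi
    have hi0 : i ≠ 0 := fun e => hz01 (Subtype.ext (Subtype.ext (by rw [e, pow_zero] at hzi; exact hzi)))
    obtain ⟨m, hm⟩ := exists_pow_eq_self_of_coprime (x := y) (n := i)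
      (by rw [F.y_ord]; exact ((Nat.Prime.coprime_iff_not_dvd (by decide)).2
        (fun hd => by have := Nat.le_of_dvd (by omega) hd; omega)).symm)
    rw [← hm, ← hzi]
    exact Subgroup.pow_mem _ (Subgroup.mem_zpowers _) m
  have hPM : (P : Subgroup G) ≤ M := fun p hp => by
    obtain ⟨j, hj⟩ := Subgroup.mem_zpowers_iff.1 hgen
    refine Subgroup.mem_centralizer_singleton_iff.2 ?_
    rw [← hj]
    exact ((show Commute p (z0 : G) from congrArg Subtype.val (hz0 ⟨p, hp⟩)).zpow_right j).eq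
  have := h25.trans (Subgroup.card_dvd_of_le hPM)
  rw [F.cent_y.1] at this
  norm_num at this

/-- The normaliser of `⟨y⟩` is `D₁₀ × S₃`. -/
theorem exists_norm : ∃ φ : DihedralGroup 5 × DihedralGroup 3 →* G,
    Function.Injective φ ∧ φ.range = Subgroup.normalizer (Subgroup.zpowers y : Set G) ∧
    ∀ k, φ (DihedralGroup.r k, 1) ∈ Subgroup.zpowers y := by
  obtain ⟨hc30, h3w⟩ := F.cent_y
  have hsC := F.D.S.K_le F.s_mem
  have hst : s * t = t * s := F.D.memC.1 hsC
  have hsw : s * w * s⁻¹ = w ∨ s * w * s⁻¹ = w⁻¹ := by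
    have hsi : s⁻¹ = s := inv_eq_of_mul_eq_one_right F.s_sq
    have hy' : s * w * s⁻¹ * y = y * (s * w * s⁻¹) := by
      have h := conj_comm (c := s) (show w * y⁻¹ = y⁻¹ * w from (show Commute w y from F.w_y).inv_right.eq)
      rwa [show s * y⁻¹ * s⁻¹ = (s * y * s⁻¹)⁻¹ by group, F.s_y, inv_inv] at h
    have h3 : (s * w * s⁻¹) ^ 3 = 1 := by rw [conj_pow, F.w3]; group
    obtain ⟨a, i, hai⟩ := F.cent_wy (h3w _ h3 hy') hy'
    have hyi : y ^ i = 1 := by
      have hc := (show Commute w y from F.w_y).pow_pow a i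
      have h' := h3
      rw [hai, hc.mul_pow, ← pow_mul, mul_comm a, pow_mul, F.w3, one_pow, one_mul] at h'
      exact eq_one_of_two_pows h' (by rw [← pow_mul, mul_comm, pow_mul, F.y5, one_pow]) (by norm_num)
    rw [hyi, mul_one, ← pow_mod_orderOf, F.w_ord] at hai
    have : a % 3 = 0 ∨ a % 3 = 1 ∨ a % 3 = 2 := by omega
    rcases this with e | e | e <;> rw [e] at hai
    · rw [pow_zero, conj_eq_one_iff] at hai
      exact absurd F.w_ord (by rw [hai, orderOf_one]; norm_num)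
    · left; rwa [pow_one] at hai
    · right; rw [hai]; exact eq_inv_of_mul_eq_one_left (by rw [← pow_succ]; exact F.w3)
  obtain ⟨b, hb2, hby, hbw, hbt⟩ : ∃ b : G, b * b = 1 ∧ b * y * b⁻¹ = y⁻¹ ∧ b * w = w * b ∧ b * t = t * b := by
    rcases hsw with h | h
    · exact ⟨s, F.s_sq, F.s_y, mul_inv_eq_iff_eq_mul.1 h, hst⟩
    · refine ⟨s * t, ?_, ?_, mul_inv_eq_iff_eq_mul.1 ?_, ?_⟩
      · rw [show s * t * (s * t) = s * (t * s) * t by group, ← hst,
          show s * (s * t) * t = s * s * (t * t) by group, F.s_sq, F.D.S.z_sq, one_mul]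
      · rw [show s * t * y * (s * t)⁻¹ = s * (t * y * t⁻¹) * s⁻¹ by group, ← F.yt, mul_inv_cancel_right, F.s_y]
      · rw [show s * t * w * (s * t)⁻¹ = s * (t * w * t⁻¹) * s⁻¹ by group, F.t_w,
          show s * w⁻¹ * s⁻¹ = (s * w * s⁻¹)⁻¹ by group, h, inv_inv]
      · rw [← mul_assoc t s t, ← hst]
  have hbout : b ∉ Subgroup.zpowers y := by
    intro h
    obtain ⟨i, -, rfl⟩ := conj_mem_zpowers_pow h
    have h5 : (y ^ i) ^ 5 = 1 := by rw [← pow_mul, mul_comm, pow_mul, F.y5, one_pow]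
    rw [eq_one_of_two_pows (m := 2) (by rw [pow_two]; exact hb2) h5 (by norm_num), one_mul, inv_one,
      mul_one] at hby
    have h2 : y ^ 2 = 1 := by rw [pow_two]; exact mul_eq_one_iff_eq_inv.2 hby
    exact absurd F.y_ord (by rw [eq_one_of_two_pows h2 F.y5 (by norm_num), orderOf_one]; norm_num)
  have htout : t ∉ Subgroup.zpowers w := by
    intro h
    obtain ⟨i, -, hi⟩ := conj_mem_zpowers_pow h
    exact F.D.S.z_ne (eq_one_of_two_pows (m := 2) (by rw [pow_two]; exact F.D.S.z_sq)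
      (by rw [hi, ← pow_mul, mul_comm, pow_mul, F.w3, one_pow]) (by norm_num : Nat.Coprime 2 3))
  obtain ⟨f5, hf5, hr5⟩ := CfsgLib.SmallTwo.exists_dihedral_hom_injective F.y_ord hb2 hby hbout
  obtain ⟨f3, hf3, hr3⟩ := CfsgLib.SmallTwo.exists_dihedral_hom_injective F.w_ord F.D.S.z_sq F.t_w htout
  have hcomm : ∀ p ∈ f5.range, ∀ q ∈ f3.range, p * q = q * p := by
    have h1 : f5.range ≤ Subgroup.centralizer ({w} : Set G) ⊓ Subgroup.centralizer ({t} : Set G) := by
      rw [hr5, Subgroup.closure_le]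
      rintro z (rfl | rfl)
      · exact ⟨Subgroup.mem_centralizer_singleton_iff.2 F.w_y.symm, Subgroup.mem_centralizer_singleton_iff.2 F.yt⟩
      · exact ⟨Subgroup.mem_centralizer_singleton_iff.2 hbw, Subgroup.mem_centralizer_singleton_iff.2 hbt⟩
    have h2 : f3.range ≤ Subgroup.centralizer (f5.range : Set G) := by
      rw [hr3, Subgroup.closure_le]
      rintro z (rfl | rfl) <;> refine Subgroup.mem_centralizer_iff.2 fun p hp => ?_
      · exact Subgroup.mem_centralizer_singleton_iff.1 (h1 hp).1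
      · exact Subgroup.mem_centralizer_singleton_iff.1 (h1 hp).2
    exact fun p hp q hq => Subgroup.mem_centralizer_iff.1 (h2 hq) p hp
  let φ := f5.noncommCoprod f3 fun a b => hcomm _ ⟨a, rfl⟩ _ ⟨b, rfl⟩
  have hφ : ∀ a b, φ (a, b) = f5 a * f3 b := fun a b => rfl
  have hinj : Function.Injective φ := by
    refine (injective_iff_map_eq_one φ).2 ?_
    rintro ⟨a, c⟩ h
    rw [hφ] at h
    have hc : c = 1 := dihedral3_center c fun d => hf3 (by
      rw [map_mul, map_mul, eq_inv_of_mul_eq_one_right h, ← map_inv f5]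
      exact hcomm _ ⟨_, rfl⟩ _ ⟨_, rfl⟩)
    rw [hc, map_one, mul_one, ← map_one f5] at h
    exact Prod.ext (hf5 h) hc
  obtain ⟨m, hm⟩ : y ∈ f5.range := by rw [hr5]; exact Subgroup.subset_closure (Set.mem_insert _ _)
  refine ⟨φ, hinj, ?_, fun k => ?_⟩
  · have hcard : Nat.card φ.range = 60 := by
      rw [← Nat.card_congr (MonoidHom.ofInjective hinj).toEquiv, Nat.card_prod, DihedralGroup.nat_card,
        DihedralGroup.nat_card]
    have hyi : y⁻¹ = y ^ 4 := (eq_inv_of_mul_eq_one_left (by rw [← pow_succ]; exact F.y5)).symm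
    have hN : ∀ g : G, (g * y * g⁻¹ = y ∨ g * y * g⁻¹ = y⁻¹) →
        g ∈ Subgroup.normalizer (Subgroup.zpowers y : Set G) := by
      intro g hg
      have heq : Subgroup.zpowers (g * y * g⁻¹) = Subgroup.zpowers y := by
        rcases hg with h | h <;> rw [h]
        exact Subgroup.zpowers_inv
      refine Subgroup.mem_normalizer_iff.2 fun z => ⟨fun hz => ?_, fun hz => ?_⟩
      · obtain ⟨j, rfl⟩ := Subgroup.mem_zpowers_iff.1 hz
        rw [← heq, ← conj_zpow]
        exact Subgroup.zpow_mem _ (Subgroup.mem_zpowers _) j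
      · rw [← heq] at hz
        obtain ⟨j, hj⟩ := Subgroup.mem_zpowers_iff.1 hz
        rw [conj_zpow] at hj
        rw [← mul_left_cancel (mul_right_cancel hj)]
        exact Subgroup.zpow_mem _ (Subgroup.mem_zpowers _) j
    refine Subgroup.eq_of_le_of_card_ge ?_ ?_
    · rintro _ ⟨⟨a, c⟩, rfl⟩
      rw [hφ]
      refine Subgroup.mul_mem _ ?_ ?_
      · have : f5.range ≤ Subgroup.normalizer (Subgroup.zpowers y : Set G) := by
          rw [hr5, Subgroup.closure_le]
          rintro z (rfl | rfl)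
          · exact hN z (Or.inl (mul_inv_cancel_right _ _))
          · exact hN z (Or.inr hby)
        exact this ⟨a, rfl⟩
      · have : f3.range ≤ Subgroup.normalizer (Subgroup.zpowers y : Set G) := by
          rw [hr3, Subgroup.closure_le]
          rintro z (rfl | rfl)
          · exact hN z (Or.inl (by rw [F.w_y, mul_inv_cancel_right]))
          · exact hN z (Or.inl (by rw [← F.yt, mul_inv_cancel_right]))
        exact this ⟨c, rfl⟩
    · rw [hcard]
      have := Fintype.ofFinite G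
      set Ms := Finset.univ.filter fun g : G => g * y = y * g with hMs
      have hMc : Ms.card = 30 := by
        rw [← hc30, Nat.card_eq_fintype_card, Fintype.card_subtype]
        simp only [hMs, Subgroup.mem_centralizer_singleton_iff]
      refine (card_le_of_subset (s := Ms ∪ Ms.image fun g => b * g) fun g hg => ?_).trans
        ((Finset.card_union_le _ _).trans ((Nat.add_le_add_left Finset.card_image_le _).trans (by omega)))
      obtain ⟨i, hi, hgi⟩ := conj_mem_zpowers_pow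
        ((Subgroup.mem_normalizer_iff.1 hg y).1 (Subgroup.mem_zpowers y))
      rw [F.y_ord] at hi
      interval_cases i
      · rw [pow_zero, conj_eq_one_iff] at hgi
        exact absurd F.y_ord (by rw [hgi, orderOf_one]; norm_num)
      · rw [pow_one] at hgi
        exact Finset.mem_union_left _ (Finset.mem_filter.2 ⟨Finset.mem_univ _, mul_inv_eq_iff_eq_mul.1 hgi⟩)
      · exact absurd hgi (F.not_conj_sq g).1
      · exact absurd hgi (F.not_conj_sq g).2
      · refine Finset.mem_union_right _ (Finset.mem_image.2 ⟨b⁻¹ * g, Finset.mem_filter.2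
          ⟨Finset.mem_univ _, mul_inv_eq_iff_eq_mul.1 ?_⟩, mul_inv_cancel_left b g⟩)
        rw [show b⁻¹ * g * y * (b⁻¹ * g)⁻¹ = b⁻¹ * (g * y * g⁻¹) * b by group, hgi, ← hyi, ← hby]
        group
  · obtain ⟨n, hn⟩ := dihedral5_rot m (hf5 (by rw [map_pow, hm, F.y5, map_one]))
      (fun e => by
        have := F.y_ord
        rw [← hm, e, map_one, orderOf_one] at this
        omega) k
    rw [hφ, map_one, mul_one, ← hn, map_pow, hm]
    exact Subgroup.pow_mem _ (Subgroup.mem_zpowers _) _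

end Five

end CfsgLib.J3Type
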