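import Cfsg.Agent.Lib.Char.TI
import Cfsg.Agent.Lib.Char.Central
import Cfsg.Agent.Lib.Char.Counting

/-!
The generalised character of `D₁₀ × S₃` used for the order of a group of Janko type.
-/

set_option autoImplicit false

open scoped Classical ComplexConjugate

namespace CfsgLib.J3Type

open Cfsg CfsgLib.Char

local notation "D₅" => DihedralGroup 5
local notation "M₆₀" => DihedralGroup 5 × DihedralGroup 3

/-- A primitive fifth root of unity. -/
noncomputable def ζ5 : ℂ := Complex.exp (2 * Real.pi * Complex.I / 5)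

theorem ζ5_prim : IsPrimitiveRoot ζ5 5 := Complex.isPrimitiveRoot_exp 5 (by norm_num)

theorem ζ5_pow : ζ5 ^ 5 = 1 := ζ5_prim.pow_eq_one

theorem ζ5_sum : 1 + ζ5 + ζ5 ^ 2 + ζ5 ^ 3 + ζ5 ^ 4 = 0 := by
  have := ζ5_prim.geom_sum_eq_zero (by norm_num)
  simpa [Finset.sum_range_succ] using this

theorem ζ5_conj : conj ζ5 = ζ5 ^ 4 := by
  rw [← Complex.inv_eq_conj (Complex.norm_eq_one_of_pow_eq_one ζ5_pow (by norm_num))]
  exact (eq_inv_of_mul_eq_one_left (by rw [← pow_succ]; exact ζ5_pow)).symm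

/-- The subgroup of rotations. -/
def rot5 : Subgroup D₅ where
  carrier := Set.range DihedralGroup.r
  one_mem' := ⟨0, rfl⟩
  mul_mem' := by rintro _ _ ⟨i, rfl⟩ ⟨j, rfl⟩; exact ⟨i + j, rfl⟩
  inv_mem' := by rintro _ ⟨i, rfl⟩; exact ⟨-i, rfl⟩

theorem r_mem_rot5 (i : ZMod 5) : DihedralGroup.r i ∈ rot5 := ⟨i, rfl⟩

theorem sr_notMem_rot5 (i : ZMod 5) : DihedralGroup.sr i ∉ rot5 := by rintro ⟨j, h⟩; cases h

instance rot5_normal : rot5.Normal := by
  refine ⟨?_⟩
  rintro _ ⟨i, rfl⟩ (j | j) <;> exact ⟨_, rfl⟩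

/-- The faithful linear function on rotations. -/
noncomputable def lin5 : D₅ → ℂ
  | .r i => ζ5 ^ i.val
  | .sr _ => 0

theorem lin5_mul (i j : ZMod 5) :
    lin5 (DihedralGroup.r (i + j)) = lin5 (DihedralGroup.r i) * lin5 (DihedralGroup.r j) := by
  simp only [lin5]
  rw [← pow_add, ZMod.val_add]
  exact (pow_eq_pow_mod _ ζ5_pow).symm

/-- A faithful linear character of the rotation subgroup. -/
noncomputable def lam5 : rot5 →* ℂˣ :=
  MonoidHom.toHomUnits
    { toFun := fun h => lin5 (h : D₅)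
      map_one' := show ζ5 ^ (0 : ZMod 5).val = 1 by simp
      map_mul' := by
        rintro ⟨_, i, rfl⟩ ⟨_, j, rfl⟩
        exact lin5_mul i j }

theorem lam5_apply (h : rot5) : ((lam5 h : ℂˣ) : ℂ) = lin5 (h : D₅) := rfl

/-- `(1 - λ)` induced to the dihedral group. -/
noncomputable def aFive : D₅ → ℂ :=
  indFun rot5 (fun h => (1 : ℂ) - ((lam5 h : ℂˣ) : ℂ))

theorem aFive_gen : IsGeneralizedCharacter D₅ aFive :=
  isGeneralized_indFun rot5
    (isGeneralized_sub isGeneralized_one (isGeneralized_of_isIrr (isIrrCharacter_monoidHom lam5)))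

theorem aFive_r (i : ZMod 5) :
    aFive (DihedralGroup.r i) = 2 - ζ5 ^ i.val - ζ5 ^ (-i).val := by
  have hc : Nat.card rot5 = 5 := by
    rw [show Nat.card rot5 = Nat.card (Set.range (DihedralGroup.r : ZMod 5 → D₅)) from rfl,
      Nat.card_range_of_injective (fun a b h => by injection h), Nat.card_zmod]
  rw [aFive, show DihedralGroup.r i = ((⟨_, r_mem_rot5 i⟩ : rot5) : D₅) from rfl, indFun_apply_of_normal,
    hc, ← Equiv.sum_comp DihedralGroup.equivSum.symm, Fintype.sum_sum_type]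
  simp only [DihedralGroup.equivSum_symm_apply, DihedralGroup.inv_r, DihedralGroup.inv_sr,
    DihedralGroup.r_mul_r, DihedralGroup.sr_mul_r, DihedralGroup.sr_mul_sr, lam5_apply, lin5,
    add_neg_cancel_comm, sub_add_cancel_left, Finset.sum_const, Finset.card_univ, ZMod.card, nsmul_eq_mul]
  push_cast
  ring

theorem aFive_sr (i : ZMod 5) : aFive (DihedralGroup.sr i) = 0 :=
  indFun_notMem_of_normal rot5 _ (sr_notMem_rot5 i)

theorem aFive_one : aFive 1 = 0 := by
  rw [DihedralGroup.one_def, aFive_r]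
  norm_num

theorem aFive_support {m : D₅} (h : aFive m ≠ 0) : ∃ k : ZMod 5, k ≠ 0 ∧ m = DihedralGroup.r k := by
  rcases m with k | k
  · refine ⟨k, fun e => h ?_, rfl⟩
    rw [e, ← DihedralGroup.one_def]; exact aFive_one
  · exact absurd (aFive_sr k) h

theorem sum_D5 (f : D₅ → ℂ) : ∑ m, f m = (f (.r 0) + f (.r 1) + f (.r 2) + f (.r 3) + f (.r 4)) +
    (f (.sr 0) + f (.sr 1) + f (.sr 2) + f (.sr 3) + f (.sr 4)) := by
  rw [← Equiv.sum_comp DihedralGroup.equivSum.symm, Fintype.sum_sum_type]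
  exact congrArg₂ (· + ·) (Fin.sum_univ_five fun i => f (.r i)) (Fin.sum_univ_five fun i => f (.sr i))

theorem aFive_vals : aFive (.r 0) = 0 ∧ aFive (.r 1) = 2 - ζ5 - ζ5 ^ 4 ∧
    aFive (.r 2) = 2 - ζ5 ^ 2 - ζ5 ^ 3 ∧ aFive (.r 3) = 2 - ζ5 ^ 2 - ζ5 ^ 3 ∧
    aFive (.r 4) = 2 - ζ5 - ζ5 ^ 4 := by
  simp only [aFive_r, show (0 : ZMod 5).val = 0 from rfl, show (-0 : ZMod 5).val = 0 from rfl,
    show (1 : ZMod 5).val = 1 from rfl, show (-1 : ZMod 5).val = 4 from rfl,
    show (2 : ZMod 5).val = 2 from rfl, show (-2 : ZMod 5).val = 3 from rfl,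
    show (3 : ZMod 5).val = 3 from rfl, show (-3 : ZMod 5).val = 2 from rfl,
    show (4 : ZMod 5).val = 4 from rfl, show (-4 : ZMod 5).val = 1 from rfl, pow_zero, pow_one]
  refine ⟨by norm_num, trivial, trivial, by ring, by ring⟩

theorem sum_aFive : ∑ m, aFive m = 10 := by
  obtain ⟨h0, h1, h2, h3, h4⟩ := aFive_vals
  rw [sum_D5, h0, h1, h2, h3, h4]
  simp only [aFive_sr, add_zero]
  linear_combination -2 * ζ5_sum

theorem sum_aFive_sq : ∑ m, aFive m * conj (aFive m) = 30 := by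
  obtain ⟨h0, h1, h2, h3, h4⟩ := aFive_vals
  rw [sum_D5, h0, h1, h2, h3, h4]
  simp only [aFive_sr, map_sub, map_pow, map_ofNat, ζ5_conj, map_zero, mul_zero, add_zero, zero_add]
  have p : ∀ k, ζ5 ^ (5 + k) = ζ5 ^ k := fun k => by rw [pow_add, ζ5_pow, one_mul]
  simp only [← pow_mul, show (4 * 4 : ℕ) = 5 + (5 + (5 + 1)) from rfl, show (4 * 2 : ℕ) = 5 + 3 from rfl,
    show (4 * 3 : ℕ) = 5 + (5 + 2) from rfl, p, pow_one]
  linear_combination (-6 : ℂ) * ζ5_sum + (2 * ζ5 ^ 3 + 4 + 2 * ζ5 + 4) * ζ5_pow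

/-- The function on `D₁₀ × S₃`. -/
noncomputable def aSixty : M₆₀ → ℂ := fun m => aFive m.1

theorem aSixty_gen : IsGeneralizedCharacter M₆₀ aSixty :=
  isGeneralized_comp (MonoidHom.fst D₅ (DihedralGroup 3)) aFive_gen

theorem sum_sixty (f : D₅ → ℂ) : ∑ m : M₆₀, f m.1 = 6 * ∑ m, f m := by
  rw [Fintype.sum_prod_type]
  simp only [Finset.sum_const, Finset.card_univ, DihedralGroup.card, nsmul_eq_mul, ← Finset.mul_sum]
  norm_num

theorem aSixty_norm : classInner aSixty aSixty = 3 := by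
  rw [classInner, show ∑ g : M₆₀, aSixty g * conj (aSixty g) = 6 * ∑ m, aFive m * conj (aFive m) from
    sum_sixty (fun m => aFive m * conj (aFive m)), sum_aFive_sq, Nat.card_prod,
    DihedralGroup.nat_card, DihedralGroup.nat_card]
  norm_num

theorem aSixty_triv : classInner aSixty (fun _ => 1) = 1 := by
  rw [classInner]
  simp only [map_one, mul_one]
  rw [show ∑ m : M₆₀, aSixty m = 6 * ∑ m, aFive m from sum_sixty _, sum_aFive, Nat.card_prod,
    DihedralGroup.nat_card, DihedralGroup.nat_card]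
  norm_num

/-- The involutions. -/
def invols60 : Finset M₆₀ := Finset.univ.filter fun m => m * m = 1 ∧ m ≠ 1

theorem pair_count : ∀ k : ZMod 5, k ≠ 0 →
    ((invols60 ×ˢ invols60).filter fun p => (p.1 * p.2).1 = DihedralGroup.r k).card = 80 := by
  decide +kernel

theorem sum_pairs : ∑ p ∈ invols60 ×ˢ invols60, aSixty (p.1 * p.2) = 800 := by
  rw [← Finset.sum_fiberwise (invols60 ×ˢ invols60) (fun p => (p.1 * p.2).1)]
  have h : ∀ m : D₅, ∑ p ∈ (invols60 ×ˢ invols60).filter (fun p => (p.1 * p.2).1 = m), aSixty (p.1 * p.2) =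
      80 * aFive m := by
    intro m
    rw [Finset.sum_congr rfl (g := fun _ => aFive m) fun p hp =>
      (congrArg aFive (Finset.mem_filter.1 hp).2 : aSixty (p.1 * p.2) = aFive m),
      Finset.sum_const, nsmul_eq_mul]
    by_cases h0 : aFive m = 0
    · rw [h0, mul_zero, mul_zero]
    · obtain ⟨k, hk, rfl⟩ := aFive_support h0
      rw [pair_count k hk]
      norm_num
  rw [Finset.sum_congr rfl fun m _ => h m, ← Finset.mul_sum, sum_aFive]
  norm_num

theorem aSixty_invol {m : M₆₀} (h : m * m = 1) : aSixty m = 0 := by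
  by_contra hne
  obtain ⟨k, hk, e⟩ := aFive_support hne
  have h1 := congrArg Prod.fst h
  rw [Prod.fst_mul, e, DihedralGroup.r_mul_r, Prod.fst_one, DihedralGroup.one_def] at h1
  injection h1 with h1
  exact (by decide : ∀ k : ZMod 5, k ≠ 0 → k + k = 0 → False) k hk h1

theorem six_pow {m : M₆₀} (h : aSixty m ≠ 0) : ∃ k : ZMod 5, k ≠ 0 ∧ m ^ 6 = (DihedralGroup.r k, 1) := by
  obtain ⟨k, hk, e⟩ := aFive_support h
  refine ⟨k, hk, Prod.ext ?_ ?_⟩
  · rw [Prod.pow_fst, e, DihedralGroup.r_pow]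
    exact congrArg _ ((by decide : ∀ k : ZMod 5, k * ((6 : ℕ) : ZMod 5) = k) k)
  · rw [Prod.pow_snd]
    exact (by decide : ∀ d : DihedralGroup 3, d ^ 6 = 1) m.2

end CfsgLib.J3Type
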