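import Cfsg.Agent.Lib.J3Type.Core
import Mathlib.GroupTheory.Transfer

/-!
One class of involutions with centraliser `2^(1+4).A₅`: the Sylow 2-subgroup and the elementary
abelian subgroups of order 16.
-/

set_option autoImplicit false

open scoped Classical

namespace CfsgLib.J3Type

open CfsgLib.J2Order

variable {G : Type*} [Group G] [Finite G] {t : G} {E K C : Subgroup G}

/-- The hypothesis: one class of involutions, centraliser a split `2^(1+4).A₅`. -/
structure Data (t : G) (E K C : Subgroup G) : Prop extends J2Type.Core t E K C where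
  one : ∀ x : G, orderOf x = 2 → IsConj x t

omit [Finite G] in
theorem conj_sq_one {a c : G} (ha : a * a = 1) : c * a * c⁻¹ * (c * a * c⁻¹) = 1 := by
  rw [show c * a * c⁻¹ * (c * a * c⁻¹) = c * (a * a) * c⁻¹ by group, ha]; group

omit [Finite G] in
theorem conj_comm {a b c : G} (h : a * b = b * a) :
    c * a * c⁻¹ * (c * b * c⁻¹) = c * b * c⁻¹ * (c * a * c⁻¹) := by
  rw [show c * a * c⁻¹ * (c * b * c⁻¹) = c * (a * b) * c⁻¹ by group, h]; group

/-- A subgroup of a finite group with nothing outside a given finite set is small. -/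
theorem card_le_of_subset {H : Subgroup G} {s : Finset G} (h : ∀ a ∈ H, a ∈ s) : Nat.card H ≤ s.card := by
  rw [show Nat.card H = (H : Set G).ncard from Nat.card_coe_set_eq (H : Set G), ← Set.ncard_coe_finset]
  exact Set.ncard_le_ncard (fun a ha => h a ha) (Finset.finite_toSet _)

namespace Data

variable (D : Data t E K C)
include D

theorem core : J2Type.Core t E K C := D.toCore

theorem S : Setup t E K C := D.setup

theorem memC {g : G} : g ∈ C ↔ g * t = t * g := D.mem_C g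

theorem t_memC : t ∈ C := D.S.Q_le D.S.z_mem

theorem exists_to_t {x : G} (hx2 : x * x = 1) (hx1 : x ≠ 1) : ∃ g : G, g * x * g⁻¹ = t := by
  have := Fintype.ofFinite G
  exact isConj_iff.1 (D.one x (orderTwo_of hx1 hx2))

theorem C_eq : C = Subgroup.centralizer ({t} : Set G) := by
  ext g; rw [D.memC, Subgroup.mem_centralizer_singleton_iff]

/-- The centraliser of `E` in `C` is its centre. -/
theorem cent_E {c : G} (hc : c ∈ C) (h : ∀ q ∈ E, c * q = q * c) : c = 1 ∨ c = t := by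
  obtain ⟨q, hq, k, hk, rfl⟩ := D.S.decomp c hc
  have hkC := D.S.K_le hk
  have hρ : D.S.ρK ⟨k, hk⟩ = 1 := by
    have h1 : D.S.ρ ⟨q * k, hc⟩ = D.S.ρK ⟨k, hk⟩ := by
      rw [show (⟨q * k, hc⟩ : C) = ⟨q, D.S.Q_le hq⟩ * ⟨k, hkC⟩ from rfl, map_mul,
        D.S.ρ_Q (q := ⟨q, D.S.Q_le hq⟩) hq, one_mul]
      rfl
    rw [← h1]
    refine Equiv.ext fun ⟨p, hp⟩ => Subtype.ext ?_
    obtain ⟨x, hx, rfl⟩ := Finset.mem_image.1 hp
    rw [D.S.ρ_pr _ hx]
    show D.S.pr (q * k * x * (q * k)⁻¹) = D.S.pr x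
    rw [h x (D.S.mem_X.1 hx).1, mul_inv_cancel_right]
  have hk1 : k = 1 := congrArg Subtype.val (D.S.ρK_injective (hρ.trans (map_one _).symm))
  subst hk1
  rw [mul_one] at h ⊢
  exact D.S.cen q hq h

/-- A 2-subgroup of `C` containing `E` has trivial centre beyond `t`. -/
theorem two_part : 128 ∣ Nat.card G ∧ ¬ 256 ∣ Nat.card G := by
  haveI : Fact (Nat.Prime 2) := ⟨Nat.prime_two⟩
  haveI := Fintype.ofFinite G
  have hC := D.core.card_C
  have hEp : IsPGroup 2 E := IsPGroup.of_card (n := 5) (by rw [D.S.cardQ]; norm_num)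
  have h128 : 128 ∣ Nat.card G := dvd_trans (by rw [hC]; norm_num) (Subgroup.card_subgroup_dvd_card C)
  refine ⟨h128, fun h256 => ?_⟩
  obtain ⟨P, hP⟩ := hEp.exists_le_sylow
  -- a central element of the Sylow subgroup
  have hnt : Nontrivial P := by
    rw [← Finite.one_lt_card_iff_nontrivial]
    have := Subgroup.card_le_of_le hP
    rw [D.S.cardQ] at this
    exact lt_of_lt_of_le (by norm_num) this
  haveI := P.2.center_nontrivial
  obtain ⟨⟨z0, hz0⟩, hz01⟩ := exists_ne (1 : Subgroup.center P)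
  rw [Subgroup.mem_center_iff] at hz0
  have hcm : ∀ q ∈ E, (z0 : G) * q = q * z0 := fun q hq =>
    (congrArg Subtype.val (hz0 ⟨q, hP hq⟩)).symm
  have hz0t : (z0 : G) = t := by
    rcases D.cent_E (D.memC.2 (hcm t D.S.z_mem)) hcm with h | h
    · exact absurd (Subtype.ext (Subtype.ext h)) hz01
    · exact h
  have hPC : (P : Subgroup G) ≤ C := fun p hp => by
    rw [D.memC, ← hz0t]
    exact congrArg Subtype.val (hz0 ⟨p, hp⟩)
  have hd := Subgroup.card_dvd_of_le hPC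
  rw [hC] at hd
  have h256' : 256 ∣ Nat.card P := P.pow_dvd_card_of_pow_dvd_card (n := 8) h256
  exact absurd (h256'.trans hd) (by norm_num)

end Data

/-- A chosen involution of the complement. -/
structure Klein (t k : G) (E K C : Subgroup G) : Prop where
  data : Data t E K C
  k_mem : k ∈ K
  k_sq : k * k = 1
  k_ne : k ≠ 1

/-- The elementary abelian subgroup of order 16. -/
def AK (C : Subgroup G) (k : G) : Subgroup G := C ⊓ Subgroup.centralizer ({k} : Set G)

omit [Finite G] in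
theorem mem_AK {a k : G} : a ∈ AK C k ↔ a ∈ C ∧ a * k = k * a := by
  simp [AK, Subgroup.mem_centralizer_singleton_iff]

theorem Data.exists_klein (D : Data t E K C) : ∃ k, Klein t k E K C := by
  obtain ⟨k, hk, hk2, hk1⟩ := D.core.exists_invol
  exact ⟨k, D, hk, hk2, hk1⟩

namespace Klein

variable {k : G} (P : Klein t k E K C)
include P

theorem core : J2Type.Core t E K C := P.data.core

theorem S : Setup t E K C := P.data.setup

theorem kC : k ∈ C := P.S.K_le P.k_mem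

theorem kE : k ∉ E := P.core.notQ_of_K P.k_mem P.k_ne

theorem card_W : Nat.card (E ⊓ Subgroup.centralizer ({k} : Set G) : Subgroup G) = 4 :=
  (P.core.cq P.k_mem P.k_sq P.k_ne).1

theorem cent_K {l : G} (hl : l ∈ K) (hlk : l * k = k * l) :
    l * l = 1 ∧ ∀ m ∈ K, m * k = k * m → l * m = m * l := by
  obtain ⟨e⟩ := P.S.equivK
  have h2 : e ⟨k, P.k_mem⟩ * e ⟨k, P.k_mem⟩ = 1 := by
    rw [← map_mul, show (⟨k, P.k_mem⟩ : K) * ⟨k, P.k_mem⟩ = 1 from Subtype.ext P.k_sq, map_one]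
  have h1 : e ⟨k, P.k_mem⟩ ≠ 1 := fun h => P.k_ne
    (congrArg Subtype.val (e.injective (h.trans (map_one e).symm)))
  have key : ∀ l : G, ∀ hl : l ∈ K, l * k = k * l →
      e ⟨l, hl⟩ * e ⟨k, P.k_mem⟩ = e ⟨k, P.k_mem⟩ * e ⟨l, hl⟩ := by
    intro l hl h
    rw [← map_mul, ← map_mul]
    exact congrArg e (Subtype.ext h)
  refine ⟨?_, fun m hm hmk => ?_⟩
  · have := (J2Type.alt5_invol_cent _ h2 h1).2 _ (key l hl hlk)
    rw [← map_mul, ← map_one e] at this
    exact congrArg Subtype.val (e.injective this)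
  · have := J2Type.alt5_invol_cent_comm _ h2 h1 _ (key l hl hlk) _ (key m hm hmk)
    rw [← map_mul, ← map_mul] at this
    exact congrArg Subtype.val (e.injective this)

theorem card_cent_K : Nat.card (K ⊓ Subgroup.centralizer ({k} : Set G) : Subgroup G) = 4 := by
  obtain ⟨e⟩ := P.S.equivK
  have h2 : e ⟨k, P.k_mem⟩ * e ⟨k, P.k_mem⟩ = 1 := by
    rw [← map_mul, show (⟨k, P.k_mem⟩ : K) * ⟨k, P.k_mem⟩ = 1 from Subtype.ext P.k_sq, map_one]
  have h1 : e ⟨k, P.k_mem⟩ ≠ 1 := fun h => P.k_ne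
    (congrArg Subtype.val (e.injective (h.trans (map_one e).symm)))
  set T := e ⟨k, P.k_mem⟩
  rw [← (J2Type.alt5_invol_cent T h2 h1).1, ← Fintype.card_coe, ← Nat.card_eq_fintype_card]
  refine Nat.card_congr
    ⟨fun l => ⟨e ⟨l.1, l.2.1⟩, Finset.mem_filter.2 ⟨Finset.mem_univ _, ?_⟩⟩,
     fun c => ⟨((e.symm c.1 : K) : G), SetLike.coe_mem _, ?_⟩, fun l => ?_, fun c => ?_⟩
  · rw [← map_mul, ← map_mul]
    exact congrArg e (Subtype.ext (Subgroup.mem_centralizer_singleton_iff.1 l.2.2))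
  · have hc := (Finset.mem_filter.1 c.2).2
    refine Subgroup.mem_centralizer_singleton_iff.2 ?_
    have : e.symm c.1 * ⟨k, P.k_mem⟩ = ⟨k, P.k_mem⟩ * e.symm c.1 := e.injective (by simp [hc, T])
    exact congrArg Subtype.val this
  · simp
  · simp

theorem decomp {a : G} (ha : a ∈ AK C k) :
    ∃ q l : G, q ∈ E ∧ q * k = k * q ∧ l ∈ K ∧ l * k = k * l ∧ a = q * l := by
  obtain ⟨hC, hk⟩ := mem_AK.1 ha
  obtain ⟨q, hq, l, hl, rfl⟩ := P.S.decomp a hC
  obtain ⟨h1, h2⟩ := P.core.commute_decomp hq hl P.k_mem hk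
  exact ⟨q, l, hq, h2, hl, h1, rfl⟩

theorem card_AK : Nat.card (AK C k) = 16 := by
  let W := E ⊓ Subgroup.centralizer ({k} : Set G)
  let L := K ⊓ Subgroup.centralizer ({k} : Set G)
  let f : W × L → AK C k := fun p =>
    ⟨(p.1 : G) * p.2, Subgroup.mul_mem _ ⟨P.S.Q_le p.1.2.1, p.1.2.2⟩ ⟨P.S.K_le p.2.2.1, p.2.2.2⟩⟩
  have hf : Function.Bijective f := by
    refine ⟨fun p r h => ?_, fun a => ?_⟩
    · obtain ⟨h1, h2⟩ := P.core.decomp_unique p.1.2.1 r.1.2.1 p.2.2.1 r.2.2.1 (congrArg Subtype.val h)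
      exact Prod.ext (Subtype.ext h1) (Subtype.ext h2)
    · obtain ⟨q, l, hq, hqk, hl, hlk, h⟩ := P.decomp a.2
      exact ⟨(⟨q, hq, Subgroup.mem_centralizer_singleton_iff.2 hqk⟩,
        ⟨l, hl, Subgroup.mem_centralizer_singleton_iff.2 hlk⟩), Subtype.ext h.symm⟩
  rw [← Nat.card_eq_of_bijective f hf, Nat.card_prod, P.card_W, P.card_cent_K]

theorem W_K_comm {q l : G} (hq : q ∈ E) (hqk : q * k = k * q) (hl : l ∈ K) (hlk : l * k = k * l) :
    q * l = l * q := by
  by_cases h1 : l = 1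
  · simp [h1]
  exact P.core.cq_eq P.k_mem P.k_sq P.k_ne hl (P.cent_K hl hlk).1 h1 hlk.symm q hq hqk

theorem AK_sq {a : G} (ha : a ∈ AK C k) : a * a = 1 := by
  obtain ⟨q, l, hq, hqk, hl, hlk, rfl⟩ := P.decomp ha
  rw [show q * l * (q * l) = q * (l * q) * l by group, ← P.W_K_comm hq hqk hl hlk,
    show q * (q * l) * l = (q * q) * (l * l) by group,
    (P.core.cq P.k_mem P.k_sq P.k_ne).2.1 q hq hqk, (P.cent_K hl hlk).1, one_mul]

theorem AK_comm {a b : G} (ha : a ∈ AK C k) (hb : b ∈ AK C k) : a * b = b * a := by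
  have h := P.AK_sq ((AK C k).mul_mem ha hb)
  calc a * b = (a * b)⁻¹ := (inv_eq_of_mul_eq_one_right h).symm
    _ = b * a := by
      rw [mul_inv_rev, inv_eq_of_mul_eq_one_right (P.AK_sq ha), inv_eq_of_mul_eq_one_right (P.AK_sq hb)]

theorem t_mem : t ∈ AK C k := mem_AK.2 ⟨P.data.t_memC, (P.data.memC.1 P.kC).symm⟩

theorem k_memA : k ∈ AK C k := mem_AK.2 ⟨P.kC, rfl⟩

/-- Elementary abelian subgroups of order 16 of `C` are conjugate. -/
theorem conj_AK {F : Subgroup G} (hF : F ≤ C) (h16 : Nat.card F = 16) (h2 : ∀ a ∈ F, a * a = 1) :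
    ∃ c ∈ C, ∀ a : G, a ∈ F ↔ c * a * c⁻¹ ∈ AK C k := by
  have hcomm : ∀ a ∈ F, ∀ b ∈ F, a * b = b * a := fun a ha b hb => by
    calc a * b = (a * b)⁻¹ := (inv_eq_of_mul_eq_one_right (h2 _ (F.mul_mem ha hb))).symm
      _ = b * a := by
        rw [mul_inv_rev, inv_eq_of_mul_eq_one_right (h2 a ha), inv_eq_of_mul_eq_one_right (h2 b hb)]
  obtain ⟨y, hy, hyE⟩ : ∃ y ∈ F, y ∉ E := by
    by_contra hcon
    push Not at hcon
    by_cases hX : ∃ u ∈ F, u ≠ 1 ∧ u ≠ t
    · obtain ⟨u, hu, hu1, hut⟩ := hX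
      have huX : u ∈ P.S.X := P.S.mem_X.2 ⟨hcon u hu, h2 u hu, hu1, hut⟩
      have := card_le_of_subset (H := F) (s := {1, t, u, u * t}) fun v hv => by
        simpa using commuting_invols P.S.toBase P.S.card_X huX (hcon v hv) (h2 v hv) (hcomm u hu v hv)
      have h4 : ({1, t, u, u * t} : Finset G).card ≤ 4 :=
        (Finset.card_insert_le _ _).trans (Nat.succ_le_succ ((Finset.card_insert_le _ _).trans
          (Nat.succ_le_succ ((Finset.card_insert_le _ _).trans (Nat.succ_le_succ (Finset.card_singleton _).le)))))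
      omega
    · push Not at hX
      have := card_le_of_subset (H := F) (s := {1, t}) fun v hv => by
        simpa using Classical.or_iff_not_imp_left.2 (hX v hv)
      have h4 : ({1, t} : Finset G).card ≤ 2 :=
        (Finset.card_insert_le _ _).trans (Nat.succ_le_succ (Finset.card_singleton _).le)
      omega
  obtain ⟨c, hc, hck⟩ := P.core.conj_out (hF hy) (h2 y hy) hyE P.k_mem P.k_sq P.k_ne
  refine ⟨c, hc, ?_⟩
  have hle : F.map (MulAut.conj c).toMonoidHom ≤ AK C k := by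
    rintro _ ⟨a, ha, rfl⟩
    refine mem_AK.2 ⟨C.mul_mem (C.mul_mem hc (hF ha)) (C.inv_mem hc), ?_⟩
    show c * a * c⁻¹ * k = k * (c * a * c⁻¹)
    rw [← hck]
    exact conj_comm (hcomm a ha y hy)
  have heq : F.map (MulAut.conj c).toMonoidHom = AK C k := Subgroup.eq_of_le_of_card_ge hle (by
    rw [P.card_AK, Subgroup.card_map_of_injective (MulAut.conj c).injective, h16])
  intro a
  rw [← heq]
  exact ⟨fun ha => ⟨a, ha, rfl⟩, fun ⟨b, hb, hba⟩ => (MulAut.conj c).injective hba ▸ hb⟩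

theorem mem_N {n : G} (h : ∀ a ∈ AK C k, n * a * n⁻¹ ∈ AK C k) :
    n ∈ Subgroup.normalizer (AK C k : Set G) := by
  have heq : (AK C k).map (MulAut.conj n).toMonoidHom = AK C k :=
    Subgroup.eq_of_le_of_card_ge (by rintro _ ⟨a, ha, rfl⟩; exact h a ha)
      (by rw [Subgroup.card_map_of_injective (MulAut.conj n).injective])
  refine Subgroup.mem_normalizer_iff.2 fun a => ⟨h a, fun ha => ?_⟩
  rw [← heq] at ha
  obtain ⟨b, hb, hba⟩ := ha
  exact (MulAut.conj n).injective hba ▸ hb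

theorem conj_N {n a : G} (hn : n ∈ Subgroup.normalizer (AK C k : Set G)) (ha : a ∈ AK C k) :
    n * a * n⁻¹ ∈ AK C k :=
  (Subgroup.mem_normalizer_iff.1 hn a).1 ha

/-- The normaliser is transitive on the involutions of the elementary abelian subgroup. -/
theorem trans_AK {a : G} (ha : a ∈ AK C k) (ha1 : a ≠ 1) :
    ∃ n ∈ Subgroup.normalizer (AK C k : Set G), n * a * n⁻¹ = t := by
  obtain ⟨g, hg⟩ := P.data.exists_to_t (P.AK_sq ha) ha1
  have hle : (AK C k).map (MulAut.conj g).toMonoidHom ≤ C := by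
    rintro _ ⟨b, hb, rfl⟩
    refine P.data.memC.2 ?_
    show g * b * g⁻¹ * t = t * (g * b * g⁻¹)
    rw [← hg]
    exact conj_comm (P.AK_comm hb ha)
  obtain ⟨c, hc, hiff⟩ := P.conj_AK hle
    (by rw [Subgroup.card_map_of_injective (MulAut.conj g).injective, P.card_AK])
    (by rintro _ ⟨b, hb, rfl⟩; exact conj_sq_one (P.AK_sq hb))
  refine ⟨c * g, P.mem_N fun b hb => ?_, ?_⟩
  · have := (hiff (g * b * g⁻¹)).1 ⟨b, hb, rfl⟩
    rwa [show c * g * b * (c * g)⁻¹ = c * (g * b * g⁻¹) * c⁻¹ by group]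
  · rw [show c * g * a * (c * g)⁻¹ = c * (g * a * g⁻¹) * c⁻¹ by group, hg, P.data.memC.1 hc,
      mul_inv_cancel_right]

theorem cent_AK {c : G} (h : ∀ a ∈ AK C k, c * a = a * c) : c ∈ AK C k :=
  mem_AK.2 ⟨P.data.memC.2 (h t P.t_mem), h k P.k_memA⟩

/-- The stabiliser of `t` in the normaliser has order 192. -/
theorem card_NC : Nat.card (Subgroup.normalizer (AK C k : Set G) ⊓ C : Subgroup G) = 192 := by
  have := Fintype.ofFinite G
  set A := AK C k with hA
  set O : Finset G := Finset.univ.filter fun a => a ∈ A ∧ a ∉ E with hO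
  have hO12 : O.card = 12 := by
    have h1 : (Finset.univ.filter fun a => a ∈ A).card = 16 := by
      rw [← P.card_AK, Nat.card_eq_fintype_card, Fintype.card_subtype]
    have h2 : (Finset.univ.filter fun a => a ∈ A ∧ a ∈ E).card = 4 := by
      rw [← P.card_W, Nat.card_eq_fintype_card, Fintype.card_subtype]
      congr 1
      ext a
      simp only [Finset.mem_filter, Finset.mem_univ, true_and, Subgroup.mem_inf,
        Subgroup.mem_centralizer_singleton_iff, hA, mem_AK]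
      exact ⟨fun h => ⟨h.2, h.1.2⟩, fun h => ⟨⟨P.S.Q_le h.1, h.2⟩, h.1⟩⟩
    have h3 := Finset.card_filter_add_card_filter_not (s := Finset.univ.filter fun a => a ∈ A)
      (fun a => a ∈ E)
    rw [Finset.filter_filter, Finset.filter_filter, h1, h2, ← hO] at h3
    omega
  have hkN : ∀ c ∈ C, c * k * c⁻¹ ∈ O → c ∈ Subgroup.normalizer (A : Set G) := by
    intro c hc hck
    refine P.mem_N fun a ha => ?_
    obtain ⟨hckA, hckE⟩ := (Finset.mem_filter.1 hck).2
    -- `A` is the centraliser in `C` of each of its involutions outside `E`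
    obtain ⟨d, hd, hdk⟩ := P.core.conj_out (mem_AK.1 hckA).1 (P.AK_sq hckA) hckE P.k_mem P.k_sq P.k_ne
    have hsub : ∀ b ∈ A, d * b * d⁻¹ ∈ A := fun b hb => by
      refine mem_AK.2 ⟨C.mul_mem (C.mul_mem hd (mem_AK.1 hb).1) (C.inv_mem hd), ?_⟩
      rw [← hdk]
      exact conj_comm (P.AK_comm hb hckA)
    have hdN := P.mem_N hsub
    have h1 : d * (c * a * c⁻¹) * d⁻¹ ∈ A := by
      refine mem_AK.2 ⟨C.mul_mem (C.mul_mem hd (C.mul_mem (C.mul_mem hc (mem_AK.1 ha).1) (C.inv_mem hc)))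
        (C.inv_mem hd), ?_⟩
      rw [← hdk]
      exact conj_comm (conj_comm (mem_AK.1 ha).2)
    exact (Subgroup.mem_normalizer_iff.1 hdN _).2 h1
  have hmap : ∀ c ∈ Subgroup.normalizer (A : Set G), c ∈ C → c * k * c⁻¹ ∈ O := by
    intro c hc hcC
    refine Finset.mem_filter.2 ⟨Finset.mem_univ _, P.conj_N hc P.k_memA, fun h => P.kE ?_⟩
    have := P.S.conj_mem c⁻¹ (C.inv_mem hcC) _ h
    rwa [show c⁻¹ * (c * k * c⁻¹) * c⁻¹⁻¹ = k by group] at this
  rw [Nat.card_eq_fintype_card, Fintype.card_subtype,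
    Finset.card_eq_sum_card_fiberwise (f := fun c => c * k * c⁻¹) (t := O)
      (fun c hc => hmap c (Finset.mem_filter.1 hc).2.1 (Finset.mem_filter.1 hc).2.2),
    Finset.sum_const_nat (m := 16), hO12]
  intro y hy
  obtain ⟨hyA, hyE⟩ := (Finset.mem_filter.1 hy).2
  obtain ⟨d, hd, hdk⟩ := P.core.conj_out (mem_AK.1 hyA).1 (P.AK_sq hyA) hyE P.k_mem P.k_sq P.k_ne
  have hy' : d⁻¹ * k * d⁻¹⁻¹ = y := by rw [← hdk]; group
  rw [← P.card_AK, Nat.card_eq_fintype_card, Fintype.card_subtype]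
  refine (Finset.card_bij (fun a _ => d⁻¹ * a) ?_ (fun _ _ _ _ e => mul_left_cancel e) ?_).symm
  · intro a ha
    have ha' : a ∈ A := (Finset.mem_filter.1 ha).2
    have hcC : d⁻¹ * a ∈ C := C.mul_mem (C.inv_mem hd) (mem_AK.1 ha').1
    have he : d⁻¹ * a * k * (d⁻¹ * a)⁻¹ = y := by
      rw [show d⁻¹ * a * k * (d⁻¹ * a)⁻¹ = d⁻¹ * (a * k) * a⁻¹ * d⁻¹⁻¹ by group, (mem_AK.1 ha').2, ← hy']
      group
    exact Finset.mem_filter.2 ⟨Finset.mem_filter.2 ⟨Finset.mem_univ _,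
      hkN _ hcC (he ▸ hy), hcC⟩, he⟩
  · intro c hc
    obtain ⟨hcN, hcy⟩ := Finset.mem_filter.1 hc
    have hcC := ((Finset.mem_filter.1 hcN).2).2
    refine ⟨d * c, Finset.mem_filter.2 ⟨Finset.mem_univ _, mem_AK.2 ⟨C.mul_mem hd hcC, ?_⟩⟩, by group⟩
    refine mul_inv_eq_iff_eq_mul.1 ?_
    rw [show d * c * k * (d * c)⁻¹ = d * (c * k * c⁻¹) * d⁻¹ by group, hcy, hdk]

/-- The normaliser has order 2880. -/
theorem card_N : Nat.card (Subgroup.normalizer (AK C k : Set G)) = 2880 := by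
  have := Fintype.ofFinite G
  set A := AK C k with hA
  set O : Finset G := (Finset.univ.filter fun a => a ∈ A).erase 1 with hO
  have hO15 : O.card = 15 := by
    rw [hO, Finset.card_erase_of_mem (by simp), ← Fintype.card_subtype, ← Nat.card_eq_fintype_card,
      show Nat.card {x // x ∈ A} = 16 from P.card_AK]
  have hmap : ∀ n ∈ Subgroup.normalizer (A : Set G), n * t * n⁻¹ ∈ O := fun n hn =>
    Finset.mem_erase.2 ⟨fun e => P.S.z_ne (conj_eq_one_iff.1 e),
      Finset.mem_filter.2 ⟨Finset.mem_univ _, P.conj_N hn P.t_mem⟩⟩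
  rw [Nat.card_eq_fintype_card, Fintype.card_subtype,
    Finset.card_eq_sum_card_fiberwise (f := fun n => n * t * n⁻¹) (t := O)
      (fun n hn => hmap n (Finset.mem_filter.1 hn).2),
    Finset.sum_const_nat (m := 192), hO15]
  intro y hy
  obtain ⟨hy1, hyA⟩ := Finset.mem_erase.1 hy
  obtain ⟨n, hn, hny⟩ := P.trans_AK (Finset.mem_filter.1 hyA).2 hy1
  have hy' : n⁻¹ * t * n⁻¹⁻¹ = y := by rw [← hny]; group
  rw [← P.card_NC, Nat.card_eq_fintype_card, Fintype.card_subtype]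
  refine (Finset.card_bij (fun a _ => n⁻¹ * a) ?_ (fun _ _ _ _ e => mul_left_cancel e) ?_).symm
  · intro a ha
    obtain ⟨haN, haC⟩ := (Finset.mem_filter.1 ha).2
    refine Finset.mem_filter.2 ⟨Finset.mem_filter.2 ⟨Finset.mem_univ _,
      Subgroup.mul_mem _ (Subgroup.inv_mem _ hn) haN⟩, ?_⟩
    rw [show n⁻¹ * a * t * (n⁻¹ * a)⁻¹ = n⁻¹ * (a * t) * a⁻¹ * n⁻¹⁻¹ by group, P.data.memC.1 haC, ← hy']
    group
  · intro b hb
    obtain ⟨hbN, hby⟩ := Finset.mem_filter.1 hb
    refine ⟨n * b, Finset.mem_filter.2 ⟨Finset.mem_univ _,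
      Subgroup.mul_mem _ hn (Finset.mem_filter.1 hbN).2, P.data.memC.2 ?_⟩, by group⟩
    refine mul_inv_eq_iff_eq_mul.1 ?_
    rw [show n * b * t * (n * b)⁻¹ = n * (b * t * b⁻¹) * n⁻¹ by group, hby, hny]

end Klein

end CfsgLib.J3Type
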