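import Cfsg.Agent.Lib.J3Type.Three
import Cfsg.Agent.Lib.J3Type.A5Facts

/-!
In the centraliser of an involution: a fours group permuted by an element of order 3 and an involution
inverting that element satisfy the braid relation up to the central involution.
-/

set_option autoImplicit false
set_option maxHeartbeats 800000

open scoped Classical

namespace CfsgLib.J3Type

open CfsgLib.J2Order

variable {G : Type*} [Group G] [Finite G] {t : G} {E K C : Subgroup G}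

omit [Finite G] in
theorem twist_three {x w t : G} (hx : x ^ 3 = 1) (hxt : x * t * x⁻¹ = t) (ht : t * t = 1)
    (h : x * w * x⁻¹ = w * t) : t = 1 := by
  have h2 : x * (x * w * x⁻¹) * x⁻¹ = w := by
    rw [h, show x * (w * t) * x⁻¹ = (x * w * x⁻¹) * (x * t * x⁻¹) by group, hxt, h, mul_assoc, ht, mul_one]
  have h3 : x ^ 3 * w * (x ^ 3)⁻¹ = x * (x * (x * w * x⁻¹) * x⁻¹) * x⁻¹ := by
    simp [pow_succ, mul_assoc]
  rw [hx, h2, h, one_mul, inv_one, mul_one] at h3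
  exact left_eq_mul.1 h3

namespace Klein

variable {k : G} (P : Klein t k E K C)
include P

theorem normalizes {n : G} (hn : n ∈ C) (h : n * k * n⁻¹ * k = k * (n * k * n⁻¹)) :
    n ∈ Subgroup.normalizer (AK C k : Set G) := by
  rw [← inv_mem_iff]
  refine P.mem_N fun a ha => ?_
  obtain ⟨haC, -⟩ := mem_AK.1 ha
  have hk' : n * k * n⁻¹ ∈ AK C k := mem_AK.2 ⟨C.mul_mem (C.mul_mem hn P.kC) (C.inv_mem hn), h⟩
  refine mem_AK.2 ⟨C.mul_mem (C.mul_mem (C.inv_mem hn) haC) (C.inv_mem (C.inv_mem hn)), ?_⟩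
  calc n⁻¹ * a * n⁻¹⁻¹ * k = n⁻¹ * (a * (n * k * n⁻¹)) * n := by group
    _ = n⁻¹ * (n * k * n⁻¹ * a) * n := by rw [P.AK_comm ha hk']
    _ = k * (n⁻¹ * a * n⁻¹⁻¹) := by group

/-- An element of order 3 of `C` normalising the subgroup fixes its intersection with `E`. -/
theorem comm_W {x w : G} (hxN : x ∈ Subgroup.normalizer (AK C k : Set G)) (hxC : x ∈ C) (hx : x ^ 3 = 1)
    (hw : w ∈ E) (hwk : w * k = k * w) : x * w = w * x := by
  have hxt := P.data.memC.1 hxC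
  rcases eq_or_ne w 1 with rfl | hw1
  · simp
  rcases eq_or_ne w t with rfl | hwt
  · exact hxt
  set W := (E ⊓ Subgroup.centralizer ({k} : Set G) : Subgroup G) with hW
  have hWc : Nat.card W = 4 := P.card_W
  have hmem : ∀ a, a ∈ W ↔ a ∈ E ∧ a * k = k * a := fun a => by
    simp [hW, Subgroup.mem_centralizer_singleton_iff]
  have hwt1 : w * t ≠ 1 := fun e => hwt (by
    rw [eq_inv_of_mul_eq_one_left e, inv_eq_of_mul_eq_one_right P.S.z_sq])
  have hwtt : w * t ≠ t := fun e => hw1 (mul_eq_right.1 e)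
  have hwtw : w * t ≠ w := fun e => P.S.z_ne (mul_eq_left.1 e)
  have htk : t * k = k * t := (P.data.memC.1 P.kC).symm
  have hwW : w ∈ W := (hmem w).2 ⟨hw, hwk⟩
  have htW : t ∈ W := (hmem t).2 ⟨P.S.z_mem, htk⟩
  have := Fintype.ofFinite G
  have hs : (Finset.univ.filter fun a => a ∈ W) = {1, t, w, w * t} := by
    refine (Finset.eq_of_subset_of_card_le ?_ ?_).symm
    · intro a ha
      simp only [Finset.mem_insert, Finset.mem_singleton] at ha
      simp only [Finset.mem_filter, Finset.mem_univ, true_and]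
      rcases ha with rfl | rfl | rfl | rfl
      exacts [W.one_mem, htW, hwW, W.mul_mem hwW htW]
    · rw [← Fintype.card_subtype, ← Nat.card_eq_fintype_card, hWc,
        Finset.card_insert_of_notMem (by simp [P.S.z_ne.symm, hw1.symm, hwt1.symm]),
        Finset.card_insert_of_notMem (by simp [hwt.symm, hwtt.symm]), Finset.card_pair hwtw.symm]
  have hE : x * w * x⁻¹ ∈ E := P.S.conj_mem x hxC w hw
  have hA : w ∈ AK C k := mem_AK.2 ⟨P.S.Q_le hw, hwk⟩
  have h1 : x * w * x⁻¹ ∈ W := (hmem _).2 ⟨hE, (mem_AK.1 (P.conj_N hxN hA)).2⟩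
  have h2 : x * w * x⁻¹ ∈ (Finset.univ.filter fun a => a ∈ W) := by simp [h1]
  rw [hs] at h2
  simp only [Finset.mem_insert, Finset.mem_singleton] at h2
  rcases h2 with h | h | h | h
  · exact absurd (conj_eq_one_iff.1 h) hw1
  · refine absurd ?_ hwt
    rw [mul_inv_eq_iff_eq_mul, ← hxt] at h
    exact mul_left_cancel h
  · exact mul_inv_eq_iff_eq_mul.1 h
  · exact absurd (twist_three hx (mul_inv_eq_iff_eq_mul.2 hxt) P.S.z_sq h) P.S.z_ne

end Klein

/-- The braid relation up to the central involution. -/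
theorem Data.local_braid (D : Data t E K C) {r v j : G} (hr : orderOf r = 3) (hrC : r ∈ C) (hvC : v ∈ C)
    (hjC : j ∈ C) (hv2 : v * v = 1) (hvr : r * v * r⁻¹ ≠ v)
    (hvv : v * (r * v * r⁻¹) = r * v * r⁻¹ * v)
    (hprod : v * (r * v * r⁻¹) * (r * (r * v * r⁻¹) * r⁻¹) = 1)
    (hj2 : j * j = 1) (hjr : j * r * j⁻¹ = r⁻¹) :
    ∃ i : ℕ, (r ^ i * v * (r ^ i)⁻¹ * j) ^ 3 = 1 ∨ (r ^ i * v * (r ^ i)⁻¹ * j) ^ 3 = t := by
  haveI : Fact (Nat.Prime 3) := ⟨Nat.prime_three⟩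
  have := Fintype.ofFinite G
  have S := D.setup
  have hr3 : r ^ 3 = 1 := hr ▸ pow_orderOf_eq_one r
  have hrt := D.memC.1 hrC
  have hv1 : v ≠ 1 := fun e => hvr (by rw [e]; group)
  have hvt : v ≠ t := fun e => hvr (by rw [e, hrt, mul_inv_cancel_right])
  -- `v` is outside `E`
  have hvE : v ∉ E := by
    intro hvE
    set v' := r * v * r⁻¹ with hv'
    have hX : v ∈ S.X := S.mem_X.2 ⟨hvE, hv2, hv1, hvt⟩
    have hX' : v' ∈ S.X := S.conj_X hrC hX
    by_cases hpr : S.pr v = S.pr v'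
    · have hm : v' ∈ S.pr v := by rw [hpr]; exact S.mem_pr.2 (Or.inl rfl)
      rcases S.mem_pr.1 hm with h | h
      · exact hvr h
      · exact S.z_ne (twist_three hr3 (mul_inv_eq_iff_eq_mul.2 hrt) S.z_sq h)
    · exact S.toBase.anti_ne (S.anti_of_ne hX hX' hpr) hvv
  obtain ⟨k, P⟩ := D.exists_klein
  obtain ⟨c, hc, hck⟩ := D.core.conj_out hvC hv2 hvE P.k_mem P.k_sq P.k_ne
  set A := AK C k with hA
  set N := Subgroup.normalizer (A : Set G) with hN
  have hr1N : c * r * c⁻¹ ∈ N := P.normalizes (C.mul_mem (C.mul_mem hc hrC) (C.inv_mem hc)) (by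
    rw [← hck, show c * r * c⁻¹ * (c * v * c⁻¹) * (c * r * c⁻¹)⁻¹ = c * (r * v * r⁻¹) * c⁻¹ by group]
    exact conj_comm hvv.symm)
  -- an element of order 3 of the complement normalising the subgroup
  obtain ⟨a, haK, ha3, ha1, hak⟩ : ∃ a ∈ K, a ^ 3 = 1 ∧ a ≠ 1 ∧ k * (a * k * a⁻¹) = a * k * a⁻¹ * k := by
    obtain ⟨e⟩ := S.equivK
    obtain ⟨a, h3, h1, hc⟩ := alt5_three_of_invol (e ⟨k, P.k_mem⟩)
      (by rw [← map_mul, show (⟨k, P.k_mem⟩ : K) * ⟨k, P.k_mem⟩ = 1 from Subtype.ext P.k_sq, map_one])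
      (fun h => P.k_ne (congrArg Subtype.val (e.injective (h.trans (map_one e).symm))))
    have h3' : e.symm a ^ 3 = 1 := by rw [← map_pow, h3, map_one]
    refine ⟨e.symm a, SetLike.coe_mem _, congrArg Subtype.val h3', fun h => h1 ?_, ?_⟩
    · simpa using congrArg e (Subtype.ext h : e.symm a = 1)
    · exact congrArg Subtype.val (show (⟨k, P.k_mem⟩ : K) * (e.symm a * ⟨k, P.k_mem⟩ * (e.symm a)⁻¹) =
        e.symm a * ⟨k, P.k_mem⟩ * (e.symm a)⁻¹ * ⟨k, P.k_mem⟩ from e.injective (by simpa using hc))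
  have haC : a ∈ C := S.K_le haK
  have haN : a ∈ N := P.normalizes haC hak.symm
  set M := N ⊓ C with hM
  have hao : orderOf a = 3 := orderOf_eq_prime ha3 ha1
  have hMc : Nat.card M = 192 := P.card_NC
  have haM : a ∈ M := Subgroup.mem_inf.2 ⟨haN, haC⟩
  have hr1M : c * r * c⁻¹ ∈ M :=
    Subgroup.mem_inf.2 ⟨hr1N, C.mul_mem (C.mul_mem hc hrC) (C.inv_mem hc)⟩
  have hT : Nat.card (Subgroup.zpowers (⟨a, haM⟩ : M)) = 3 ^ (Nat.card M).factorization 3 := by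
    rw [hMc, Nat.card_zpowers, Subgroup.orderOf_mk, hao,
      show (192 : ℕ) = 3 ^ 1 * 64 by norm_num, Nat.factorization_mul (by norm_num) (by norm_num),
      Finsupp.add_apply, Nat.Prime.factorization_pow Nat.prime_three, Finsupp.single_eq_same,
      Nat.factorization_eq_zero_of_not_dvd (by norm_num : ¬ 3 ∣ 64)]
    norm_num
  have hr1o : orderOf (c * r * c⁻¹) = 3 :=
    (orderOf_injective (MulAut.conj c).toMonoidHom (MulAut.conj c).injective r).trans hr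
  set r1 : M := ⟨c * r * c⁻¹, hr1M⟩ with hr1
  obtain ⟨T2, hT2⟩ := (IsPGroup.of_card (p := 3) (n := 1)
    (by rw [Nat.card_zpowers, hr1, Subgroup.orderOf_mk, hr1o, pow_one] :
      Nat.card (Subgroup.zpowers r1) = 3 ^ 1)).exists_le_sylow
  obtain ⟨n, hnT⟩ := MulAction.exists_smul_eq M T2 (Sylow.ofCard _ hT)
  have hmem : n * r1 * n⁻¹ ∈ ((Sylow.ofCard _ hT : Sylow 3 M) : Subgroup M) := by
    rw [← hnT, Sylow.coe_subgroup_smul]
    exact ⟨_, hT2 (Subgroup.mem_zpowers _), rfl⟩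
  rw [Sylow.coe_ofCard, Subgroup.mem_zpowers_iff] at hmem
  obtain ⟨z, hz⟩ := hmem
  set h := (n : G) * c with hh
  have hhC : h ∈ C := C.mul_mem n.2.2 hc
  set x := h * r * h⁻¹ with hx
  have hxa : x = a ^ z := by
    rw [hx, hh, show (n : G) * c * r * ((n : G) * c)⁻¹ = n * (c * r * c⁻¹) * (n : G)⁻¹ by group]
    exact (congrArg Subtype.val hz).symm
  have hxK : x ∈ K := hxa ▸ K.zpow_mem haK z
  have hxN : x ∈ N := hxa ▸ N.zpow_mem haN z
  have hxC : x ∈ C := S.K_le hxK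
  have hxo : orderOf x = 3 :=
    (orderOf_injective (MulAut.conj h).toMonoidHom (MulAut.conj h).injective r).trans hr
  have hx3 : x ^ 3 = 1 := hxo ▸ pow_orderOf_eq_one x
  have T : Three t x E K C := ⟨D, hxK, hxo⟩
  -- the image of `v`
  set v1 := h * v * h⁻¹ with hv1'
  have hv1A : v1 ∈ A := by
    rw [hv1', hh, show (n : G) * c * v * ((n : G) * c)⁻¹ = n * (c * v * c⁻¹) * (n : G)⁻¹ by group, hck]
    exact P.conj_N n.2.1 P.k_memA
  obtain ⟨w, m, hw, hwk, hm, hmk, hv1e⟩ := P.decomp hv1A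
  have hwx : x * w = w * x := P.comm_W hxN hxC hx3 hw hwk
  obtain ⟨hm2, -⟩ := P.cent_K hm hmk
  have hwm : ∀ l ∈ K, l * k = k * l → w * l = l * w := fun l hl hlk => P.W_K_comm hw hwk hl hlk
  have hm'K : ∀ i : ℕ, x ^ i * m * (x ^ i)⁻¹ ∈ K ∧ x ^ i * m * (x ^ i)⁻¹ * k = k * (x ^ i * m * (x ^ i)⁻¹) :=
    fun i => ⟨K.mul_mem (K.mul_mem (K.pow_mem hxK i) hm) (K.inv_mem (K.pow_mem hxK i)),
      (mem_AK.1 (P.conj_N (N.pow_mem hxN i) (mem_AK.2 ⟨S.K_le hm, hmk⟩))).2⟩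
  set m1 := x * m * x⁻¹ with hm1
  set m2 := x * m1 * x⁻¹ with hm2'
  obtain ⟨hm1K, hm1k⟩ : m1 ∈ K ∧ m1 * k = k * m1 := by simpa using hm'K 1
  obtain ⟨hm2K, hm2k⟩ : m2 ∈ K ∧ m2 * k = k * m2 := by
    have := hm'K 2
    rw [show x ^ 2 * m * (x ^ 2)⁻¹ = m2 by rw [hm2', hm1, pow_two]; group] at this
    exact this
  have hxw : x * w * x⁻¹ = w := mul_inv_eq_iff_eq_mul.2 hwx
  have hp : v1 * (x * v1 * x⁻¹) * (x * (x * v1 * x⁻¹) * x⁻¹) = 1 := by
    rw [hx, hv1', show h * v * h⁻¹ * (h * r * h⁻¹ * (h * v * h⁻¹) * (h * r * h⁻¹)⁻¹) *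
      (h * r * h⁻¹ * (h * r * h⁻¹ * (h * v * h⁻¹) * (h * r * h⁻¹)⁻¹) * (h * r * h⁻¹)⁻¹) =
      h * (v * (r * v * r⁻¹) * (r * (r * v * r⁻¹) * r⁻¹)) * h⁻¹ by group, hprod]
    group
  have hw1 : w = 1 := by
    have e1 : x * v1 * x⁻¹ = w * m1 := by
      rw [hv1e, show x * (w * m) * x⁻¹ = (x * w * x⁻¹) * (x * m * x⁻¹) by group, hxw]
    have e2 : x * (w * m1) * x⁻¹ = w * m2 := by
      rw [show x * (w * m1) * x⁻¹ = (x * w * x⁻¹) * (x * m1 * x⁻¹) by group, hxw]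
    rw [e1, e2, hv1e] at hp
    have e3 : w * m * (w * m1) * (w * m2) = (w * w * w) * (m * m1 * m2) := by
      calc w * m * (w * m1) * (w * m2) = w * (m * w) * (m1 * w) * m2 := by group
        _ = w * (w * m) * (w * m1) * m2 := by rw [← hwm m hm hmk, ← hwm m1 hm1K hm1k]
        _ = w * w * (m * w) * m1 * m2 := by group
        _ = _ := by rw [← hwm m hm hmk]; group
    rw [e3] at hp
    obtain ⟨h3, -⟩ := D.core.decomp_unique (E.mul_mem (E.mul_mem hw hw) hw) E.one_mem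
      (K.mul_mem (K.mul_mem hm hm1K) hm2K) K.one_mem (by rw [hp, one_mul])
    rwa [(P.core.cq P.k_mem P.k_sq P.k_ne).2.1 w hw hwk, one_mul] at h3
  rw [hw1, one_mul] at hv1e
  have hm_ne : m ≠ 1 := fun e => hv1 (conj_eq_one_iff.1 (hv1'.symm.trans (hv1e.trans e)))
  -- the image of `j`
  set j1 := h * j * h⁻¹ with hj1
  obtain ⟨q, hq, l, hl, hj1e⟩ := S.decomp j1 (C.mul_mem (C.mul_mem hhC hjC) (C.inv_mem hhC))
  have hj1x : j1 * x = x⁻¹ * j1 := by
    rw [hj1, hx, show h * j * h⁻¹ * (h * r * h⁻¹) = h * (j * r * j⁻¹) * j * h⁻¹ by group, hjr]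
    group
  have hj12 : j1 * j1 = 1 := by
    rw [hj1, show h * j * h⁻¹ * (h * j * h⁻¹) = h * (j * j) * h⁻¹ by group, hj2]
    group
  obtain ⟨hqe, hlx⟩ := D.core.decomp_unique (q := q) (q' := x⁻¹ * q * x) (k := l * x) (k' := x⁻¹ * l) hq
    (by simpa using S.conj_mem x⁻¹ (C.inv_mem hxC) q hq) (K.mul_mem hl hxK) (K.mul_mem (K.inv_mem hxK) hl)
    (by rw [← mul_assoc, ← hj1e, hj1x, hj1e]; group)
  have hqx : q * x = x * q := by
    conv_rhs => rw [hqe]
    group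
  obtain ⟨hqq, hll⟩ := D.core.decomp_unique (q := q * (l * q * l⁻¹)) (q' := 1) (k := l * l) (k' := 1)
    (E.mul_mem hq (S.conj_mem l (S.K_le hl) q hq)) E.one_mem (K.mul_mem hl hl) K.one_mem
    (by rw [one_mul, show q * (l * q * l⁻¹) * (l * l) = q * l * (q * l) by group, ← hj1e, hj12])
  have hli : l⁻¹ = l := inv_eq_of_mul_eq_one_right hll
  have hlx' : l * x * l⁻¹ = x⁻¹ := mul_inv_eq_iff_eq_mul.2 hlx
  have hl1 : l ≠ 1 := fun e => by
    rw [e, one_mul, mul_one] at hlx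
    have : x ^ 2 = 1 := by rw [pow_two]; nth_rewrite 2 [hlx]; group
    have := orderOf_dvd_of_pow_eq_one this
    rw [hxo] at this
    norm_num at this
  -- the fact in `K`
  obtain ⟨i, hi⟩ : ∃ i : ℕ, (x ^ i * m * (x ^ i)⁻¹ * l) ^ 3 = 1 := by
    obtain ⟨e⟩ := S.equivK
    have hmm : m * (x * m * x⁻¹) = x * m * x⁻¹ * m := by
      rw [← hv1e, hv1', hx, show h * r * h⁻¹ * (h * v * h⁻¹) * (h * r * h⁻¹)⁻¹ = h * (r * v * r⁻¹) * h⁻¹ by group]
      exact conj_comm hvv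
    obtain ⟨i, hi⟩ := alt5_braid (e ⟨x, hxK⟩)
      (by rw [← map_pow, show (⟨x, hxK⟩ : K) ^ 3 = 1 from Subtype.ext hx3, map_one])
      (fun h => T.x_ne (congrArg Subtype.val (e.injective (h.trans (map_one e).symm))))
      (e ⟨m, hm⟩) (by rw [← map_mul, show (⟨m, hm⟩ : K) * ⟨m, hm⟩ = 1 from Subtype.ext hm2, map_one])
      (fun h => hm_ne (congrArg Subtype.val (e.injective (h.trans (map_one e).symm))))
      (by simp only [← map_inv, ← map_mul]; exact congrArg e (Subtype.ext hmm :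
        (⟨m, hm⟩ : K) * (⟨x, hxK⟩ * ⟨m, hm⟩ * (⟨x, hxK⟩ : K)⁻¹) = ⟨x, hxK⟩ * ⟨m, hm⟩ * (⟨x, hxK⟩ : K)⁻¹ * ⟨m, hm⟩))
      (e ⟨l, hl⟩) (by rw [← map_mul, show (⟨l, hl⟩ : K) * ⟨l, hl⟩ = 1 from Subtype.ext hll, map_one])
      (by simp only [← map_inv, ← map_mul]; exact congrArg e (Subtype.ext hlx' :
        (⟨l, hl⟩ : K) * ⟨x, hxK⟩ * (⟨l, hl⟩ : K)⁻¹ = (⟨x, hxK⟩ : K)⁻¹))
    refine ⟨i, ?_⟩
    rw [← map_pow, ← map_inv, ← map_mul, ← map_mul, ← map_mul, ← map_pow, MulEquiv.map_eq_one_iff] at hi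
    simpa using congrArg Subtype.val hi
  set wi := x ^ i * m * (x ^ i)⁻¹ with hwi
  obtain ⟨hwiK, hwik⟩ := hm'K i
  -- an element of `E` commuting with `x`, `m` and the conjugates
  obtain ⟨e, he, hek, he1, het⟩ : ∃ e ∈ E, e * k = k * e ∧ e ≠ 1 ∧ e ≠ t := by
    by_contra hcon
    push Not at hcon
    have := card_le_of_subset (H := (E ⊓ Subgroup.centralizer ({k} : Set G) : Subgroup G)) (s := {1, t})
      fun a ha => by
        rcases eq_or_ne a 1 with rfl | h1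
        · simp
        · simp [hcon a ha.1 (Subgroup.mem_centralizer_singleton_iff.1 ha.2) h1]
    rw [P.card_W] at this
    exact absurd (this.trans Finset.card_le_two) (by norm_num)
  have hex : x * e = e * x := P.comm_W hxN hxC hx3 he hek
  have he2 : e * e = 1 := (P.core.cq P.k_mem P.k_sq P.k_ne).2.1 e he hek
  have hew : e * wi = wi * e := P.W_K_comm he hek hwiK hwik
  have heX : e ∈ T.S.X := T.S.mem_X.2 ⟨he, he2, he1, het⟩
  set e' := l * e * l⁻¹ with he'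
  have he'X : e' ∈ T.S.X := T.S.conj_X (S.K_le hl) heX
  have he'x : e' * x = x * e' := by
    have hxi : Commute e x⁻¹ := (show Commute e x from hex.symm).inv_right
    have := conj_comm (c := l) hxi.eq
    rwa [show l * x⁻¹ * l⁻¹ = (l * x * l⁻¹)⁻¹ by group, hlx', inv_inv] at this
  obtain ⟨u, u', U⟩ := T.exists_Pairs
  have hsw := U.swap l hl hll hl1 hlx'
  have hprl : ∀ {a b : G}, a ∈ T.S.X → b ∈ T.S.X → T.S.pr a = T.S.pr b →
      T.S.pr (l * a * l⁻¹) = T.S.pr (l * b * l⁻¹) := fun {a b} ha hb hab => by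
    have hm : a ∈ T.S.pr b := by rw [← hab]; exact T.S.mem_pr.2 (Or.inl rfl)
    rcases T.S.mem_pr.1 hm with rfl | rfl
    · rfl
    · refine T.S.pr_eq (T.S.mem_pr.2 (Or.inr ?_))
      rw [show l * (b * t) * l⁻¹ = l * b * l⁻¹ * (l * t * l⁻¹) by group, D.memC.1 (S.K_le hl),
        mul_inv_cancel_right]
  have hll2 : ∀ a : G, l * (l * a * l⁻¹) * l⁻¹ = a := fun a => by
    rw [show l * (l * a * l⁻¹) * l⁻¹ = (l * l) * a * (l * l)⁻¹ by group, hll]; group
  have hsw' : T.S.pr (l * u' * l⁻¹) = T.S.pr u := by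
    rw [← hprl (T.S.conj_X (S.K_le hl) U.uX) U.vX hsw, hll2]
  have hne : T.S.pr e ≠ T.S.pr e' ∧ ∀ w ∈ T.S.X, w * x = x * w → T.S.pr w = T.S.pr e ∨ T.S.pr w = T.S.pr e' := by
    rcases U.only e heX hex.symm with hh' | hh'
    · have : T.S.pr e' = T.S.pr u' := by rw [he', hprl heX U.uX hh', hsw]
      rw [hh', this]; exact ⟨U.ne, U.only⟩
    · have : T.S.pr e' = T.S.pr u := by rw [he', hprl heX U.vX hh', hsw']
      rw [hh', this]; exact ⟨U.ne.symm, fun w hw hwx => (U.only w hw hwx).symm⟩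
  have U' : Three.Pairs T e e' := by
    refine ⟨heX, he'X, hex.symm, he'x, T.S.anti_of_ne heX he'X hne.1, hne.1, hne.2, ?_⟩
    intro s hs hs2 hs1 hsx
    have hsX := T.S.conj_X (S.K_le hs) heX
    have hsxx : s * e * s⁻¹ * x = x * (s * e * s⁻¹) := by
      have hxi : Commute e x⁻¹ := (show Commute e x from hex.symm).inv_right
      have := conj_comm (c := s) hxi.eq
      rwa [show s * x⁻¹ * s⁻¹ = (s * x * s⁻¹)⁻¹ by group, hsx, inv_inv] at this
    have h1 := U.swap s hs hs2 hs1 hsx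
    rcases hne.2 _ hsX hsxx with hh' | hh'
    · exfalso
      have hps : ∀ {a b : G}, a ∈ T.S.X → b ∈ T.S.X → T.S.pr a = T.S.pr b →
          T.S.pr (s * a * s⁻¹) = T.S.pr (s * b * s⁻¹) := fun {a b} ha hb hab => by
        have hm : a ∈ T.S.pr b := by rw [← hab]; exact T.S.mem_pr.2 (Or.inl rfl)
        rcases T.S.mem_pr.1 hm with rfl | rfl
        · rfl
        · refine T.S.pr_eq (T.S.mem_pr.2 (Or.inr ?_))
          rw [show s * (b * t) * s⁻¹ = s * b * s⁻¹ * (s * t * s⁻¹) by group, D.memC.1 (S.K_le hs),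
            mul_inv_cancel_right]
      rcases U.only e heX hex.symm with h2 | h2
      · rw [hps heX U.uX h2, h1, h2] at hh'
        exact U.ne hh'.symm
      · have hs3 : s * (s * u * s⁻¹) * s⁻¹ = u := by
          rw [show s * (s * u * s⁻¹) * s⁻¹ = (s * s) * u * (s * s)⁻¹ by group, hs2]; group
        have h3 := hps (T.S.conj_X (S.K_le hs) U.uX) U.vX h1
        rw [hs3] at h3
        rw [hps heX U.vX h2, ← h3, h2] at hh'
        exact U.ne hh'
    · exact hh'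
  -- the four possibilities for `q`
  have hlq : l * q * l⁻¹ = q⁻¹ := eq_inv_of_mul_eq_one_right hqq
  have hlt : l * t * l⁻¹ = t := mul_inv_eq_iff_eq_mul.2 (D.memC.1 (S.K_le hl))
  have hle' : l * e' * l⁻¹ = e := hll2 e
  have hti : t⁻¹ = t := inv_eq_of_mul_eq_one_right S.z_sq
  have hei : e⁻¹ = e := inv_eq_of_mul_eq_one_right he2
  have he'2 : e' * e' = 1 := (T.S.mem_X.1 he'X).2.1
  have he'i : e'⁻¹ = e' := inv_eq_of_mul_eq_one_right he'2
  have hee : ∀ a b : G, a ∈ T.S.pr e → b ∈ T.S.pr e' → a ≠ b := fun a b ha hb hab =>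
    hne.1 (by rw [← T.S.pr_eq ha, hab, T.S.pr_eq hb])
  have hwt : ∀ {a : G}, a ∈ E → a * t = t * a := fun {a} ha => T.S.mul_z ha
  have hqq4 : q = 1 ∨ q = t ∨ q = e * e' ∨ q = e * e' * t := by
    have := U'.cases hq hqx
    simp only [Finset.mem_insert, Finset.mem_singleton] at this
    rcases this with h | h | h | h | h | h | h | h
    · exact Or.inl h
    · exact Or.inr (Or.inl h)
    · exfalso
      rw [h, hei, ← he'] at hlq
      exact hee e e' (T.S.mem_pr.2 (Or.inl rfl)) (T.S.mem_pr.2 (Or.inl rfl)) hlq.symm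
    · exfalso
      rw [h, mul_inv_rev, hti, hei, show l * (e * t) * l⁻¹ = l * e * l⁻¹ * (l * t * l⁻¹) by group, ← he', hlt,
        ← hwt he] at hlq
      exact hee (e * t) (e' * t) (T.S.mem_pr.2 (Or.inr rfl)) (T.S.mem_pr.2 (Or.inr rfl)) hlq.symm
    · exfalso
      rw [h, he'i, hle'] at hlq
      exact hee e e' (T.S.mem_pr.2 (Or.inl rfl)) (T.S.mem_pr.2 (Or.inl rfl)) hlq
    · exfalso
      rw [h, mul_inv_rev, hti, he'i, show l * (e' * t) * l⁻¹ = l * e' * l⁻¹ * (l * t * l⁻¹) by group, hle', hlt,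
        ← hwt (T.S.mem_X.1 he'X).1] at hlq
      exact hee (e * t) (e' * t) (T.S.mem_pr.2 (Or.inr rfl)) (T.S.mem_pr.2 (Or.inr rfl)) hlq
    · exact Or.inr (Or.inr (Or.inl h))
    · exact Or.inr (Or.inr (Or.inr h))
  have hwiC : wi * t = t * wi := D.memC.1 (S.K_le hwiK)
  have hlC : l * t = t * l := D.memC.1 (S.K_le hl)
  have hct : ∀ y : G, y * t = t * y → (y * t) ^ 3 = y ^ 3 * t := fun y hy => by
    rw [(show Commute y t from hy).mul_pow, pow_succ t 2, pow_two t, S.z_sq, one_mul]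
  have hee' : (wi * (e * e' * l)) ^ 3 = 1 := by
    have he'l : e' * l = l * e := by rw [he', inv_mul_cancel_right]
    calc (wi * (e * e' * l)) ^ 3 = (e * (wi * l) * e⁻¹) ^ 3 := by
          rw [mul_assoc e e' l, he'l, ← mul_assoc wi e, ← hew, hei]; group
      _ = e * (wi * l) ^ 3 * e⁻¹ := conj_pow
      _ = 1 := by rw [hi]; group
  refine ⟨i, ?_⟩
  have key : h * (r ^ i * v * (r ^ i)⁻¹ * j) ^ 3 * h⁻¹ = (wi * (q * l)) ^ 3 := by
    rw [← conj_pow, show h * (r ^ i * v * (r ^ i)⁻¹ * j) * h⁻¹ =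
      (h * r ^ i * h⁻¹) * (h * v * h⁻¹) * (h * r ^ i * h⁻¹)⁻¹ * (h * j * h⁻¹) by group,
      ← conj_pow (a := h) (b := r), ← hx, ← hv1', ← hj1, hv1e, hj1e, ← hwi]
  have hback : ∀ a, (wi * (q * l)) ^ 3 = a → h * a * h⁻¹ = a → (r ^ i * v * (r ^ i)⁻¹ * j) ^ 3 = a :=
    fun a h1 h2 => by
      rw [h1, ← h2] at key
      exact mul_left_cancel (mul_right_cancel key)
  have ht_fix : h * t * h⁻¹ = t := mul_inv_eq_iff_eq_mul.2 (D.memC.1 hhC)
  rcases hqq4 with h0 | h0 | h0 | h0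
  · exact Or.inl (hback 1 (by rw [h0, one_mul, hi]) (by group))
  · refine Or.inr (hback t ?_ ht_fix)
    rw [h0, ← hlC, ← mul_assoc, hct _ (by rw [mul_assoc, hlC, ← mul_assoc, hwiC, mul_assoc]), hi, one_mul]
  · exact Or.inl (hback 1 (by rw [h0]; exact hee') (by group))
  · refine Or.inr (hback t ?_ ht_fix)
    rw [h0, mul_assoc (e * e') t l, ← hlC, ← mul_assoc (e * e') l t, ← mul_assoc, hct _ ?_, hee', one_mul]
    exact ((show Commute wi t from hwiC).mul_left ((Commute.mul_left (hwt he) (hwt (T.S.mem_X.1 he'X).1)).mul_left hlC)).eq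

end CfsgLib.J3Type
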