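import Mathlib

/-!
Numbers attached to a Sylow subgroup of prime order in a simple group.
-/

set_option autoImplicit false

namespace CfsgLib.J3Type

variable {G : Type*} [Group G] [Finite G] {p : ℕ} [hp : Fact p.Prime]

theorem sylow_card_prime {m : ℕ} (h : Nat.card G = p * m) (hm : ¬ p ∣ m) (P : Sylow p G) :
    Nat.card P = p := by
  rw [P.card_eq_multiplicity, h, Nat.factorization_mul hp.out.ne_zero (fun e => hm (by rw [e]; exact dvd_zero p)),
    Finsupp.add_apply, hp.out.factorization_self, Nat.factorization_eq_zero_of_not_dvd hm, add_zero, pow_one]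

theorem centralizer_le_normalizer (P : Subgroup G) :
    Subgroup.centralizer (P : Set G) ≤ Subgroup.normalizer (P : Set G) := by
  intro a ha
  rw [Subgroup.mem_centralizer_iff] at ha
  refine Subgroup.mem_normalizer_iff.2 fun b => ⟨fun hb => ?_, fun hb => ?_⟩
  · rw [← ha b hb, mul_inv_cancel_right]; exact hb
  · have h := ha _ hb
    rw [inv_mul_cancel_right] at h
    exact mul_left_cancel h ▸ hb

/-- The quotient of the normaliser by the centraliser embeds in the automorphisms. -/
theorem normalizer_index_dvd (P : Sylow p G) (hP : Nat.card P = p) :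
    ((Subgroup.centralizer ((P : Subgroup G) : Set G)).subgroupOf
      (Subgroup.normalizer ((P : Subgroup G) : Set G))).index ∣ p - 1 := by
  haveI : IsCyclic (P : Subgroup G) := isCyclic_of_prime_card hP
  rw [← Subgroup.normalizerMonoidHom_ker, Subgroup.index_ker]
  refine dvd_trans (Subgroup.card_subgroup_dvd_card _) ?_
  rw [IsCyclic.card_mulAut, show Nat.card (P : Subgroup G) = p from hP, Nat.totient_prime hp.out]

theorem sylow_numbers (hs : IsSimpleGroup G) {m : ℕ} (hG : Nat.card G = p * m) (hm : ¬ p ∣ m) (hm1 : 1 < m)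
    (P : Sylow p G) :
    ∃ n d : ℕ, n ∣ m ∧ n % p = 1 ∧ n ≠ 1 ∧ d ∣ p - 1 ∧
      p ∣ Nat.card (Subgroup.centralizer ((P : Subgroup G) : Set G)) ∧
      Nat.card (Subgroup.normalizer ((P : Subgroup G) : Set G)) =
        Nat.card (Subgroup.centralizer ((P : Subgroup G) : Set G)) * d ∧
      n * (Nat.card (Subgroup.centralizer ((P : Subgroup G) : Set G)) * d) = Nat.card G := by
  have hP := sylow_card_prime hG hm P
  set N := Subgroup.normalizer ((P : Subgroup G) : Set G) with hN
  set C := Subgroup.centralizer ((P : Subgroup G) : Set G) with hC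
  refine ⟨Nat.card (Sylow p G), (C.subgroupOf N).index, ?_, ?_, ?_, normalizer_index_dvd P hP, ?_, ?_, ?_⟩
  · have h := P.card_dvd_index
    rwa [show (P : Subgroup G).index = m from Nat.eq_of_mul_eq_mul_left hp.out.pos (by
      refine Eq.trans ?_ hG
      rw [← (P : Subgroup G).card_mul_index, show Nat.card (P : Subgroup G) = p from hP])] at h
  · rw [card_sylow_modEq_one p G, Nat.mod_eq_of_lt hp.out.one_lt]
  · intro h
    rw [P.card_eq_index_normalizer, Subgroup.index_eq_one] at h
    haveI hn : (P : Subgroup G).Normal := Subgroup.normalizer_eq_top_iff.1 h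
    rcases hs.eq_bot_or_eq_top_of_normal (P : Subgroup G) hn with e | e
    · rw [e, Subgroup.card_bot] at hP
      exact hp.out.one_lt.ne hP
    · rw [show Nat.card P = Nat.card (P : Subgroup G) from rfl, e, Subgroup.card_top, hG] at hP
      have := Nat.eq_of_mul_eq_mul_left hp.out.pos (hP.trans (mul_one p).symm)
      omega
  · haveI : IsCyclic (P : Subgroup G) := isCyclic_of_prime_card hP
    have hle : (P : Subgroup G) ≤ C := by
      intro a ha
      rw [hC, Subgroup.mem_centralizer_iff]
      intro b hb
      letI : CommGroup (P : Subgroup G) := IsCyclic.commGroup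
      exact congrArg Subtype.val (mul_comm (⟨b, hb⟩ : (P : Subgroup G)) ⟨a, ha⟩)
    have := Subgroup.card_dvd_of_le hle
    rwa [show Nat.card (P : Subgroup G) = p from hP] at this
  · rw [← Nat.card_congr (Subgroup.subgroupOfEquivOfLe (centralizer_le_normalizer (P : Subgroup G))).toEquiv,
      Subgroup.card_mul_index]
  · rw [← Nat.card_congr (Subgroup.subgroupOfEquivOfLe (centralizer_le_normalizer (P : Subgroup G))).toEquiv,
      Subgroup.card_mul_index, P.card_eq_index_normalizer, mul_comm]
    exact Subgroup.card_mul_index (Subgroup.normalizer ((P : Subgroup G) : Set G))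

end CfsgLib.J3Type
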