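import Cfsg.Agent.Lib.J3Type.Order
import Cfsg.Agent.Lib.J3Type.Arith
import Cfsg.Agent.Lib.J3Type.PrimeSylow

/-!
One class of involutions with centraliser `2^(1+4).A₅`: the order.
-/

set_option autoImplicit false
set_option synthInstance.maxSize 512
set_option synthInstance.maxHeartbeats 200000

namespace CfsgLib.J3Type

theorem dvd_three {n a b c : ℕ} (ha : 0 < a) (hb : 0 < b) (hc : 0 < c) (h : n ∣ a * b * c) :
    ∃ i j k, i ∈ a.divisors ∧ j ∈ b.divisors ∧ k ∈ c.divisors ∧ n = i * j * k := by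
  obtain ⟨ij, k, hij, hk, rfl⟩ := Nat.dvd_mul.1 h
  obtain ⟨i, j, hi, hj, rfl⟩ := Nat.dvd_mul.1 hij
  exact ⟨i, j, k, Nat.mem_divisors.2 ⟨hi, ha.ne'⟩, Nat.mem_divisors.2 ⟨hj, hb.ne'⟩,
    Nat.mem_divisors.2 ⟨hk, hc.ne'⟩, rfl⟩

theorem divs73 : ∀ i ∈ Nat.divisors 128, ∀ j ∈ Nat.divisors 27, ∀ k ∈ Nat.divisors 205,
    i * j * k % 73 = 1 → i * j * k = 1 ∨ i * j * k = 47232 := by
  decide +kernel

theorem divs83 : ∀ i ∈ Nat.divisors 128, ∀ j ∈ Nat.divisors 27, ∀ k ∈ Nat.divisors 185,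
    i * j * k % 83 = 1 → i * j * k = 1 ∨ i * j * k = 333 ∨ i * j * k = 1080 := by
  decide +kernel

variable {G : Type*} [Group G] [Finite G] {t : G} {E K C : Subgroup G}

theorem Data.five_conj_cent (D : Data t E K C) {x y w s f : G} (F : Five t x y w s E K C)
    (hf : orderOf f = 5) : Nat.card (Subgroup.centralizer ({f} : Set G)) = 30 := by
  have _ := D
  haveI : Fact (Nat.Prime 5) := ⟨by decide⟩
  obtain ⟨k, hk⟩ : (5 : ℕ) ∣ Nat.card G := hf ▸ orderOf_dvd_natCard f
  have hk5 : ¬ 5 ∣ k := fun ⟨l, hl⟩ => F.not_dvd_25 ⟨l, by rw [hk, hl]; ring⟩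
  have hy5 : Nat.card (Subgroup.zpowers y) = 5 ^ (Nat.card G).factorization 5 := by
    rw [Nat.card_zpowers, F.y_ord, hk, Nat.factorization_mul (by norm_num) (fun e => hk5 (by rw [e]; exact dvd_zero 5)),
      Finsupp.add_apply, Nat.Prime.factorization_self (by decide : Nat.Prime 5),
      Nat.factorization_eq_zero_of_not_dvd hk5, add_zero, pow_one]
  obtain ⟨T2, hT2⟩ := (IsPGroup.of_card (p := 5) (n := 1)
    (by rw [Nat.card_zpowers, hf, pow_one] : Nat.card (Subgroup.zpowers f) = 5 ^ 1)).exists_le_sylow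
  obtain ⟨b, hbT⟩ := MulAction.exists_smul_eq G T2 (Sylow.ofCard _ hy5)
  have hmem : b * f * b⁻¹ ∈ ((Sylow.ofCard _ hy5 : Sylow 5 G) : Subgroup G) := by
    rw [← hbT, Sylow.coe_subgroup_smul]
    exact ⟨_, hT2 (Subgroup.mem_zpowers _), rfl⟩
  rw [Sylow.coe_ofCard] at hmem
  have hle : Subgroup.zpowers (b * f * b⁻¹) = Subgroup.zpowers y := by
    refine Subgroup.eq_of_le_of_card_ge (Subgroup.zpowers_le.2 hmem) ?_
    rw [Nat.card_zpowers, Nat.card_zpowers, F.y_ord, ← hf]
    exact (orderOf_injective (MulAut.conj b).toMonoidHom (MulAut.conj b).injective f).ge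
  rw [← F.cent_y.1, Char.card_centralizer_eq_of_isConj (isConj_iff.2 ⟨b, rfl⟩ : IsConj f (b * f * b⁻¹))]
  have hsc : ∀ a : G, Subgroup.centralizer ({a} : Set G) = Subgroup.centralizer (Subgroup.zpowers a : Set G) := by
    intro a
    refine le_antisymm (fun g hg => ?_) (Subgroup.centralizer_le (Set.singleton_subset_iff.2 (Subgroup.mem_zpowers a)))
    refine Subgroup.mem_centralizer_iff.2 fun z hz => ?_
    obtain ⟨j, rfl⟩ := Subgroup.mem_zpowers_iff.1 hz
    exact ((show Commute g a from Subgroup.mem_centralizer_singleton_iff.1 hg).zpow_right j).eq.symm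
  rw [hsc, hsc y, hle]

/-- An element of large prime order commutes with no involution and no element of order 5. -/
theorem Data.cent_coprime (D : Data t E K C) {x y w s : G} (F : Five t x y w s E K C) {p : ℕ} [Fact p.Prime]
    (hp : 5 < p) (P : Sylow p G) (hP : Nat.card P = p) :
    ¬ 2 ∣ Nat.card (Subgroup.centralizer ((P : Subgroup G) : Set G)) ∧
    ¬ 5 ∣ Nat.card (Subgroup.centralizer ((P : Subgroup G) : Set G)) := by
  have := Fintype.ofFinite G
  obtain ⟨⟨a, ha⟩, hao⟩ := exists_prime_orderOf_dvd_card' (G := (P : Subgroup G)) p (dvd_of_eq hP.symm)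
  rw [Subgroup.orderOf_mk] at hao
  have key : ∀ q : ℕ, q.Prime → (∀ b : G, orderOf b = q → ¬ p ∣ Nat.card (Subgroup.centralizer ({b} : Set G))) →
      ¬ q ∣ Nat.card (Subgroup.centralizer ((P : Subgroup G) : Set G)) := by
    intro q hq hb hdvd
    haveI := Fact.mk hq
    obtain ⟨⟨b, hbc⟩, hbo⟩ := exists_prime_orderOf_dvd_card' (G := Subgroup.centralizer ((P : Subgroup G) : Set G)) q hdvd
    rw [Subgroup.orderOf_mk] at hbo
    refine hb b hbo (hao ▸ Subgroup.orderOf_dvd_natCard _ ?_)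
    rw [Subgroup.mem_centralizer_singleton_iff]
    exact Subgroup.mem_centralizer_iff.1 hbc a ha
  have hp3 : ∀ d : ℕ, (∀ r ∈ d.primeFactorsList, r ≤ 5) → 0 < d → ¬ p ∣ d := fun d hd h0 h => by
    have := hd p ((Nat.mem_primeFactorsList h0.ne').2 ⟨Fact.out, h⟩)
    omega
  refine ⟨key 2 Nat.prime_two fun b hb => ?_, key 5 (by norm_num) fun b hb => ?_⟩
  · obtain ⟨g, hg⟩ := isConj_iff.1 (D.one b hb)
    rw [Char.card_centralizer_eq_of_isConj (isConj_iff.2 ⟨g, hg⟩ : IsConj b t), ← D.C_eq, D.core.card_C]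
    exact hp3 _ (by simp) (by norm_num)
  · rw [D.five_conj_cent F hb]
    exact hp3 _ (by simp) (by norm_num)

theorem Data.card_eq (D : Data t E K C) (hs : IsSimpleGroup G) : Nat.card G = 50232960 := by
  obtain ⟨x, y, w, s, F⟩ := D.exists_Five
  obtain ⟨dn, sn, h0, h1, hd, hd', hb, heq⟩ := F.order_equation
  have h128 := D.two_part
  have h1080 : 1080 ∣ Nat.card G :=
    F.three.card_M ▸ Subgroup.card_subgroup_dvd_card (Subgroup.centralizer ({x} : Set G))
  have h17280 : 17280 ∣ Nat.card G :=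
    Nat.Coprime.mul_dvd_of_dvd_of_dvd (m := 128) (n := 135) (by norm_num) h128.1 (dvd_trans (by norm_num) h1080)
  rcases order_cases Nat.card_pos h0 h1 hd hd' hb heq h17280 h128.2 F.not_dvd_25 with h | h | h
  · exact h
  · exfalso
    haveI : Fact (Nat.Prime 73) := ⟨by norm_num⟩
    obtain ⟨P⟩ : Nonempty (Sylow 73 G) := inferInstance
    have hG : Nat.card G = 73 * 708480 := by rw [h]
    obtain ⟨n, d, hn, hn1, hn2, hd73, -, -, hnc⟩ := sylow_numbers hs hG (by norm_num) (by norm_num) P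
    obtain ⟨-, h5⟩ := D.cent_coprime F (by norm_num) P (sylow_card_prime hG (by norm_num) P)
    obtain ⟨i, j, k, hi, hj, hk, rfl⟩ :=
      dvd_three (a := 128) (b := 27) (c := 205) (by norm_num) (by norm_num) (by norm_num) (by simpa using hn)
    have hv := (divs73 i hi j hj k hk hn1).resolve_left hn2
    rw [hv, h] at hnc
    generalize Nat.card (Subgroup.centralizer ((P : Subgroup G) : Set G)) = c at h5 hnc
    have hcd : c * d = 1095 := by omega
    exact h5 ((Nat.Coprime.coprime_dvd_right hd73 (by norm_num : Nat.Coprime 5 72)).dvd_of_dvd_mul_right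
      (by rw [hcd]; norm_num))
  · exfalso
    haveI : Fact (Nat.Prime 83) := ⟨by norm_num⟩
    obtain ⟨P⟩ : Nonempty (Sylow 83 G) := inferInstance
    have hG : Nat.card G = 83 * 639360 := by rw [h]
    obtain ⟨n, d, hn, hn1, hn2, hd83, -, -, hnc⟩ := sylow_numbers hs hG (by norm_num) (by norm_num) P
    obtain ⟨h2, -⟩ := D.cent_coprime F (by norm_num) P (sylow_card_prime hG (by norm_num) P)
    obtain ⟨i, j, k, hi, hj, hk, rfl⟩ :=
      dvd_three (a := 128) (b := 27) (c := 185) (by norm_num) (by norm_num) (by norm_num) (by simpa using hn)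
    have hd4 : d ∈ ({1, 2, 41, 82} : Finset ℕ) := by
      have := Nat.mem_divisors.2 ⟨hd83, (by norm_num : (83 - 1 : ℕ) ≠ 0)⟩
      rwa [show Nat.divisors (83 - 1) = {1, 2, 41, 82} by decide] at this
    simp only [Finset.mem_insert, Finset.mem_singleton] at hd4
    refine h2 ?_
    generalize Nat.card (Subgroup.centralizer ((P : Subgroup G) : Set G)) = c at hnc ⊢
    rcases (divs83 i hi j hj k hk hn1).resolve_left hn2 with hv | hv <;> rw [hv, h] at hnc <;>
      rcases hd4 with rfl | rfl | rfl | rfl <;> omega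

end CfsgLib.J3Type
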