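import Cfsg.Agent.Lib.J3Type.Five
import Cfsg.Agent.Lib.J3Type.FiveChar
import Cfsg.Agent.Lib.ZStar.Eight

/-!
One class of involutions with centraliser `2^(1+4).A₅`: the equation for the order.
-/

set_option autoImplicit false

open scoped Classical ComplexConjugate

namespace CfsgLib.J3Type

open Cfsg CfsgLib.Char CfsgLib.J2Order

variable {G : Type*} [Group G] [Finite G] {t x y w s : G} {E K C : Subgroup G}

local notation "M₆₀" => DihedralGroup 5 × DihedralGroup 3

namespace Five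

variable (F : Five t x y w s E K C)
include F

/-- The equation for the degrees of the two nontrivial constituents. -/
theorem order_equation : ∃ dn sn : ℤ, dn ≠ 0 ∧ dn + 1 ≠ 0 ∧ dn ∣ (Nat.card G : ℤ) ∧
    dn + 1 ∣ (Nat.card G : ℤ) ∧ 1 + sn ^ 2 + (sn + 1) ^ 2 ≤ 1920 ∧
    (Nat.card G : ℤ) * (dn - sn) ^ 2 = 49152000 * (dn * (dn + 1)) := by
  letI : Fintype G := Fintype.ofFinite G
  obtain ⟨φ, hinj, hrange, hrot⟩ := F.exists_norm
  set N := Subgroup.normalizer (Subgroup.zpowers y : Set G) with hN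
  let e : M₆₀ ≃* N := (MonoidHom.ofInjective hinj).trans (MulEquiv.subgroupCongr hrange)
  have he : ∀ m, ((e m : N) : G) = φ m := fun m => rfl
  let a : N → ℂ := fun n => aSixty (e.symm n)
  have hae : ∀ m, a (e m) = aSixty m := fun m => by simp [a]
  have hgen : IsGeneralizedCharacter N a := isGeneralized_comp e.symm.toMonoidHom aSixty_gen
  have hcls := isClassFunction_of_isGeneralized hgen
  have ha1 : a 1 = 0 := by
    show aFive (e.symm 1).1 = 0
    rw [map_one, Prod.fst_one]
    exact aFive_one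
  -- an element mapping a rotation into `⟨y⟩` normalises it
  have hmemN : ∀ (g : G) (k : ZMod 5), k ≠ 0 → g * φ (DihedralGroup.r k, 1) * g⁻¹ ∈ Subgroup.zpowers y →
      g ∈ N := by
    intro g k hk hg
    set z := φ (DihedralGroup.r k, 1) with hz
    have hz1 : z ≠ 1 := fun h => hk (by
      have := congrArg Prod.fst (hinj (h.trans (map_one φ).symm))
      rw [Prod.fst_one, DihedralGroup.one_def] at this
      injection this)
    have hgen' : ∀ {b : G}, b ∈ Subgroup.zpowers y → b ≠ 1 → Subgroup.zpowers b = Subgroup.zpowers y := by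
      intro b hb hb1
      obtain ⟨i, hi, rfl⟩ := conj_mem_zpowers_pow hb
      refine Subgroup.eq_of_le_of_card_ge (Subgroup.zpowers_le.2 hb) ?_
      rw [Nat.card_zpowers, Nat.card_zpowers, orderOf_pow' y (by rintro rfl; exact hb1 (pow_zero y)), F.y_ord]
      rw [F.y_ord] at hi
      interval_cases i <;> first | exact absurd (pow_zero y) hb1 | norm_num
    have e1 := hgen' (hrot k) hz1
    have e2 := hgen' hg (fun h => hz1 (conj_eq_one_iff.1 h))
    have heq : (Subgroup.zpowers y).map (MulAut.conj g).toMonoidHom = Subgroup.zpowers y := by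
      conv_lhs => rw [← e1]
      rw [MonoidHom.map_zpowers]
      exact e2
    refine Subgroup.mem_normalizer_iff.2 fun p => ⟨fun hp => heq ▸ ⟨p, hp, rfl⟩, fun hp => ?_⟩
    rw [← heq] at hp
    obtain ⟨q, hq, hqe⟩ := hp
    exact (MulAut.conj g).injective hqe ▸ hq
  set T : Set G := φ '' {m | aSixty m ≠ 0} with hT
  have hsix : ∀ m, aSixty m ≠ 0 → ∃ k : ZMod 5, k ≠ 0 ∧ φ m ^ 6 = φ (DihedralGroup.r k, 1) := by
    intro m hm
    obtain ⟨k, hk, hk'⟩ := six_pow hm
    exact ⟨k, hk, by rw [← map_pow, hk']⟩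
  have hTI : ∀ g : G, g ∉ N → ∀ p ∈ T, g * p * g⁻¹ ∈ T → p = 1 := by
    rintro g hg _ ⟨m, hm, rfl⟩ ⟨m', hm', hmm⟩
    exfalso
    obtain ⟨k, hk, hk6⟩ := hsix m hm
    obtain ⟨k', -, hk'6⟩ := hsix m' hm'
    refine hg (hmemN g k hk ?_)
    rw [← hk6, ← conj_pow, ← hmm, hk'6]
    exact hrot k'
  have hvan : ∀ n : N, (n : G) ∉ T → a n = 0 := by
    intro n hn
    by_contra hne
    exact hn ⟨e.symm n, hne, by rw [← he, MulEquiv.apply_symm_apply]⟩
  set A := indFun N a with hA
  have hAgen : IsGeneralizedCharacter G A := isGeneralized_indFun N hgen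
  have hnorm : classInner A A = 3 := by
    rw [hA, classInner_indFun_of_ti N T hTI a a hcls hvan hvan ha1,
      ← classInner_comp_equiv e (fun n => a n) (fun n => a n)]
    simp only [hae]
    exact aSixty_norm
  have htriv : classInner A (fun _ => 1) = 1 := by
    rw [hA, frobenius_reciprocity N a (fun _ _ => rfl),
      ← classInner_comp_equiv e (fun n => a n) (fun _ => 1)]
    simp only [hae]
    exact aSixty_triv
  have hA1 : A 1 = 0 := by rw [hA, indFun_one, ha1, mul_zero]
  have ht2 : t * t = 1 := F.D.S.z_sq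
  have hext : ∀ m, extendByZero N a (φ m) = aSixty m := fun m => by rw [← he, extendByZero_coe, hae]
  have hNφ : ∀ {z : G}, z ∈ N → ∃ m, φ m = z := fun {z} hz =>
    ⟨e.symm ⟨z, hz⟩, by rw [← he, MulEquiv.apply_symm_apply]⟩
  have hAt : A t = 0 := by
    rw [hA, indFun]
    refine mul_eq_zero_of_right _ (Finset.sum_eq_zero fun g _ => ?_)
    by_cases hmem : g⁻¹ * t * g ∈ N
    · obtain ⟨m, hm⟩ := hNφ hmem
      rw [← hm, hext]
      refine aSixty_invol (hinj ?_)
      rw [map_mul, map_one, hm, show g⁻¹ * t * g * (g⁻¹ * t * g) = g⁻¹ * (t * t) * g by group, ht2]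
      group
    · exact extendByZero_notMem N a hmem
  -- the expansion
  set c : IrrCharacter G → ℤ := fun χ =>
    (exists_int_classInner hAgen (isGeneralized_of_isIrr χ.2)).choose with hc
  have hcs : ∀ χ : IrrCharacter G, classInner A (χ : G → ℂ) = (c χ : ℂ) := fun χ =>
    (exists_int_classInner hAgen (isGeneralized_of_isIrr χ.2)).choose_spec
  have hexp : A = ∑ χ : IrrCharacter G, (c χ : ℂ) • (χ : G → ℂ) := by
    conv_lhs => rw [classFunction_expansion (f := A) (isClassFunction_indFun N _)]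
    exact Finset.sum_congr rfl fun χ _ => by rw [hcs]
  set one : IrrCharacter G := ⟨fun _ => 1, isIrrCharacter_one⟩ with hone
  have hc1 : c one = 1 := by
    have h := hcs one
    rw [show ((one : IrrCharacter G) : G → ℂ) = fun _ => (1 : ℂ) from rfl, htriv] at h
    exact_mod_cast h.symm
  have hsq : ∑ χ : IrrCharacter G, c χ ^ 2 = 3 := by
    have h := sum_sq_coeff c
    rw [← hexp, hnorm] at h
    exact_mod_cast h.symm
  set R := (Finset.univ.erase one).filter fun χ => c χ ≠ 0 with hR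
  have hR2 : ∑ χ ∈ R, c χ ^ 2 = 2 := by
    rw [hR, Finset.sum_filter_of_ne (p := fun χ => c χ ≠ 0) (fun χ _ h e => h (by rw [e]; norm_num))]
    have := Finset.add_sum_erase Finset.univ (fun χ => c χ ^ 2) (Finset.mem_univ one)
    rw [hsq, hc1] at this
    linarith
  have habs : ∀ χ ∈ R, c χ = 1 ∨ c χ = -1 := by
    intro χ hχ
    have h1 : c χ ^ 2 ≤ 2 := hR2 ▸ Finset.single_le_sum (fun χ _ => sq_nonneg (c χ)) hχ
    have h0 := (Finset.mem_filter.1 hχ).2
    have : -2 < c χ ∧ c χ < 2 := ⟨by nlinarith, by nlinarith⟩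
    omega
  have hRc : R.card = 2 := by
    have h : ∑ χ ∈ R, c χ ^ 2 = ∑ χ ∈ R, 1 := Finset.sum_congr rfl fun χ hχ => by
      rcases habs χ hχ with h | h <;> rw [h] <;> norm_num
    rw [hR2, Finset.sum_const, nsmul_eq_mul, mul_one] at h
    exact_mod_cast h.symm
  obtain ⟨X, Y, hXY, hRXY⟩ := Finset.card_eq_two.1 hRc
  have hXR : X ∈ R := by simp [hRXY]
  have hYR : Y ∈ R := by simp [hRXY]
  have hX1 : X ≠ one := (Finset.mem_erase.1 (Finset.mem_filter.1 hXR).1).1
  have hY1 : Y ≠ one := (Finset.mem_erase.1 (Finset.mem_filter.1 hYR).1).1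
  have hsum3 : ∀ f : IrrCharacter G → ℂ, ∑ χ, (c χ : ℂ) * f χ =
      f one + ((c X : ℂ) * f X + (c Y : ℂ) * f Y) := by
    intro f
    rw [← Finset.add_sum_erase _ _ (Finset.mem_univ one), hc1, Int.cast_one, one_mul,
      ← Finset.sum_filter_of_ne (p := fun χ => c χ ≠ 0) (fun χ _ h e => h (by rw [e]; simp)), ← hR, hRXY,
      Finset.sum_pair hXY]
  have hval : ∀ g : G, A g = 1 + ((c X : ℂ) * (X : G → ℂ) g + (c Y : ℂ) * (Y : G → ℂ) g) := by
    intro g
    rw [hexp, Finset.sum_apply]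
    simp only [Pi.smul_apply, smul_eq_mul]
    exact hsum3 fun χ => (χ : G → ℂ) g
  obtain ⟨dX, hdX, hdX0, hdXg⟩ := exists_degree_dvd_card X.2
  obtain ⟨dY, hdY, hdY0, hdYg⟩ := exists_degree_dvd_card Y.2
  obtain ⟨sX, hsX⟩ := ZStar.exists_int_value_involution (χ := X) ht2
  obtain ⟨sY, hsY⟩ := ZStar.exists_int_value_involution (χ := Y) ht2
  have hd : (0 : ℤ) = 1 + (c X * dX + c Y * dY) := by
    have h := hval 1
    rw [hA1, hdX, hdY] at h
    exact_mod_cast h
  have hs : (0 : ℤ) = 1 + (c X * sX + c Y * sY) := by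
    have h := hval t
    rw [hAt, hsX, hsY] at h
    exact_mod_cast h
  -- the centraliser bound
  have hCt : Nat.card (Subgroup.centralizer ({t} : Set G)) = 1920 := by
    rw [← F.D.C_eq]; exact F.D.core.card_C
  have hbound : 1 + sX ^ 2 + sY ^ 2 ≤ 1920 := by
    have hcol := column_orthogonality t t
    rw [if_pos (IsConj.refl t), hCt] at hcol
    choose v hv using fun χ : IrrCharacter G => ZStar.exists_int_value_involution (χ := χ) ht2
    simp only [hv, map_intCast] at hcol
    have hcol' : ∑ χ : IrrCharacter G, v χ * v χ = 1920 := by exact_mod_cast hcol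
    have hle := Finset.sum_le_sum_of_subset_of_nonneg
      (s := ({one, X, Y} : Finset (IrrCharacter G))) (t := Finset.univ) (f := fun χ => v χ * v χ)
      (Finset.subset_univ _) (fun χ _ _ => mul_self_nonneg (v χ))
    rw [Finset.sum_insert (by simp [hX1.symm, hY1.symm]), Finset.sum_pair hXY, hcol'] at hle
    have h1 : v one = 1 := by
      have h := hv one
      rw [show ((one : IrrCharacter G) : G → ℂ) t = 1 from rfl] at h
      exact_mod_cast h.symm
    have hvX : v X = sX := by exact_mod_cast (hv X).symm.trans hsX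
    have hvY : v Y = sY := by exact_mod_cast (hv Y).symm.trans hsY
    rw [h1, hvX, hvY] at hle
    linarith
  -- the sum over pairs of involutions
  set I := Finset.univ.filter fun z : G => IsConj z t with hI
  have hImem : ∀ {z : G}, z ∈ I ↔ z * z = 1 ∧ z ≠ 1 := by
    intro z
    rw [hI, Finset.mem_filter]
    constructor
    · rintro ⟨-, h⟩
      obtain ⟨b, hb⟩ := isConj_iff.1 h.symm
      rw [← hb]
      exact ⟨conj_sq_one ht2, fun e => F.D.S.z_ne (conj_eq_one_iff.1 e)⟩
    · rintro ⟨h, h1⟩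
      exact ⟨Finset.mem_univ _, F.D.one z (orderTwo_of h1 h)⟩
  have hS : ∑ p ∈ I ×ˢ I, extendByZero N a (p.1 * p.2) = 800 := by
    rw [← sum_pairs]
    let f : M₆₀ × M₆₀ → G × G := fun q => (φ q.1, φ q.2)
    have hf : ∀ q, f q = (φ q.1, φ q.2) := fun q => rfl
    rw [← Finset.sum_subset (s₁ := (invols60 ×ˢ invols60).image f), Finset.sum_image]
    · exact Finset.sum_congr rfl fun q _ => by rw [hf, ← map_mul, hext]
    · intro q _ q' _ h
      exact Prod.ext (hinj (congrArg Prod.fst h)) (hinj (congrArg Prod.snd h))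
    · intro p hp
      obtain ⟨⟨m, m'⟩, hm, rfl⟩ := Finset.mem_image.1 hp
      simp only [invols60, Finset.mem_product, Finset.mem_filter, Finset.mem_univ, true_and] at hm
      refine Finset.mem_product.2 ⟨hImem.2 ⟨?_, ?_⟩, hImem.2 ⟨?_, ?_⟩⟩
      · show φ m * φ m = 1
        rw [← map_mul, hm.1.1, map_one]
      · exact fun h => hm.1.2 (hinj (h.trans (map_one φ).symm))
      · show φ m' * φ m' = 1
        rw [← map_mul, hm.2.1, map_one]
      · exact fun h => hm.2.2 (hinj (h.trans (map_one φ).symm))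
    · rintro ⟨p, q⟩ hp hnot
      obtain ⟨hpI, hqI⟩ := Finset.mem_product.1 hp
      obtain ⟨hp2, hp1⟩ := hImem.1 hpI
      obtain ⟨hq2, hq1⟩ := hImem.1 hqI
      by_contra hne
      simp only at hne
      have hpq : p * q ∈ N := by
        by_contra h
        exact hne (extendByZero_notMem N a h)
      obtain ⟨m, hm⟩ := hNφ hpq
      rw [← hm, hext] at hne
      obtain ⟨k, hk, hk6⟩ := hsix m hne
      have hpi : p⁻¹ = p := inv_eq_of_mul_eq_one_right hp2
      have hqi : q⁻¹ = q := inv_eq_of_mul_eq_one_right hq2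
      have hinvert : p * (p * q) * p⁻¹ = (p * q)⁻¹ := by
        rw [mul_inv_rev, hpi, hqi, ← mul_assoc p p q, hp2, one_mul]
      have hpN : p ∈ N := hmemN p k hk (by
        rw [← hk6, hm, ← conj_pow, hinvert, inv_pow, ← hm, hk6]
        exact Subgroup.inv_mem _ (hrot k))
      obtain ⟨mp, hmp⟩ := hNφ hpN
      obtain ⟨mq, hmq⟩ := hNφ (show q ∈ N by
        have := N.mul_mem (N.inv_mem hpN) hpq
        rwa [inv_mul_cancel_left] at this)
      refine hnot (Finset.mem_image.2 ⟨(mp, mq), ?_, ?_⟩)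
      · simp only [invols60, Finset.mem_product, Finset.mem_filter, Finset.mem_univ, true_and]
        exact ⟨⟨hinj (by rw [map_mul, map_one, hmp, hp2]), fun h => hp1 (by rw [← hmp, h, map_one])⟩,
          hinj (by rw [map_mul, map_one, hmq, hq2]), fun h => hq1 (by rw [← hmq, h, map_one])⟩
      · rw [hf, hmp, hmq]
  have hIconj : ∀ g z : G, z ∈ I → g * z * g⁻¹ ∈ I := fun g z hz => by
    obtain ⟨h2, h1⟩ := hImem.1 hz
    exact hImem.2 ⟨conj_sq_one h2, fun e => h1 (conj_eq_one_iff.1 e)⟩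
  have hleft : ∑ p ∈ I ×ˢ I, A (p.1 * p.2) = (60 : ℂ)⁻¹ * ((Nat.card G : ℂ) * 800) := by
    have hNc : Nat.card N = 60 := by
      rw [← Nat.card_congr e.toEquiv, Nat.card_prod, DihedralGroup.nat_card, DihedralGroup.nat_card]
    simp only [hA, indFun, hNc, ← Finset.mul_sum]
    rw [Finset.sum_comm]
    congr 1
    rw [Finset.sum_congr rfl (g := fun _ => (800 : ℂ)), Finset.sum_const, nsmul_eq_mul, Finset.card_univ,
      Nat.card_eq_fintype_card]
    intro g _
    rw [← hS]
    refine Finset.sum_bij' (fun p _ => (g⁻¹ * p.1 * g, g⁻¹ * p.2 * g))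
      (fun p _ => (g * p.1 * g⁻¹, g * p.2 * g⁻¹)) ?_ ?_ ?_ ?_ ?_
    · intro p hp
      obtain ⟨h1, h2⟩ := Finset.mem_product.1 hp
      refine Finset.mem_product.2 ⟨?_, ?_⟩
      · simpa using hIconj g⁻¹ _ h1
      · simpa using hIconj g⁻¹ _ h2
    · intro p hp
      obtain ⟨h1, h2⟩ := Finset.mem_product.1 hp
      exact Finset.mem_product.2 ⟨hIconj g _ h1, hIconj g _ h2⟩
    · intro p _; exact Prod.ext (by group) (by group)
    · intro p _; exact Prod.ext (by group) (by group)
    · intro p _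
      congr 1
      group
  have hright : ∀ χ : IrrCharacter G, ∑ p ∈ I ×ˢ I, (χ : G → ℂ) (p.1 * p.2) =
      omega (χ : G → ℂ) t * omega (χ : G → ℂ) t * (χ : G → ℂ) 1 := by
    intro χ
    obtain ⟨n, ρ, hρ, e'⟩ := χ.2
    rw [← e', ← sum_char_mul ρ t t, Finset.sum_product, hI]
  have hKc : ((Subgroup.centralizer ({t} : Set G)).index : ℂ) * 1920 = (Nat.card G : ℂ) := by
    have h := Subgroup.card_mul_index (Subgroup.centralizer ({t} : Set G))
    rw [hCt] at h
    rw [← h]
    push_cast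
    ring
  have heq : (60 : ℂ)⁻¹ * ((Nat.card G : ℂ) * 800) =
      ((Subgroup.centralizer ({t} : Set G)).index : ℂ) ^ 2 *
        (1 + ((c X : ℂ) * ((sX : ℂ) ^ 2 / dX) + (c Y : ℂ) * ((sY : ℂ) ^ 2 / dY))) := by
    rw [← hleft, hexp]
    simp only [Finset.sum_apply, Pi.smul_apply, smul_eq_mul]
    rw [Finset.sum_comm]
    simp only [← Finset.mul_sum, hright]
    rw [hsum3, show ((one : IrrCharacter G) : G → ℂ) = fun _ => (1 : ℂ) from rfl]
    simp only [omega, hsX, hsY, hdX, hdY]
    have hX0 : (dX : ℂ) ≠ 0 := Nat.cast_ne_zero.mpr hdX0.ne'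
    have hY0 : (dY : ℂ) ≠ 0 := Nat.cast_ne_zero.mpr hdY0.ne'
    field_simp
  set idx := (Subgroup.centralizer ({t} : Set G)).index with hidx
  have hgK : (Nat.card G : ℤ) = 1920 * idx := by
    have h : (Nat.card G : ℂ) = (((1920 * idx : ℤ)) : ℂ) := by push_cast; rw [← hKc]; ring
    exact_mod_cast h
  have hidx0 : (idx : ℤ) ≠ 0 := by
    rw [hidx]; exact_mod_cast Subgroup.index_ne_zero_of_finite
  have heqZ : (40 : ℤ) * Nat.card G * (dX * dY) =
      3 * (idx : ℤ) ^ 2 * (dX * dY + c X * sX ^ 2 * dY + c Y * sY ^ 2 * dX) := by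
    have hX0 : (dX : ℂ) ≠ 0 := Nat.cast_ne_zero.mpr hdX0.ne'
    have hY0 : (dY : ℂ) ≠ 0 := Nat.cast_ne_zero.mpr hdY0.ne'
    field_simp at heq
    have : ((40 * Nat.card G * (dX * dY) : ℤ) : ℂ) =
        ((3 * (idx : ℤ) ^ 2 * (dX * dY + c X * sX ^ 2 * dY + c Y * sY ^ 2 * dX) : ℤ) : ℂ) := by
      push_cast
      linear_combination (1 / 20 : ℂ) * heq
    exact_mod_cast this
  refine ⟨c X * dX, c X * sX, ?_, ?_, ?_, ?_, ?_, ?_⟩
  · rcases habs X hXR with h | h <;> rw [h] <;> simp <;> omega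
  · rw [show c X * (dX : ℤ) + 1 = -(c Y * dY) by linarith]
    rcases habs Y hYR with h | h <;> rw [h] <;> simp <;> omega
  · rcases habs X hXR with h | h <;> rw [h] <;> simpa using Int.natCast_dvd_natCast.2 hdXg
  · rw [show c X * (dX : ℤ) + 1 = -(c Y * dY) by linarith]
    rcases habs Y hYR with h | h <;> rw [h] <;> simpa using Int.natCast_dvd_natCast.2 hdYg
  · rw [show c X * sX + 1 = -(c Y * sY) by linarith]
    rcases habs X hXR with h | h <;> rcases habs Y hYR with h' | h' <;> rw [h, h'] <;> linarith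
  · have hX2 : c X * c X = 1 := by rcases habs X hXR with h | h <;> rw [h] <;> norm_num
    have hY2 : c Y * c Y = 1 := by rcases habs Y hYR with h | h <;> rw [h] <;> norm_num
    have h5 : (1 : ℤ) + c X * dX = -(c Y * dY) := by linarith
    have h6 : (1 : ℤ) + c X * sX = -(c Y * sY) := by linarith
    rw [hgK] at heqZ ⊢
    refine mul_left_cancel₀ (mul_ne_zero (show (3 : ℤ) ≠ 0 by norm_num) hidx0) ?_
    grind

end Five

end CfsgLib.J3Type
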