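import Mathlib.FieldTheory.Finite.GaloisField
import Mathlib.GroupTheory.Index
import Mathlib.GroupTheory.Subgroup.Centralizer
import Mathlib.RingTheory.IntegralDomain

/-!
An abelian group regular on the nontrivial elements of an elementary abelian 2-group gives a field.
-/

set_option autoImplicit false
set_option linter.style.haveILetI false

namespace CfsgLib.J3Type

universe u

variable {G : Type u} [Group G] [Finite G]

theorem exists_field (A T : Subgroup G) (n : ℕ) (hn : n ≠ 0) (hA : Nat.card A = 2 ^ n)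
    (hA2 : ∀ a ∈ A, a * a = 1) (hTc : ∀ c ∈ T, ∀ d ∈ T, c * d = d * c)
    (hnorm : ∀ d ∈ T, ∀ a ∈ A, d * a * d⁻¹ ∈ A) {v : G} (hv : v ∈ A) (hv1 : v ≠ 1)
    (htr : ∀ a ∈ A, a ≠ 1 → ∃ d ∈ T, d * v * d⁻¹ = a) (hfree : ∀ d ∈ T, d * v = v * d → d = 1) :
    ∃ (F : Type) (_ : Field F) (_ : Fintype F) (_ : CharP F 2) (ψ τ : F → G),
      Fintype.card F = 2 ^ n ∧ Function.Injective ψ ∧ (∀ x, ψ x ∈ A) ∧ (∀ a ∈ A, ∃ x, ψ x = a) ∧
      (∀ x y, ψ (x + y) = ψ x * ψ y) ∧ ψ 1 = v ∧ (∀ c, c ≠ 0 → τ c ∈ T) ∧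
      (∀ d ∈ T, ∃ c, c ≠ 0 ∧ τ c = d) ∧ (∀ c d, c ≠ 0 → d ≠ 0 → τ (c * d) = τ c * τ d) ∧
      ∀ c x, c ≠ 0 → τ c * ψ x * (τ c)⁻¹ = ψ (c * x) := by
  classical
  haveI : Fact (Nat.Prime 2) := ⟨Nat.prime_two⟩
  have hcomm : ∀ a ∈ A, ∀ b ∈ A, a * b = b * a := fun a ha b hb => by
    calc a * b = (a * b)⁻¹ := (inv_eq_of_mul_eq_one_right (hA2 _ (A.mul_mem ha hb))).symm
      _ = b * a := by
        rw [mul_inv_rev, inv_eq_of_mul_eq_one_right (hA2 a ha), inv_eq_of_mul_eq_one_right (hA2 b hb)]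
  let _ : CommGroup A :=
    { (inferInstance : Group A) with mul_comm := fun a b => Subtype.ext (hcomm a a.2 b b.2) }
  let V := Additive A
  let c : T → AddMonoid.End V := fun d =>
    AddMonoidHom.mk' (fun a => Additive.ofMul ⟨(d : G) * (a.toMul : G) * (d : G)⁻¹,
        hnorm d d.2 _ a.toMul.2⟩)
      fun a b => Subtype.ext (show (d : G) * ((a.toMul : G) * (b.toMul : G)) * (d : G)⁻¹ =
        ((d : G) * (a.toMul : G) * (d : G)⁻¹) * ((d : G) * (b.toMul : G) * (d : G)⁻¹) by group)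
  let t₀ : V := Additive.ofMul ⟨v, hv⟩
  have hne : ∀ {a : V}, a ≠ 0 → (a.toMul : G) ≠ 1 := fun {a} h h' => h (Subtype.ext h')
  have ht₀ : t₀ ≠ 0 := fun h => hv1 (congrArg (fun a : V => ((a.toMul : A) : G)) h)
  have htr' : ∀ a : V, a ≠ 0 → ∃ d, c d t₀ = a := fun a ha => by
    obtain ⟨d, hd, h⟩ := htr _ a.toMul.2 (hne ha)
    exact ⟨⟨d, hd⟩, Subtype.ext h⟩
  have hcc : ∀ d e : T, c d * c e = c e * c d := fun d e => by
    refine AddMonoidHom.ext fun a => Subtype.ext ?_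
    show (d : G) * ((e : G) * (a.toMul : G) * (e : G)⁻¹) * (d : G)⁻¹ =
      (e : G) * ((d : G) * (a.toMul : G) * (d : G)⁻¹) * (e : G)⁻¹
    rw [show (d : G) * ((e : G) * (a.toMul : G) * (e : G)⁻¹) * (d : G)⁻¹ =
      ((d : G) * e) * (a.toMul : G) * ((d : G) * e)⁻¹ by group, hTc d d.2 e e.2]
    group
  let K : Subring (AddMonoid.End V) := Subring.centralizer (Set.range c)
  have hcK : ∀ d, c d ∈ K := fun d => Subring.mem_centralizer_iff.mpr (by
    rintro _ ⟨e, rfl⟩; exact hcc e d)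
  have hev : ∀ φ : K, φ.1 t₀ = 0 → φ = 0 := fun φ hφ => by
    refine Subtype.ext (AddMonoidHom.ext fun a => ?_)
    by_cases ha : a = 0
    · rw [ha]; exact map_zero φ.1
    · obtain ⟨d, rfl⟩ := htr' a ha
      show (φ.1 * c d) t₀ = 0
      rw [← Subring.mem_centralizer_iff.mp φ.2 _ ⟨d, rfl⟩]
      show c d (φ.1 t₀) = 0
      rw [hφ, map_zero]
  have hshape : ∀ φ : K, φ = 0 ∨ ∃ d, φ.1 = c d := fun φ => by
    by_cases h : φ.1 t₀ = 0
    · exact Or.inl (hev φ h)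
    · obtain ⟨d, hd⟩ := htr' _ h
      have := hev (φ - ⟨c d, hcK d⟩) (by show φ.1 t₀ - c d t₀ = 0; rw [hd, sub_self])
      exact Or.inr ⟨d, congrArg Subtype.val (sub_eq_zero.mp this)⟩
  haveI : Nontrivial K := ⟨⟨0, 1, fun h => ht₀ (congrArg (fun φ : K => φ.1 t₀) h).symm⟩⟩
  haveI : Finite (AddMonoid.End V) := Finite.of_injective (fun f : AddMonoid.End V => (f : V → V))
    fun f g h => AddMonoidHom.ext fun a => congrFun h a
  haveI : NoZeroDivisors K := ⟨fun {φ χ} h => by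
    rcases hshape φ with h0 | ⟨d, hd⟩
    · exact Or.inl h0
    right
    refine hev χ (?_ : χ.1 t₀ = 0)
    have h1 : c d (χ.1 t₀) = 0 := hd ▸ congrArg (fun f : K => f.1 t₀) h
    by_contra h2
    exact hne h2 (conj_eq_one_iff.1
      (congrArg (fun a : V => ((a.toMul : A) : G)) h1))⟩
  let _ : CommRing K :=
    { (inferInstance : Ring K) with
      mul_comm := fun φ χ => by
        rcases hshape χ with rfl | ⟨d, hd⟩
        · rw [mul_zero, zero_mul]
        · refine Subtype.ext ?_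
          show φ.1 * χ.1 = χ.1 * φ.1
          rw [hd]
          exact (Subring.mem_centralizer_iff.mp φ.2 _ ⟨d, rfl⟩).symm }
  haveI : IsDomain K := NoZeroDivisors.to_isDomain K
  let _ : Fintype K := Fintype.ofFinite K
  let _ : Field K := Fintype.fieldOfDomain K
  let ev : K →+ V := AddMonoidHom.mk' (fun φ => φ.1 t₀) fun φ χ => rfl
  have hbij : Function.Bijective ev := by
    refine ⟨(injective_iff_map_eq_zero ev).mpr hev, fun a => ?_⟩
    by_cases ha : a = 0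
    · exact ⟨0, ha ▸ map_zero ev⟩
    · obtain ⟨d, hd⟩ := htr' a ha
      exact ⟨⟨c d, hcK d⟩, hd⟩
  let _ : Fintype (GaloisField 2 n) := Fintype.ofFinite _
  have hcard : Fintype.card (GaloisField 2 n) = Fintype.card K := by
    rw [← Nat.card_eq_fintype_card, ← Nat.card_eq_fintype_card, GaloisField.card 2 n hn,
      Nat.card_eq_of_bijective ev hbij]
    exact hA.symm
  let ε : GaloisField 2 n ≃+* K := FiniteField.ringEquivOfCardEq hcard
  let ψ : GaloisField 2 n → G := fun x => ((ev (ε x)).toMul : G)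
  have hψi : Function.Injective ψ := fun x y h => ε.injective (hbij.1 (Additive.toMul.injective (Subtype.ext h)))
  have hψA : ∀ x, ψ x ∈ A := fun x => (ev (ε x)).toMul.2
  have hψ1 : ψ 1 = v := by
    show ((ev (ε 1)).toMul : G) = v
    rw [map_one]
    rfl
  have hψd : ∀ d : T, ∀ x, (d : G) * ψ x * (d : G)⁻¹ = ψ (ε.symm ⟨c d, hcK d⟩ * x) := fun d x => by
    show (d : G) * ((ev (ε x)).toMul : G) * (d : G)⁻¹ = ((ev (ε (ε.symm _ * x))).toMul : G)
    rw [map_mul, RingEquiv.apply_symm_apply]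
    rfl
  have hψ0 : ψ 0 = 1 := by
    show ((ev (ε 0)).toMul : G) = 1
    rw [map_zero, map_zero]; rfl
  have hsurj : ∀ x : GaloisField 2 n, x ≠ 0 → ∃ d : T, ε.symm ⟨c d, hcK d⟩ = x := fun x hx => by
    obtain ⟨d, hd, h⟩ := htr (ψ x) (hψA x) fun e => hx (hψi (e.trans hψ0.symm))
    refine ⟨⟨d, hd⟩, ?_⟩
    have := hψd ⟨d, hd⟩ 1
    rw [mul_one, hψ1] at this
    exact (hψi (h.symm.trans this)).symm
  choose τ hτ using hsurj
  have huniq : ∀ d e : T, ε.symm ⟨c d, hcK d⟩ = ε.symm ⟨c e, hcK e⟩ → d = e := fun d e h => by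
    have h1 := hψd d 1
    have h2 := hψd e 1
    rw [mul_one, hψ1] at h1 h2
    rw [h, ← h2] at h1
    refine Subtype.ext (inv_mul_eq_one.1 (hfree _ (T.mul_mem (T.inv_mem e.2) d.2) ?_)).symm
    calc (e : G)⁻¹ * d * v = (e : G)⁻¹ * ((d : G) * v * (d : G)⁻¹) * d := by group
      _ = (e : G)⁻¹ * ((e : G) * v * (e : G)⁻¹) * d := by rw [h1]
      _ = v * ((e : G)⁻¹ * d) := by group
  refine ⟨GaloisField 2 n, inferInstance, inferInstance, inferInstance, ψ,
    fun x => if hx : x = 0 then 1 else (τ x hx : G), ?_, hψi, hψA, fun a ha => ?_, fun x y => ?_, hψ1,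
    fun x hx => ?_, fun d hd => ?_, fun x y hx hy => ?_, fun x y hx => ?_⟩
  · rw [← Nat.card_eq_fintype_card, GaloisField.card 2 n hn]
  · obtain ⟨φ, hφ⟩ := hbij.2 (Additive.ofMul ⟨a, ha⟩)
    exact ⟨ε.symm φ, by simp [ψ, hφ]⟩
  · show ((ev (ε (x + y))).toMul : G) = ((ev (ε x) + ev (ε y)).toMul : G)
    rw [map_add, map_add]
  · simp only [dif_neg hx]
    exact (τ x hx).2
  · have hne' : ε.symm ⟨c ⟨d, hd⟩, hcK _⟩ ≠ 0 := fun e => by
      have := hψd ⟨d, hd⟩ 1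
      rw [e, zero_mul, hψ0, hψ1, conj_eq_one_iff] at this
      exact hv1 this
    refine ⟨_, hne', ?_⟩
    simp only [dif_neg hne']
    rw [huniq _ _ (hτ _ hne')]
  · simp only [dif_neg hx, dif_neg hy, dif_neg (mul_ne_zero hx hy)]
    refine congrArg Subtype.val (huniq _ (τ x hx * τ y hy) ?_)
    rw [hτ]
    refine hψi ?_
    have := hψd (τ x hx * τ y hy) 1
    rw [mul_one, hψ1] at this
    rw [← this, Subgroup.coe_mul, show (τ x hx : G) * τ y hy * v * ((τ x hx : G) * τ y hy)⁻¹ =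
      (τ x hx : G) * ((τ y hy : G) * ψ 1 * (τ y hy : G)⁻¹) * (τ x hx : G)⁻¹ by rw [hψ1]; group,
      hψd, hψd, hτ, hτ, mul_one]
  · simp only [dif_neg hx]
    rw [hψd, hτ]

end CfsgLib.J3Type
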