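import Cfsg.Agent.Lib.J3Type.Torus
import Cfsg.Agent.Lib.J3Type.LocalBraid
import Cfsg.Agent.Lib.J3Type.Braid
import Cfsg.Agent.Lib.J3Type.Bruhat
import Cfsg.Agent.Lib.J3Type.TorusField

/-!
A subgroup `SL₂(16):2` in a group with one class of involutions and centraliser `2^(1+4).A₅`.
-/

set_option autoImplicit false
set_option maxHeartbeats 800000

open scoped Classical MatrixGroups

namespace CfsgLib.J3Type

universe u

variable {G : Type u} [Group G]

/-- Adjoining an involution normalising a subgroup. -/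
def adjoin (R : Subgroup G) (σ : G) (hσ : σ * σ = 1) (hn : ∀ x ∈ R, σ * x * σ ∈ R) : Subgroup G where
  carrier := {g | g ∈ R ∨ g * σ ∈ R}
  one_mem' := Or.inl R.one_mem
  mul_mem' := by
    have cancel : ∀ a : G, a * σ * σ = a := fun a => by rw [mul_assoc, hσ, mul_one]
    intro a b ha hb
    rcases ha with ha | ha <;> rcases hb with hb | hb
    · exact Or.inl (R.mul_mem ha hb)
    · exact Or.inr (by rw [mul_assoc]; exact R.mul_mem ha hb)
    · refine Or.inr ?_
      have := R.mul_mem ha (hn b hb)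
      rwa [show a * σ * (σ * b * σ) = (a * σ * σ) * b * σ by simp only [mul_assoc], cancel] at this
    · refine Or.inl ?_
      have := R.mul_mem ha (hn _ hb)
      rwa [show a * σ * (σ * (b * σ) * σ) = (a * σ * σ) * (b * σ * σ) by simp only [mul_assoc], cancel,
        cancel] at this
  inv_mem' := by
    intro a ha
    rcases ha with ha | ha
    · exact Or.inl (R.inv_mem ha)
    · refine Or.inr ?_
      have := hn _ (R.inv_mem ha)
      rwa [show σ * (a * σ)⁻¹ * σ = (σ * σ⁻¹) * a⁻¹ * σ by rw [mul_inv_rev]; simp only [mul_assoc],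
        mul_inv_cancel, one_mul] at this

theorem adjoin_index {R : Subgroup G} {σ : G} (hσ : σ * σ = 1) (hn : ∀ x ∈ R, σ * x * σ ∈ R) (hout : σ ∉ R) :
    (R.subgroupOf (adjoin R σ hσ hn)).Normal ∧ (R.subgroupOf (adjoin R σ hσ hn)).index = 2 := by
  set H := adjoin R σ hσ hn
  have hσH : σ ∈ H := Or.inr (by rw [hσ]; exact R.one_mem)
  have hidx : (R.subgroupOf H).index = 2 := by
    rw [Subgroup.index_eq_two_iff]
    refine ⟨⟨σ, hσH⟩, fun b => ?_⟩
    rcases b.2 with hb | hb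
    · refine Or.inr ⟨hb, fun h => hout ?_⟩
      have h' : (b : G) * σ ∈ R := h
      simpa using R.mul_mem (R.inv_mem hb) h'
    · refine Or.inl ⟨hb, fun h => hout ?_⟩
      have h' : (b : G) ∈ R := h
      simpa using R.mul_mem (R.inv_mem h') hb
  exact ⟨Subgroup.normal_of_index_eq_two hidx, hidx⟩

variable [Finite G]

theorem comm_of_pow_comm {x w : G} {p : ℕ} [Fact p.Prime] (hx : orderOf x = p) {m : ℕ} (hm : ¬ p ∣ m)
    (h : x ^ m * w = w * x ^ m) : x * w = w * x := by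
  obtain ⟨i, hi⟩ := exists_pow_eq_self_of_coprime (x := x) (n := m)
    (by rw [hx]; exact ((Nat.Prime.coprime_iff_not_dvd Fact.out).2 hm).symm)
  rw [← hi]
  exact ((show Commute (x ^ m) w from h).pow_left i).eq

variable {t : G} {E K C : Subgroup G}

/-- An element of `A` fixed by `σ` satisfying the braid relation with `j`. -/
theorem Klein.exists_braid {k r f σ j : G} (P : Klein t k E K C) (T : TorusData (AK C k) r f σ j) :
    ∃ v ∈ AK C k, v ≠ 1 ∧ σ * v = v * σ ∧ (v * j) ^ 3 = 1 := by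
  haveI : Fact (Nat.Prime 3) := ⟨Nat.prime_three⟩
  have := Fintype.ofFinite G
  have D := P.data
  set A := AK C k with hA
  have hr3 : r ^ 3 = 1 := by rw [← T.r_ord]; exact pow_orderOf_eq_one r
  have hf5 : f ^ 5 = 1 := by rw [← T.f_ord]; exact pow_orderOf_eq_one f
  have hσ1 : σ ≠ 1 := fun e => by
    have h := T.σ_f
    rw [e, one_mul, inv_one, mul_one] at h
    have h2 : f ^ 2 = 1 := by rw [pow_two]; exact eq_inv_iff_mul_eq_one.1 h
    have := orderOf_dvd_of_pow_eq_one h2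
    rw [T.f_ord] at this
    norm_num at this
  have hσi : σ⁻¹ = σ := inv_eq_of_mul_eq_one_right T.σ_sq
  have hji : j⁻¹ = j := inv_eq_of_mul_eq_one_right T.j_sq
  have hσA : ∀ a ∈ A, σ * a * σ ∈ A := fun a ha => by
    have := P.conj_N T.σ_mem ha
    rwa [hσi] at this
  -- a nontrivial element of `A` fixed by `σ`
  obtain ⟨v, hvA, hv1, hvσ⟩ : ∃ v ∈ A, v ≠ 1 ∧ σ * v = v * σ := by
    obtain ⟨a, ha, ha1⟩ : ∃ a ∈ A, a ≠ 1 := ⟨t, P.t_mem, P.S.z_ne⟩
    by_cases h : σ * a * σ = a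
    · refine ⟨a, ha, ha1, ?_⟩
      conv_rhs => rw [← h, mul_assoc _ σ σ, T.σ_sq, mul_one]
    · refine ⟨a * (σ * a * σ), A.mul_mem ha (hσA a ha), fun e => h ?_, ?_⟩
      · exact (mul_eq_one_iff_inv_eq.1 e).symm.trans (inv_eq_of_mul_eq_one_right (P.AK_sq ha))
      · calc σ * (a * (σ * a * σ)) = σ * ((σ * a * σ) * a) := by rw [P.AK_comm ha (hσA a ha)]
          _ = (σ * σ) * a * σ * a := by simp only [mul_assoc]
          _ = a * σ * a * (σ * σ) := by rw [T.σ_sq, one_mul, mul_one]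
          _ = a * (σ * a * σ) * σ := by simp only [mul_assoc]
  have hv2 : v * v = 1 := P.AK_sq hvA
  have hrv : ∀ a ∈ A, r * a * r⁻¹ ∈ A := fun a ha => P.conj_N T.r_mem ha
  have hvr : r * v * r⁻¹ ≠ v := fun e => hv1 (T.r_fpf v hvA (mul_inv_eq_iff_eq_mul.1 e).symm)
  have hprod : v * (r * v * r⁻¹) * (r * (r * v * r⁻¹) * r⁻¹) = 1 := by
    set v' := r * v * r⁻¹ with hv'
    set v'' := r * v' * r⁻¹ with hv''
    have hA' : v' ∈ A := hrv v hvA
    have hA'' : v'' ∈ A := hrv v' hA'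
    refine T.r_fpf _ (A.mul_mem (A.mul_mem hvA hA') hA'') ?_
    have e : r * v'' * r⁻¹ = v := by
      calc r * v'' * r⁻¹ = r ^ 3 * v * (r ^ 3)⁻¹ := by
            rw [hv'', hv']; simp [pow_succ, mul_assoc]
        _ = v := by rw [hr3]; group
    refine (mul_inv_eq_iff_eq_mul.1 ?_).symm
    calc r * (v * v' * v'') * r⁻¹ = (r * v * r⁻¹) * (r * v' * r⁻¹) * (r * v'' * r⁻¹) := by group
      _ = v' * v'' * v := by rw [e]
      _ = v * (v' * v'') := P.AK_comm (A.mul_mem hA' hA'') hvA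
      _ = v * v' * v'' := (mul_assoc _ _ _).symm
  -- transport to the centraliser of `t`
  obtain ⟨g, hg⟩ := isConj_iff.1 (D.one σ (J2Order.orderTwo_of hσ1 T.σ_sq))
  have hmem : ∀ a : G, σ * a = a * σ → g * a * g⁻¹ ∈ C := fun a ha => D.memC.2 (by
    rw [← hg]; exact conj_comm ha.symm)
  obtain ⟨i, hi⟩ := D.local_braid (r := g * r * g⁻¹) (v := g * v * g⁻¹) (j := g * j * g⁻¹)
    ((orderOf_injective (MulAut.conj g).toMonoidHom (MulAut.conj g).injective r).trans T.r_ord)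
    (hmem r T.σ_r) (hmem v hvσ) (hmem j T.σ_j) (conj_sq_one hv2)
    (fun e => hvr (by
      have := congrArg (fun z => g⁻¹ * z * g) e
      simpa [mul_assoc] using this))
    (by rw [show g * r * g⁻¹ * (g * v * g⁻¹) * (g * r * g⁻¹)⁻¹ = g * (r * v * r⁻¹) * g⁻¹ by group]
        exact conj_comm (P.AK_comm hvA (hrv v hvA)))
    (by rw [show g * v * g⁻¹ * (g * r * g⁻¹ * (g * v * g⁻¹) * (g * r * g⁻¹)⁻¹) *
          (g * r * g⁻¹ * (g * r * g⁻¹ * (g * v * g⁻¹) * (g * r * g⁻¹)⁻¹) * (g * r * g⁻¹)⁻¹) =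
          g * (v * (r * v * r⁻¹) * (r * (r * v * r⁻¹) * r⁻¹)) * g⁻¹ by group, hprod]
        group)
    (conj_sq_one T.j_sq)
    (by rw [show g * j * g⁻¹ * (g * r * g⁻¹) * (g * j * g⁻¹)⁻¹ = g * (j * r * j⁻¹) * g⁻¹ by group, T.j_r]
        group)
  set w := r ^ i * v * (r ^ i)⁻¹ with hw
  have hwA : w ∈ A := P.conj_N (Subgroup.pow_mem _ T.r_mem i) hvA
  have hw2 : w * w = 1 := P.AK_sq hwA
  have hw1 : w ≠ 1 := fun e => hv1 (conj_eq_one_iff.1 e)
  have hwσ : σ * w = w * σ :=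
    (((show Commute σ r from T.σ_r).pow_right i).mul_right hvσ |>.mul_right
      ((show Commute σ r from T.σ_r).pow_right i).inv_right).eq
  have hback : (w * j) ^ 3 = 1 ∨ (w * j) ^ 3 = σ := by
    have key : ((g * r * g⁻¹) ^ i * (g * v * g⁻¹) * ((g * r * g⁻¹) ^ i)⁻¹ * (g * j * g⁻¹)) ^ 3 =
        g * (w * j) ^ 3 * g⁻¹ := by
      have e : (g * r * g⁻¹) ^ i = g * r ^ i * g⁻¹ := conj_pow
      rw [e, ← conj_pow (a := g) (b := w * j), hw]; congr 1; group
    rcases hi with h | h <;> rw [key] at h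
    · exact Or.inl (conj_eq_one_iff.1 h)
    · refine Or.inr ?_
      rw [← hg] at h
      exact mul_left_cancel (mul_right_cancel h)
  -- the exclusion
  have hwj : (w * j) ^ 3 = 1 := by
    refine hback.resolve_right fun h => ?_
    set s := j * σ with hs
    have hs2 : s * s = 1 := by
      rw [hs, mul_assoc j σ, ← mul_assoc σ j σ, T.σ_j, mul_assoc j σ σ, T.σ_sq, mul_one, T.j_sq]
    have hws : (w * s) ^ 3 = 1 := by
      have hc : Commute (w * j) σ := (Commute.mul_left hwσ.symm T.σ_j.symm)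
      rw [hs, ← mul_assoc, hc.mul_pow, h, pow_succ, pow_two, T.σ_sq, one_mul, T.σ_sq]
    have hsf : Commute f s := by
      have : s * f * s⁻¹ = f := by
        rw [hs, show j * σ * f * (j * σ)⁻¹ = j * (σ * f * σ⁻¹) * j⁻¹ by group, T.σ_f,
          show j * f⁻¹ * j⁻¹ = (j * f * j⁻¹)⁻¹ by group, T.j_f, inv_inv]
      exact (mul_inv_eq_iff_eq_mul.1 this).symm
    set a : ℕ → G := fun n => f ^ n * w * (f ^ n)⁻¹ with ha
    have haA : ∀ n, a n ∈ A := fun n => P.conj_N (Subgroup.pow_mem _ T.f_mem n) hwA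
    have hsn : ∀ n, f ^ n * s * (f ^ n)⁻¹ = s := fun n => by
      rw [(hsf.pow_left n).eq, mul_inv_cancel_right]
    have hbr : ∀ n, s * a n * s = a n * s * a n := fun n => by
      refine Braid.braid_of_cube (P.AK_sq (haA n)) hs2 ?_
      calc (a n * s) ^ 3 = (f ^ n * (w * s) * (f ^ n)⁻¹) ^ 3 := by
            conv_lhs => rw [← hsn n]
            simp only [ha]; congr 1; group
        _ = 1 := by rw [conj_pow, hws]; group
    have hp : a 0 * a 1 * (a 2 * a 3 * a 4) = 1 := by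
      refine T.f_fpf _ (A.mul_mem (A.mul_mem (haA 0) (haA 1))
        (A.mul_mem (A.mul_mem (haA 2) (haA 3)) (haA 4))) ?_
      refine (mul_inv_eq_iff_eq_mul.1 ?_).symm
      have hstep : ∀ n, f * a n * f⁻¹ = a (n + 1) := fun n => by
        simp [ha, pow_succ', mul_assoc]
      have h50 : a (4 + 1) = a 0 := by simp [ha, hf5]
      calc f * (a 0 * a 1 * (a 2 * a 3 * a 4)) * f⁻¹ =
          (f * a 0 * f⁻¹) * (f * a 1 * f⁻¹) * ((f * a 2 * f⁻¹) * (f * a 3 * f⁻¹) * (f * a 4 * f⁻¹)) := by group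
        _ = a 1 * a 2 * (a 3 * a 4 * a 0) := by
          rw [hstep, hstep, hstep, hstep, hstep, h50]
        _ = a 1 * a 2 * a 3 * a 4 * a 0 := by simp only [mul_assoc]
        _ = a 0 * (a 1 * a 2 * a 3 * a 4) :=
          P.AK_comm (A.mul_mem (A.mul_mem (A.mul_mem (haA 1) (haA 2)) (haA 3)) (haA 4)) (haA 0)
        _ = _ := by simp only [mul_assoc]
    have hb : a 0 * a 1 = a 2 * a 3 * a 4 := by
      have h01 := P.AK_sq (A.mul_mem (haA 0) (haA 1))
      exact mul_left_cancel (h01.trans hp.symm)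
    have e := Braid.star (P.AK_sq (haA 0)) (P.AK_sq (haA 1)) (P.AK_sq (haA 2)) (P.AK_sq (haA 3))
      (P.AK_sq (haA 4)) hs2 (P.AK_comm (haA 0) (haA 1)) (P.AK_comm (haA 2) (haA 3))
      (P.AK_comm (haA 2) (haA 4)) (P.AK_comm (haA 3) (haA 4)) hb (hbr 0) (hbr 1) (hbr 2) (hbr 3) (hbr 4)
    simp only [ha, pow_zero, one_mul, inv_one, mul_one, pow_one] at e
    exact hw1 (T.f_fpf w hwA (eq_mul_inv_iff_mul_eq.1 e))
  exact ⟨w, hwA, hw1, hwσ, hwj⟩

/-- The subgroup, from the torus and the braid. -/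
theorem Klein.exists_sl16_at {k r f σ j w : G} (P : Klein t k E K C) (T : TorusData (AK C k) r f σ j)
    (hwA : w ∈ AK C k) (hw1 : w ≠ 1) (hwσ : σ * w = w * σ) (hwj : (w * j) ^ 3 = 1) :
    ∃ (H : Subgroup G) (N : Subgroup H) (F : Type) (_ : Field F) (_ : Fintype F),
      (w ∈ H ∧ f ∈ H ∧ r ∈ H ∧ σ ∈ H ∧ j ∈ H) ∧
        (∀ L : Subgroup G, AK C k ≤ L → f ∈ L → r ∈ L → σ ∈ L → j ∈ L → H ≤ L) ∧ N.Normal ∧ N.index = 2 ∧ Fintype.card F = 16 ∧
        Nonempty (N ≃* Matrix.SpecialLinearGroup (Fin 2) F) := by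
  haveI : Fact (Nat.Prime 3) := ⟨Nat.prime_three⟩
  haveI : Fact (Nat.Prime 5) := ⟨by decide⟩
  have := Fintype.ofFinite G
  set A := AK C k with hA
  have hr3 : r ^ 3 = 1 := by rw [← T.r_ord]; exact pow_orderOf_eq_one r
  have hf5 : f ^ 5 = 1 := by rw [← T.f_ord]; exact pow_orderOf_eq_one f
  have hσ1 : σ ≠ 1 := fun e => by
    have h := T.σ_f
    rw [e, one_mul, inv_one, mul_one] at h
    have h2 : f ^ 2 = 1 := by rw [pow_two]; exact eq_inv_iff_mul_eq_one.1 h
    have := orderOf_dvd_of_pow_eq_one h2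
    rw [T.f_ord] at this
    norm_num at this
  have hσi : σ⁻¹ = σ := inv_eq_of_mul_eq_one_right T.σ_sq
  have hji : j⁻¹ = j := inv_eq_of_mul_eq_one_right T.j_sq
  have hσA : ∀ a ∈ A, σ * a * σ ∈ A := fun a ha => by
    have := P.conj_N T.σ_mem ha
    rwa [hσi] at this
  have hw2 : w * w = 1 := P.AK_sq hwA
  -- the torus
  set h := r * f with hh
  have hhN : h ∈ Subgroup.normalizer (A : Set G) := Subgroup.mul_mem _ T.r_mem T.f_mem
  have hc : Commute r f := T.comm
  have hr15 : ∀ n : ℕ, r ^ (3 * n) = 1 := fun n => by rw [pow_mul, hr3, one_pow]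
  have hf15 : ∀ n : ℕ, f ^ (5 * n) = 1 := fun n => by rw [pow_mul, hf5, one_pow]
  have hf16 : ∀ m n : ℕ, h ^ m = h ^ n → r ^ m = r ^ n → f ^ m = f ^ n := fun m n h1 h2 => by
    rw [hh, hc.mul_pow, hc.mul_pow, h2] at h1
    exact mul_left_cancel h1
  have hh15 : h ^ 15 = 1 := by
    rw [hh, hc.mul_pow, hr15 5, hf15 3, one_mul]
  have hfree : ∀ d ∈ Subgroup.zpowers h, d * w = w * d → d = 1 := by
    intro d hd hdw
    obtain ⟨m, rfl⟩ : ∃ m : ℕ, h ^ m = d :=
      Submonoid.mem_powers_iff _ _ |>.1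
        ((isOfFinOrder_of_finite h).mem_powers_iff_mem_zpowers.2 hd)
    have h3 : 3 ∣ m := by
      by_contra h3
      have : r ^ (m * 5) * w = w * r ^ (m * 5) := by
        have e : r ^ (m * 5) = (h ^ m) ^ 5 := by
          rw [← pow_mul, hh, hc.mul_pow, mul_comm m 5, hf15, mul_one]
        rw [e]
        exact ((show Commute (h ^ m) w from hdw).pow_left 5).eq
      exact hw1 (T.r_fpf w hwA (comm_of_pow_comm T.r_ord
        (fun hd => h3 ((Nat.Prime.dvd_mul Nat.prime_three).1 hd |>.resolve_right (by norm_num))) this).symm)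
    have h5 : 5 ∣ m := by
      by_contra h5
      have : f ^ (m * 3) * w = w * f ^ (m * 3) := by
        have e : f ^ (m * 3) = (h ^ m) ^ 3 := by
          rw [← pow_mul, hh, hc.mul_pow, mul_comm m 3, hr15, one_mul]
        rw [e]
        exact ((show Commute (h ^ m) w from hdw).pow_left 3).eq
      exact hw1 (T.f_fpf w hwA (comm_of_pow_comm T.f_ord
        (fun hd => h5 ((Nat.Prime.dvd_mul (by decide)).1 hd |>.resolve_right (by norm_num))) this).symm)
    obtain ⟨a, rfl⟩ := h3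
    obtain ⟨b, hb⟩ := h5
    rw [hh, hc.mul_pow, hr15, hb, hf15, one_mul]
  have hho : orderOf h = 15 := by
    have hd := orderOf_dvd_of_pow_eq_one hh15
    have h1 := pow_orderOf_eq_one h
    rw [hh, hc.mul_pow] at h1
    have e1 : r ^ (orderOf h * 5) = 1 := by
      have := congrArg (fun z => z ^ 5) h1
      simp only [one_pow] at this
      rwa [(hc.pow_pow _ _).mul_pow, ← pow_mul, ← pow_mul, mul_comm (orderOf h) 5, hf15, mul_one,
        mul_comm 5] at this
    have e2 : f ^ (orderOf h * 3) = 1 := by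
      have := congrArg (fun z => z ^ 3) h1
      simp only [one_pow] at this
      rwa [(hc.pow_pow _ _).mul_pow, ← pow_mul, ← pow_mul, mul_comm (orderOf h) 3, hr15, one_mul,
        mul_comm 3] at this
    have a1 := orderOf_dvd_of_pow_eq_one e1
    have a2 := orderOf_dvd_of_pow_eq_one e2
    rw [T.r_ord] at a1
    rw [T.f_ord] at a2
    exact Nat.dvd_antisymm hd (Nat.Coprime.mul_dvd_of_dvd_of_dvd (m := 3) (n := 5) (by norm_num)
      ((Nat.Coprime.dvd_mul_right (by norm_num)).1 a1) ((Nat.Coprime.dvd_mul_right (by norm_num)).1 a2))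
  set TT := Subgroup.zpowers h with hTT
  have hnorm : ∀ d ∈ TT, ∀ a ∈ A, d * a * d⁻¹ ∈ A := fun d hd a ha =>
    P.conj_N (Subgroup.zpowers_le.2 hhN hd) ha
  have htr : ∀ a ∈ A, a ≠ 1 → ∃ d ∈ TT, d * w * d⁻¹ = a := by
    intro a ha ha1
    have := Fintype.ofFinite G
    set S := (Finset.univ.filter fun z => z ∈ A).erase 1 with hS
    set Ts := Finset.univ.filter fun z => z ∈ TT with hTs
    have hTc : Ts.card = 15 := by
      rw [hTs, ← Fintype.card_subtype, ← Nat.card_eq_fintype_card, hTT, ← hho]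
      exact Nat.card_zpowers h
    have hSc : S.card = 15 := by
      rw [hS, Finset.card_erase_of_mem (by simp), ← Fintype.card_subtype, ← Nat.card_eq_fintype_card,
        show Nat.card {z // z ∈ A} = 16 from P.card_AK]
    have himg : Ts.image (fun d => d * w * d⁻¹) = S := by
      refine Finset.eq_of_subset_of_card_le ?_ ?_
      · intro z hz
        obtain ⟨d, hd, rfl⟩ := Finset.mem_image.1 hz
        exact Finset.mem_erase.2 ⟨fun e => hw1 (conj_eq_one_iff.1 e),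
          Finset.mem_filter.2 ⟨Finset.mem_univ _, hnorm d (Finset.mem_filter.1 hd).2 w hwA⟩⟩
      · rw [hSc, ← hTc, Finset.card_image_of_injOn]
        intro d hd e he hde
        simp only [hTs, Finset.coe_filter, Set.mem_setOf_eq] at hd he
        refine (inv_mul_eq_one.1 (hfree _ (TT.mul_mem (TT.inv_mem he.2) hd.2) ?_)).symm
        calc e⁻¹ * d * w = e⁻¹ * (d * w * d⁻¹) * d := by group
          _ = e⁻¹ * (e * w * e⁻¹) * d := by rw [show d * w * d⁻¹ = e * w * e⁻¹ from hde]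
          _ = w * (e⁻¹ * d) := by group
    have haS : a ∈ S := Finset.mem_erase.2 ⟨ha1, Finset.mem_filter.2 ⟨Finset.mem_univ _, ha⟩⟩
    rw [← himg] at haS
    obtain ⟨d, hd, e⟩ := Finset.mem_image.1 haS
    exact ⟨d, (Finset.mem_filter.1 hd).2, e⟩
  have hTcomm : ∀ c ∈ TT, ∀ d ∈ TT, c * d = d * c := fun c hc d hd => by
    obtain ⟨m, rfl⟩ := Subgroup.mem_zpowers_iff.1 hc
    obtain ⟨n, rfl⟩ := Subgroup.mem_zpowers_iff.1 hd
    exact (Commute.refl h).zpow_zpow m n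
  obtain ⟨Fd, iF, iFt, iChar, ψ, τ, hFc, hψi, hψA, hψs, hψadd, hψ1, hτT, hτs, hτmul, hτconj⟩ :=
    exists_field A TT 4 (by norm_num) (by rw [P.card_AK]; norm_num) (fun a ha => P.AK_sq ha) hTcomm hnorm hwA hw1
      htr hfree
  have hjh : j * h * j⁻¹ = h⁻¹ := by
    rw [hh, show j * (r * f) * j⁻¹ = (j * r * j⁻¹) * (j * f * j⁻¹) by group, T.j_r, T.j_f, mul_inv_rev,
      hc.inv_inv.eq]
  have hbr : j * w * j = w * j * w := Braid.braid_of_cube hw2 T.j_sq hwj
  have hfA : f ∉ A := fun e => by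
    have := Subgroup.orderOf_dvd_natCard A e
    rw [T.f_ord, P.card_AK] at this
    norm_num at this
  have hf2 : f ^ 2 ∉ A := fun e => hfA (by
    have : f = (f ^ 2) ^ 3 := by rw [← pow_mul, show 2 * 3 = 5 + 1 from rfl, pow_succ, hf5, one_mul]
    rw [this]; exact A.pow_mem e 3)
  have hout : ∀ z, j * ψ 1 * j ≠ ψ z := by
    intro z hz
    rw [hψ1] at hz
    have hj : j ∈ A := by
      have hw' : j * w * j ∈ A := hz ▸ hψA z
      have e : j = w * (j * w * j) * w := by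
        rw [hbr, show w * (w * j * w) * w = (w * w) * j * (w * w) by simp only [mul_assoc], hw2,
          one_mul, mul_one]
      rw [e]; exact A.mul_mem (A.mul_mem hwA hw') hwA
    refine hf2 ?_
    have e : f ^ 2 = f * j * f⁻¹ * j⁻¹ := by
      rw [pow_two, mul_assoc (f * j), ← mul_inv_rev, mul_inv_rev, show f * j * (f⁻¹ * j⁻¹) = f * (j * f⁻¹ * j⁻¹) by group,
        show j * f⁻¹ * j⁻¹ = (j * f * j⁻¹)⁻¹ by group, T.j_f, inv_inv]
    rw [e]
    exact A.mul_mem (P.conj_N T.f_mem hj) (A.inv_mem hj)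
  have R : Bruhat.Rel ψ τ j := by
    refine ⟨hψadd, hψi, hτmul, hτconj, T.j_sq, ?_, ?_, ⟨1, hout⟩⟩
    · intro c hc'
      obtain ⟨z, hz⟩ := Subgroup.mem_zpowers_iff.1 (hτT c hc')
      calc j * τ c * j = j * h ^ z * j⁻¹ := by rw [hz, hji]
        _ = (τ c)⁻¹ := by rw [← conj_zpow, hjh, inv_zpow, hz]
    · rw [hψ1]; exact hbr
  -- the involution outside
  have hσh : σ * h * σ ∈ TT := by
    have e : σ * h * σ = h ^ 4 := by
      conv_lhs => rw [hh, show σ * (r * f) * σ = σ * (r * f) * σ⁻¹ by rw [hσi],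
        show σ * (r * f) * σ⁻¹ = (σ * r) * f * σ⁻¹ by group, T.σ_r,
        show r * σ * f * σ⁻¹ = r * (σ * f * σ⁻¹) by group, T.σ_f]
      rw [hh, hc.mul_pow, show r ^ 4 = r by rw [pow_succ, hr3, one_mul],
        show f ^ 4 = f⁻¹ from eq_inv_of_mul_eq_one_left (by rw [← pow_succ]; exact hf5)]
    rw [e]; exact TT.pow_mem (Subgroup.mem_zpowers h) 4
  set Rg := R.hom.range with hRg
  have hψR : ∀ a ∈ A, a ∈ Rg := fun a ha => by
    obtain ⟨z, rfl⟩ := hψs a ha
    exact R.psi_mem z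
  have hTR : ∀ d ∈ TT, d ∈ Rg := fun d hd => by
    obtain ⟨c, hc', rfl⟩ := hτs d hd
    exact R.tau_mem hc'
  have hn : ∀ z ∈ Rg, σ * z * σ ∈ Rg := by
    have hle := R.range_eq (H := Rg.comap (MulAut.conj σ).toMonoidHom)
      (fun z => by
        show σ * ψ z * σ⁻¹ ∈ Rg
        rw [hσi]; exact hψR _ (hσA _ (hψA z)))
      (fun c hc' => by
        show σ * τ c * σ⁻¹ ∈ Rg
        obtain ⟨z, hz⟩ := Subgroup.mem_zpowers_iff.1 (hτT c hc')
        rw [← hz, ← conj_zpow]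
        exact Rg.zpow_mem (hσi.symm ▸ hTR _ hσh) z)
      (by show σ * j * σ⁻¹ ∈ Rg; rw [T.σ_j, mul_inv_cancel_right]; exact R.j_mem)
    intro z hz
    have := hle hz
    change σ * z * σ⁻¹ ∈ Rg at this
    rwa [hσi] at this
  have hjN : j ∉ Subgroup.normalizer (A : Set G) := fun hj => by
    obtain ⟨z, hz⟩ := hψs _ (P.conj_N hj hwA)
    refine hout z ?_
    rw [hψ1, hz, hji]
  have hτN : ∀ c, c ≠ 0 → τ c ∈ Subgroup.normalizer (A : Set G) := fun c hc' =>
    Subgroup.zpowers_le.2 hhN (hτT c hc')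
  have hσR : σ ∉ Rg := by
    rintro ⟨z, hz⟩
    have hd := Bruhat.det_eq z
    rw [Bruhat.Rel.hom_apply, Bruhat.fn, Bruhat.fnM] at hz
    by_cases hc0 : z 1 0 = 0
    · rw [if_pos hc0] at hz
      rw [hc0, mul_zero, add_zero] at hd
      have ha0 : z 0 0 * z 0 0 ≠ 0 :=
        mul_ne_zero (left_ne_zero_of_mul_eq_one hd) (left_ne_zero_of_mul_eq_one hd)
      set a := ψ (z 0 0 * z 0 1) with ha'
      set d := τ (z 0 0 * z 0 0) with hd'
      obtain ⟨n, hn'⟩ := Subgroup.mem_zpowers_iff.1 (hτT _ ha0)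
      have hdf : d * f = f * d := by
        rw [hd', ← hn']
        exact ((hc.mul_left (Commute.refl f)).zpow_left n).eq
      have haA : a ∈ A := hψA _
      refine hf2 ?_
      have e : a * f * a⁻¹ = f⁻¹ := by
        calc a * f * a⁻¹ = a * (d * f * d⁻¹) * a⁻¹ := by rw [hdf, mul_inv_cancel_right]
          _ = σ * f * σ⁻¹ := by rw [← hz]; group
          _ = f⁻¹ := T.σ_f
      have e2 : f ^ 2 = (f * a * f⁻¹) * a⁻¹ := by
        rw [pow_two, show f * a * f⁻¹ * a⁻¹ = f * (a * f * a⁻¹)⁻¹ by group, e, inv_inv]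
      rw [e2]
      exact A.mul_mem (P.conj_N T.f_mem haA) (A.inv_mem haA)
    · rw [if_neg hc0] at hz
      refine hjN ?_
      set a := ψ (z 0 0 / z 1 0) with ha'
      set d := τ (z 1 0 * z 1 0) with hd'
      set b := ψ (z 1 1 / z 1 0) with hb'
      have hb : ∀ q, ψ q ∈ Subgroup.normalizer (A : Set G) := fun q => Subgroup.le_normalizer (hψA q)
      rw [show j = a⁻¹ * σ * b⁻¹ * d⁻¹ by rw [← hz]; group]
      exact Subgroup.mul_mem _ (Subgroup.mul_mem _ (Subgroup.mul_mem _ (Subgroup.inv_mem _ (hb _)) T.σ_mem)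
        (Subgroup.inv_mem _ (hb _))) (Subgroup.inv_mem _ (hτN _ (mul_ne_zero hc0 hc0)))
  obtain ⟨hnorm', hidx⟩ := adjoin_index T.σ_sq hn hσR
  have hrR : r ∈ Rg := by
    have e : h ^ 10 = r := by
      rw [hh, hc.mul_pow, show r ^ 10 = r by rw [show (10 : ℕ) = 3 * 3 + 1 from rfl, pow_succ, hr15, one_mul],
        show (10 : ℕ) = 5 * 2 from rfl, hf15, mul_one]
    exact e ▸ hTR _ (TT.pow_mem (Subgroup.mem_zpowers h) 10)
  have hfR : f ∈ Rg := by
    have e : h ^ 6 = f := by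
      rw [hh, hc.mul_pow, show f ^ 6 = f by rw [show (6 : ℕ) = 5 * 1 + 1 from rfl, pow_succ, hf15, one_mul],
        show (6 : ℕ) = 3 * 2 from rfl, hr15, one_mul]
    exact e ▸ hTR _ (TT.pow_mem (Subgroup.mem_zpowers h) 6)
  have hgen : ∀ L : Subgroup G, A ≤ L → f ∈ L → r ∈ L → σ ∈ L → j ∈ L → adjoin Rg σ T.σ_sq hn ≤ L := by
    intro L hAL hfL hrL hσL hjL
    have hle : Rg ≤ L := R.range_eq (H := L) (fun z => hAL (hψA z))
      (fun c hc' => Subgroup.zpowers_le.2 (L.mul_mem hrL hfL : h ∈ L) (hτT c hc')) hjL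
    rintro z (hz | hz)
    · exact hle hz
    · have := L.mul_mem (hle hz) hσL
      rwa [mul_assoc, T.σ_sq, mul_one] at this
  refine ⟨adjoin Rg σ T.σ_sq hn, Rg.subgroupOf _, Fd, iF, iFt, ⟨Or.inl (hψR _ hwA), Or.inl hfR, Or.inl hrR,
    Or.inr (by rw [T.σ_sq]; exact Rg.one_mem), Or.inl R.j_mem⟩, hgen, hnorm', hidx, by rw [hFc]; norm_num, ⟨?_⟩⟩
  exact (Subgroup.subgroupOfEquivOfLe (fun z hz => Or.inl hz)).trans (MonoidHom.ofInjective R.hom_injective).symm

/-- The subgroup. -/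
theorem Data.exists_sl16 (D : Data t E K C) :
    ∃ (H : Subgroup G) (N : Subgroup H) (F : Type) (_ : Field F) (_ : Fintype F),
      N.Normal ∧ N.index = 2 ∧ Fintype.card F = 16 ∧
        Nonempty (N ≃* Matrix.SpecialLinearGroup (Fin 2) F) := by
  obtain ⟨k, P⟩ := D.exists_klein
  obtain ⟨x0, y0, w0, s0, F5⟩ := D.exists_Five
  obtain ⟨r, f, σ, j, T⟩ := P.exists_torus F5
  obtain ⟨w, hwA, hw1, hwσ, hwj⟩ := P.exists_braid T
  obtain ⟨H, N, F, i1, i2, -, -, h⟩ := P.exists_sl16_at T hwA hw1 hwσ hwj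
  exact ⟨H, N, F, i1, i2, h⟩

end CfsgLib.J3Type
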