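import Cfsg.Agent.Lib.J2Type.Classes

/-!
Groups with an involution centraliser `2^(1+4).A₅`: the centraliser is a split extension with a
faithful action, as soon as the involution is not weakly closed in its centraliser.
-/

set_option autoImplicit false

open scoped Classical

namespace CfsgLib.J3Type

open CfsgLib.J2Order

local notation "A₅" => alternatingGroup (Fin 5)

theorem alt5_four : ∀ a : A₅, a ^ 4 = 1 → a * a = 1 := by
  decide +kernel

theorem alt5_center_free : ∀ a : A₅, (∀ b : A₅, a * b = b * a) → a = 1 := by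
  decide +kernel

variable {G : Type*} [Group G] [Finite G]

section Base

variable {t : G} {Q C : Subgroup G} (B : Base t Q C)
include B

theorem exists_anti {x : G} (hx : x ∈ Q) (h1 : x ≠ 1) (h2 : x ≠ t) :
    ∃ f ∈ Q, x * f = t * (f * x) := by
  by_contra hcon
  push Not at hcon
  rcases B.cen x hx fun b hb => (B.comm x hx b hb).resolve_right (hcon b hb) with h | h
  exacts [h1 h, h2 h]

theorem t_comm_Q {a : G} (ha : a ∈ Q) : t * a = a * t := (B.mul_z ha).symm

/-- With ten noncentral involutions, commuting ones form one pair. -/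
theorem commuting_invols (h10 : B.X.card = 10) {u v : G} (hu : u ∈ B.X) (hv : v ∈ Q)
    (hv2 : v * v = 1) (huv : u * v = v * u) : v = 1 ∨ v = t ∨ v = u ∨ v = u * t := by
  obtain ⟨huQ, hu2, hu1, hut⟩ := B.mem_X.1 hu
  obtain ⟨f, hf, huf⟩ := exists_anti B huQ hu1 hut
  set QF : Finset G := (Set.toFinite (Q : Set G)).toFinset with hQF
  have mem : ∀ {g : G}, g ∈ QF ↔ g ∈ Q := by simp [hQF]
  have hQc : QF.card = 32 := by
    rw [hQF, ← B.cardQ, ← Set.ncard_eq_toFinset_card]
    rfl
  have rne : ∀ {a : G}, t * a ≠ a := fun {a} h => B.z_ne (mul_eq_right.1 h)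
  set S := QF.filter fun g => u * g = g * u with hS
  set T := QF.filter fun g => ¬ u * g = g * u with hT
  have hflip : ∀ g ∈ QF, (u * (g * f) = g * f * u ↔ ¬ u * g = g * u) := by
    intro g hg
    rcases B.comm u huQ g (mem.1 hg) with h | h
    · have := B.comm_mul_anti' (mem.1 hg) h huf
      exact ⟨fun e => absurd e (B.anti_ne this), fun e => absurd h e⟩
    · exact ⟨fun _ => B.anti_ne h, fun _ => B.comm_mul_anti huQ (mem.1 hg) h huf⟩
  have hST : S.card = T.card := by
    refine le_antisymm ?_ ?_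
    · refine Finset.card_le_card_of_injOn (fun g => g * f) (fun g hg => ?_)
        (fun _ _ _ _ h => mul_right_cancel h)
      simp only [hS, Finset.coe_filter, Set.mem_setOf_eq] at hg
      simp only [hT, Finset.coe_filter, Set.mem_setOf_eq]
      exact ⟨mem.2 (Q.mul_mem (mem.1 hg.1) hf), fun e => (hflip g hg.1).1 e hg.2⟩
    · refine Finset.card_le_card_of_injOn (fun g => g * f) (fun g hg => ?_)
        (fun _ _ _ _ h => mul_right_cancel h)
      simp only [hT, Finset.coe_filter, Set.mem_setOf_eq] at hg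
      simp only [hS, Finset.coe_filter, Set.mem_setOf_eq]
      exact ⟨mem.2 (Q.mul_mem (mem.1 hg.1) hf), (hflip g hg.1).2 hg.2⟩
  have hsum : S.card + T.card = 32 := by
    rw [hS, hT, Finset.card_filter_add_card_filter_not, hQc]
  -- half of the elements anticommuting with `u` are involutions
  set T1 := T.filter fun g => g * g = 1 with hT1
  set T2 := T.filter fun g => ¬ g * g = 1 with hT2
  have hmv : ∀ g ∈ T, g * u ∈ T ∧ g * u * (g * u) = t * (g * g) := by
    intro g hg
    obtain ⟨hgQ, hne⟩ := Finset.mem_filter.1 hg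
    have hanti := (B.comm u huQ g (mem.1 hgQ)).resolve_left hne
    refine ⟨Finset.mem_filter.2 ⟨mem.2 (Q.mul_mem (mem.1 hgQ) huQ), fun e => hne ?_⟩, ?_⟩
    · rw [← mul_assoc] at e
      exact mul_right_cancel e
    · calc g * u * (g * u) = g * (u * g) * u := by group
        _ = g * t * g * (u * u) := by rw [hanti]; group
        _ = t * (g * g) := by rw [hu2, mul_one, ← t_comm_Q B (mem.1 hgQ), mul_assoc]
  have h12 : T1.card = T2.card := by
    refine le_antisymm ?_ ?_
    · refine Finset.card_le_card_of_injOn (fun g => g * u) (fun g hg => ?_)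
        (fun _ _ _ _ h => mul_right_cancel h)
      obtain ⟨hgT, hg2⟩ := Finset.mem_filter.1 hg
      refine Finset.mem_filter.2 ⟨(hmv g hgT).1, ?_⟩
      rw [(hmv g hgT).2, hg2, mul_one]
      exact B.z_ne
    · refine Finset.card_le_card_of_injOn (fun g => g * u) (fun g hg => ?_)
        (fun _ _ _ _ h => mul_right_cancel h)
      obtain ⟨hgT, hg2⟩ := Finset.mem_filter.1 hg
      refine Finset.mem_filter.2 ⟨(hmv g hgT).1, ?_⟩
      rw [(hmv g hgT).2, (B.sq g (mem.1 (Finset.mem_filter.1 hgT).1)).resolve_left hg2, B.z_sq]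
  have hT12 : T1.card + T2.card = T.card := by
    rw [hT1, hT2, Finset.card_filter_add_card_filter_not]
  set I := QF.filter fun g => g * g = 1 with hI
  have hIc : I.card ≤ 12 := by
    have : I ⊆ insert 1 (insert t B.X) := by
      intro a ha
      obtain ⟨haQ, ha2⟩ := Finset.mem_filter.1 ha
      simp only [Finset.mem_insert]
      by_cases h1 : a = 1
      · exact Or.inl h1
      by_cases h2 : a = t
      · exact Or.inr (Or.inl h2)
      exact Or.inr (Or.inr (B.mem_X.2 ⟨mem.1 haQ, ha2, h1, h2⟩))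
    refine (Finset.card_le_card this).trans ?_
    refine (Finset.card_insert_le _ _).trans (Nat.succ_le_succ ((Finset.card_insert_le _ _).trans ?_))
    rw [h10]
  set R := I.filter fun g => u * g = g * u with hR
  have hR4 : R.card ≤ 4 := by
    have : R.card + T1.card = I.card := by
      rw [← Finset.card_filter_add_card_filter_not (s := I) fun g => u * g = g * u, ← hR]
      congr 2
      ext g
      simp only [hT1, hT, hI, Finset.mem_filter]
      tauto
    omega
  by_contra hne
  push Not at hne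
  obtain ⟨n1, n2, n3, n4⟩ := hne
  have hut' : u * t = t * u := B.mul_z huQ
  have hsub : ({1, t, u, u * t, v} : Finset G) ⊆ R := by
    intro a ha
    simp only [Finset.mem_insert, Finset.mem_singleton] at ha
    simp only [hR, hI, Finset.mem_filter, mem]
    rcases ha with rfl | rfl | rfl | rfl | rfl
    · exact ⟨⟨Q.one_mem, one_mul 1⟩, by simp⟩
    · exact ⟨⟨B.z_mem, B.z_sq⟩, hut'⟩
    · exact ⟨⟨huQ, hu2⟩, rfl⟩
    · exact ⟨⟨Q.mul_mem huQ B.z_mem, (B.mem_X.1 (B.xz_mem hu)).2.1⟩, by
        rw [mul_assoc u t u, ← hut']⟩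
    · exact ⟨⟨hv, hv2⟩, huv⟩
  have h5 : ({1, t, u, u * t, v} : Finset G).card = 5 := by
    have a1 : u * t ≠ u := fun e => B.z_ne (mul_eq_left.1 e)
    have a2 : u * t ≠ t := fun e => hu1 (mul_eq_right.1 e)
    have a3 : u * t ≠ 1 := fun e => hut (by
      rw [eq_inv_of_mul_eq_one_left e, inv_eq_of_mul_eq_one_right B.z_sq])
    rw [Finset.card_insert_of_notMem (by simp [B.z_ne.symm, hu1.symm, a3.symm, n1.symm]),
      Finset.card_insert_of_notMem (by simp [hut.symm, a2.symm, n2.symm]),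
      Finset.card_insert_of_notMem (by simp [a1.symm, n3.symm]), Finset.card_pair n4.symm]
  have := Finset.card_le_card hsub
  omega

end Base

section Exclude

variable {t : G} {Q C : Subgroup G} (B : Base t Q C)
include B

/-- The four group of a noncentral involution. -/
def W4 (t x : G) : Set G := {1, t, x, x * t}

theorem mem_W4 {x a : G} : a ∈ W4 t x ↔ a = 1 ∨ a = t ∨ a = x ∨ a = x * t := by
  simp [W4]

theorem W4_comm {x a b : G} (ha : a ∈ W4 t x) (hbt : b * t = t * b) (hbx : b * x = x * b) :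
    b * a = a * b := by
  rcases (mem_W4 B).1 ha with rfl | rfl | rfl | rfl
  · simp
  · exact hbt
  · exact hbx
  · exact (show Commute b x from hbx).mul_right hbt

theorem exists_out_W4 {x : G} (hx : x ∈ B.X) :
    ∃ a ∈ Q, a * x = x * a ∧ a ∉ W4 t x := by
  obtain ⟨hxQ, -, hx1, hxt⟩ := B.mem_X.1 hx
  obtain ⟨f, hf, hxf⟩ := exists_anti B hxQ hx1 hxt
  by_contra hcon
  push Not at hcon
  have hf' : f⁻¹ ∈ Q := Q.inv_mem hf
  have h32 := B.cardQ
  rw [show Nat.card Q = (Q : Set G).ncard from Nat.card_coe_set_eq (Q : Set G)] at h32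
  have hsub : (Q : Set G) ⊆ ((({1, t, x, x * t} : Finset G) ∪
      ({1, t, x, x * t} : Finset G).image fun a => a * f⁻¹ : Finset G) : Set G) := by
    intro g hg
    simp only [Finset.coe_union, Finset.coe_image, Set.mem_union, Set.mem_image]
    rcases B.comm x hxQ g hg with h | h
    · left
      simpa [W4] using hcon g hg h.symm
    · right
      refine ⟨g * f, by simpa [W4] using hcon (g * f) (Q.mul_mem hg hf) (B.comm_mul_anti hxQ hg h hxf).symm, by group⟩
  have h4 : ({1, t, x, x * t} : Finset G).card ≤ 4 :=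
    (Finset.card_insert_le _ _).trans (Nat.succ_le_succ ((Finset.card_insert_le _ _).trans
      (Nat.succ_le_succ ((Finset.card_insert_le _ _).trans (Nat.succ_le_succ (Finset.card_singleton _).le)))))
  have := Set.ncard_le_ncard hsub (Finset.finite_toSet _)
  rw [Set.ncard_coe_finset, h32] at this
  have h8 := (Finset.card_union_le ({1, t, x, x * t} : Finset G)
    (({1, t, x, x * t} : Finset G).image fun a => a * f⁻¹))
  have h4' := Finset.card_image_le (s := ({1, t, x, x * t} : Finset G)) (f := fun a => a * f⁻¹)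
  omega

/-- The situation of two conjugates `t`, `g t g⁻¹` with no involution of `C` outside `Q`. -/
structure Twist (B : Base t Q C) (g : G) : Prop where
  mem_C : ∀ c : G, c ∈ C ↔ c * t = t * c
  ten : B.X.card = 10
  inside : ∀ c ∈ C, c * c = 1 → c ∈ Q
  conjX : g * t * g⁻¹ ∈ B.X

variable {B} {g : G}

theorem Twist.symm (T : Twist B g) : Twist B g⁻¹ := by
  refine ⟨T.mem_C, T.ten, T.inside, ?_⟩
  obtain ⟨hxQ, hx2, hx1, hxt⟩ := B.mem_X.1 T.conjX
  rw [inv_inv]
  have hc : t * (g * t * g⁻¹) = g * t * g⁻¹ * t := t_comm_Q B hxQ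
  have hC : g⁻¹ * t * g ∈ C := by
    rw [T.mem_C]
    calc g⁻¹ * t * g * t = g⁻¹ * (t * (g * t * g⁻¹)) * g := by group
      _ = t * (g⁻¹ * t * g) := by rw [hc]; group
  have h2 : g⁻¹ * t * g * (g⁻¹ * t * g) = 1 := by
    rw [show g⁻¹ * t * g * (g⁻¹ * t * g) = g⁻¹ * (t * t) * g by group, B.z_sq]; group
  refine B.mem_X.2 ⟨T.inside _ hC h2, h2, fun e => B.z_ne ?_, fun e => hxt ?_⟩
  · rw [show t = g * (g⁻¹ * t * g) * g⁻¹ by group, e]; group
  · calc g * t * g⁻¹ = g * (g⁻¹ * t * g) * g⁻¹ := by rw [e]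
      _ = t := by group

/-- For `b` in the twisted copy of `Q`: an element `a0` such that whatever anticommutes with it
gives the commutator `g t g⁻¹`. -/
theorem Twist.value_of (T : Twist B g) {b : G} (hbQ : g⁻¹ * b * g ∈ Q) (hbt : b * t = t * b)
    (hbW : b ∉ W4 t (g * t * g⁻¹)) : ∃ a0 ∈ Q,
    (∃ a ∈ Q, a * (g * t * g⁻¹) = g * t * g⁻¹ * a ∧ a * a0 = t * (a0 * a)) ∧
    ∀ a ∈ Q, a * (g * t * g⁻¹) = g * t * g⁻¹ * a → a * a0 = t * (a0 * a) →
      a * b = g * t * g⁻¹ * (b * a) := by
  set x := g * t * g⁻¹ with hx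
  obtain ⟨hxQ, hx2, hx1, hxt⟩ := B.mem_X.1 T.conjX
  obtain ⟨e, he, hxe⟩ := exists_anti B hxQ hx1 hxt
  have hbC : b ∈ C := (T.mem_C b).2 hbt
  have hbx : b * x = x * b := by
    calc b * x = g * (g⁻¹ * b * g * t) * g⁻¹ := by rw [hx]; group
      _ = g * (t * (g⁻¹ * b * g)) * g⁻¹ := by rw [B.mul_z hbQ]
      _ = x * b := by rw [hx]; group
  have hbb : b * b = x := by
    rcases B.sq _ hbQ with h | h
    · exfalso
      apply hbW
      have h2 : b * b = 1 := by
        rw [show b * b = g * (g⁻¹ * b * g * (g⁻¹ * b * g)) * g⁻¹ by group, h]; group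
      rw [mem_W4 B]
      exact commuting_invols B T.ten T.conjX (T.inside b hbC h2) h2 hbx.symm
    · rw [show b * b = g * (g⁻¹ * b * g * (g⁻¹ * b * g)) * g⁻¹ by group, h]
  have hxtc : x * t = t * x := B.mul_z hxQ
  have hex : e * x * e⁻¹ = x * t := by
    rw [mul_inv_eq_iff_eq_mul, hxtc, mul_assoc t x e, hxe, ← mul_assoc t t, B.z_sq, one_mul]
  set a0 := e * b * e⁻¹ * b⁻¹ with ha0
  have ha0Q : a0 ∈ Q := by
    rw [ha0, show e * b * e⁻¹ * b⁻¹ = e * (b * e⁻¹ * b⁻¹) by group]
    exact Q.mul_mem he (B.conj_mem b hbC _ (Q.inv_mem he))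
  have ha0x : a0 * x = x * a0 := by
    have h1 : Commute (e * b * e⁻¹) (x * t) := by
      rw [← hex]; exact Commute.conj_iff _ |>.2 hbx
    have h2 : Commute (e * b * e⁻¹) t := by
      refine ((T.mem_C _).1 ?_)
      exact C.mul_mem (C.mul_mem (B.Q_le he) hbC) (C.inv_mem (B.Q_le he))
    have h3 : Commute (e * b * e⁻¹) x := by
      have := h1.mul_right h2
      rwa [mul_assoc x t t, B.z_sq, mul_one] at this
    exact (h3.mul_left (show Commute b x from hbx).inv_left).eq
  have hcc : e * b * e⁻¹ = a0 * b := by rw [ha0]; group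
  have ha0W : a0 ∉ W4 t x := by
    intro hW
    have hsq : a0 * b * (a0 * b) = x := by
      rw [show a0 * b * (a0 * b) = a0 * (b * a0) * b by group, W4_comm B hW hbt hbx,
        show a0 * (a0 * b) * b = (a0 * a0) * (b * b) by group, hbb]
      have : a0 * a0 = 1 := by
        rcases (mem_W4 B).1 hW with e' | e' | e' | e' <;> rw [e']
        · simp
        · exact B.z_sq
        · exact hx2
        · exact (B.mem_X.1 (B.xz_mem T.conjX)).2.1
      rw [this, one_mul]
    rw [← hcc, show e * b * e⁻¹ * (e * b * e⁻¹) = e * (b * b) * e⁻¹ by group, hbb, hex] at hsq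
    exact B.z_ne (mul_eq_left.1 hsq)
  -- some element of `Q ∩ C(x)` anticommutes with `a0`
  obtain ⟨a, ha, hax, haa0⟩ : ∃ a ∈ Q, a * x = x * a ∧ a * a0 = t * (a0 * a) := by
    by_contra hcon
    push Not at hcon
    have hall : ∀ a ∈ Q, a * x = x * a → a * a0 = a0 * a := fun a ha hax =>
      (B.comm a ha a0 ha0Q).resolve_right (hcon a ha hax)
    obtain ⟨y, hy, hye, hyA⟩ : ∃ y ∈ Q, y * e = e * y ∧
        (∀ a ∈ Q, a * x = x * a → a * y = y * a) ∧ (y = 1 ∨ y = t → a0 ∈ W4 t x) := by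
      rcases B.comm e he a0 ha0Q with h | h
      · exact ⟨a0, ha0Q, h.symm, hall, fun hh => (mem_W4 B).2 (hh.elim Or.inl fun q => Or.inr (Or.inl q))⟩
      · have hex' : e * x = t * (x * e) := by
          rw [hxe, ← mul_assoc t t, B.z_sq, one_mul]
        refine ⟨a0 * x, Q.mul_mem ha0Q hxQ, (B.comm_mul_anti he ha0Q h hex').symm, fun a ha hax =>
          ((show Commute a a0 from hall a ha hax).mul_right hax).eq, fun hh => (mem_W4 B).2 ?_⟩
        rcases hh with hh | hh
        · exact Or.inr (Or.inr (Or.inl (by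
            rw [eq_inv_of_mul_eq_one_left hh, inv_eq_of_mul_eq_one_right hx2])))
        · exact Or.inr (Or.inr (Or.inr (by
            rw [hxtc, ← hh, mul_assoc, hx2, mul_one])))
    refine ha0W (hyA.2 (B.cen y hy fun b' hb' => ?_))
    rcases B.comm x hxQ b' hb' with h | h
    · exact (hyA.1 b' hb' h.symm).symm
    · have h' := hyA.1 (b' * e) (Q.mul_mem hb' he) (B.comm_mul_anti hxQ hb' h hxe).symm
      have := ((show Commute y (b' * e) from h'.symm).mul_right (show Commute y e⁻¹ from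
        (show Commute y e from hye).inv_right)).eq
      simpa using this
  refine ⟨a0, ha0Q, ⟨a, ha, hax, haa0⟩, ?_⟩
  clear! a
  intro a ha hax haa0
  set w := a * b * a⁻¹ * b⁻¹ with hw
  have hwQ : w ∈ Q := by
    rw [hw, show a * b * a⁻¹ * b⁻¹ = a * (b * a⁻¹ * b⁻¹) by group]
    exact Q.mul_mem ha (B.conj_mem b hbC _ (Q.inv_mem ha))
  have hwg : g⁻¹ * w * g ∈ Q := by
    rw [hw, show g⁻¹ * (a * b * a⁻¹ * b⁻¹) * g =
      g⁻¹ * a * g * (g⁻¹ * b * g) * (g⁻¹ * a * g)⁻¹ * (g⁻¹ * b * g)⁻¹ by group]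
    refine Q.mul_mem (B.conj_mem _ ((T.mem_C _).2 ?_) _ hbQ) (Q.inv_mem hbQ)
    calc g⁻¹ * a * g * t = g⁻¹ * (a * x) * g := by rw [hx]; group
      _ = t * (g⁻¹ * a * g) := by rw [hax, hx]; group
  have hwx : w * x = x * w := by
    have ha' : Commute a x := hax
    have hb' : Commute b x := hbx
    exact (((ha'.mul_left hb').mul_left ha'.inv_left).mul_left hb'.inv_left).eq
  have hw2 : w * w = 1 := by
    rcases B.sq w hwQ with h | h
    · exact h
    rcases B.sq _ hwg with h' | h'
    · rw [show w * w = g * (g⁻¹ * w * g * (g⁻¹ * w * g)) * g⁻¹ by group, h']; group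
    · exfalso
      rw [show w * w = g * (g⁻¹ * w * g * (g⁻¹ * w * g)) * g⁻¹ by group, h'] at h
      exact hxt h
  have hwW : w ∈ W4 t x := (mem_W4 B).2 (commuting_invols B T.ten T.conjX hwQ hw2 hwx.symm)
  have hat : a * t = t * a := B.mul_z ha
  have hab : a * b = w * (b * a) := by rw [hw]; group
  have haw : Commute a w := W4_comm B hwW hat hax
  have hbw : Commute b w := W4_comm B hwW hbt hbx
  have haW : a ∉ W4 t x := fun h => by
    have h' : Commute a a0 := (W4_comm B h (B.mul_z ha0Q) ha0x).symm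
    exact B.anti_ne haa0 h'.eq
  -- conjugation by `e`
  have hewe : e * w * e⁻¹ = t * w := by
    obtain ⟨δ, hδ, hδ'⟩ : ∃ δ : G, (∀ c ∈ C, δ * c = c * δ) ∧ e * a * e⁻¹ = δ * a := by
      rcases B.comm e he a ha with h | h
      · exact ⟨1, fun c _ => by simp, by rw [one_mul]; exact mul_inv_eq_iff_eq_mul.2 h⟩
      · exact ⟨t, fun c hc => (B.z_cen c hc).symm,
          mul_inv_eq_iff_eq_mul.2 (by rw [h, mul_assoc])⟩
    have haC : a ∈ C := B.Q_le ha
    have ha0C : a0 ∈ C := B.Q_le ha0Q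
    have h1 : e * w * e⁻¹ = (δ * a) * (a0 * b) * (δ * a)⁻¹ * (a0 * b)⁻¹ := by
      rw [← hcc, ← hδ', hw]; group
    have h2 : (δ * a) * (a0 * b) * (δ * a)⁻¹ = a * (a0 * b) * a⁻¹ := by
      have h3 : a * (a0 * b) * a⁻¹ ∈ C :=
        C.mul_mem (C.mul_mem haC (C.mul_mem ha0C hbC)) (C.inv_mem haC)
      rw [show δ * a * (a0 * b) * (δ * a)⁻¹ = δ * (a * (a0 * b) * a⁻¹) * δ⁻¹ by group, hδ _ h3]
      group
    rw [h1, h2, show a * (a0 * b) * a⁻¹ * (a0 * b)⁻¹ =
        (a * a0) * (b * a⁻¹ * b⁻¹) * a0⁻¹ by group, haa0,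
      show t * (a0 * a) * (b * a⁻¹ * b⁻¹) * a0⁻¹ = t * (a0 * w * a0⁻¹) by rw [hw]; group,
      W4_comm B hwW (B.mul_z ha0Q) ha0x, mul_inv_cancel_right]
  rcases (mem_W4 B).1 hwW with h | h | h | h
  · exfalso
    rw [h, mul_one, mul_one, mul_inv_cancel] at hewe
    exact B.z_ne hewe.symm
  · exfalso
    have := t_comm_Q B he
    rw [h, ← this, mul_inv_cancel_right, B.z_sq] at hewe
    exact B.z_ne hewe
  · rw [hab, h]
  · exfalso
    have hat2 : a * a = t := by
      refine (B.sq a ha).resolve_left fun h2 => haW ((mem_W4 B).2 ?_)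
      exact commuting_invols B T.ten T.conjX ha h2 hax.symm
    have hsq : a * b * (a * b) = 1 := by
      have hba : b * a = w⁻¹ * (a * b) := by rw [hw]; group
      calc a * b * (a * b) = a * (b * a) * b := by group
        _ = a * w⁻¹ * a * (b * b) := by rw [hba]; group
        _ = w⁻¹ * (a * a) * (b * b) := by rw [haw.inv_right.eq]; group
        _ = 1 := by
          rw [hat2, hbb, h, mul_inv_rev, inv_eq_of_mul_eq_one_right B.z_sq,
            inv_eq_of_mul_eq_one_right hx2, show t * x * t * x = t * (x * t) * x by group, hxtc,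
            show t * (t * x) * x = t * t * (x * x) by group, B.z_sq, hx2, one_mul]
    have habQ : a * b ∈ Q := T.inside _ (C.mul_mem (B.Q_le ha) hbC) hsq
    have hbQ' : b ∈ Q := by
      have := Q.mul_mem (Q.inv_mem ha) habQ
      rwa [inv_mul_cancel_left] at this
    rcases B.sq b hbQ' with h2 | h2
    · exact hbW ((mem_W4 B).2 (commuting_invols B T.ten T.conjX hbQ' h2 hbx.symm))
    · exact hxt (hbb.symm.trans h2)


theorem Twist.exists_value (T : Twist B g) : ∃ a b : G, (a ∈ Q ∧ a * (g * t * g⁻¹) = g * t * g⁻¹ * a) ∧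
    (g⁻¹ * b * g ∈ Q ∧ b * t = t * b) ∧ a * b = g * t * g⁻¹ * (b * a) := by
  obtain ⟨c, hc, hcc, hcW⟩ := exists_out_W4 B T.symm.conjX
  have hbt : g * c * g⁻¹ * t = t * (g * c * g⁻¹) := by
    rw [inv_inv] at hcc
    calc g * c * g⁻¹ * t = g * (c * (g⁻¹ * t * g)) * g⁻¹ := by group
      _ = t * (g * c * g⁻¹) := by rw [hcc]; group
  have hcQ : g⁻¹ * (g * c * g⁻¹) * g ∈ Q := by
    rwa [show g⁻¹ * (g * c * g⁻¹) * g = c by group]
  obtain ⟨a0, -, ⟨a, ha, hax, haa0⟩, h⟩ := T.value_of hcQ hbt (by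
    intro hW
    apply hcW
    rw [inv_inv]
    rcases (mem_W4 B).1 hW with e | e | e | e <;> rw [mem_W4 B]
    · left; rw [show c = g⁻¹ * (g * c * g⁻¹) * g by group, e]; group
    · right; right; left; rw [show c = g⁻¹ * (g * c * g⁻¹) * g by group, e]
    · right; left; rw [show c = g⁻¹ * (g * c * g⁻¹) * g by group, e]; group
    · right; right; right
      have hxt : g * t * g⁻¹ * t = t * (g * t * g⁻¹) := B.mul_z (B.mem_X.1 T.conjX).1
      rw [show c = g⁻¹ * (g * c * g⁻¹) * g by group, e, hxt]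
      group)
  exact ⟨a, _, ⟨ha, hax⟩, ⟨hcQ, hbt⟩, h a ha hax haa0⟩


theorem Twist.false (T : Twist B g) : False := by
  obtain ⟨hxQ, hx2, hx1, hxt⟩ := B.mem_X.1 T.conjX
  obtain ⟨a1, b1, ⟨ha1, ha1x⟩, ⟨hb1, hb1t⟩, hv⟩ := T.symm.exists_value
  rw [inv_inv] at ha1x hb1 hv
  set x := g * t * g⁻¹ with hx
  set a := g * b1 * g⁻¹ with ha
  set b := g * a1 * g⁻¹ with hb
  have hbQ : g⁻¹ * b * g ∈ Q := by rw [hb, show g⁻¹ * (g * a1 * g⁻¹) * g = a1 by group]; exact ha1
  have hbt : b * t = t * b := by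
    calc b * t = g * (a1 * (g⁻¹ * t * g)) * g⁻¹ := by rw [hb]; group
      _ = t * b := by rw [ha1x, hb]; group
  have haQ : a ∈ Q := hb1
  have hax : a * x = x * a := by
    calc a * x = g * (b1 * t) * g⁻¹ := by rw [ha, hx]; group
      _ = x * a := by rw [hb1t, ha, hx]; group
  have hba : b * a = t * (a * b) := by
    calc b * a = g * (a1 * b1) * g⁻¹ := by rw [ha, hb]; group
      _ = t * (a * b) := by rw [hv, ha, hb]; group
  have hab : a * b = t * (b * a) := by rw [hba, ← mul_assoc t t, B.z_sq, one_mul]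
  have hbW : b ∉ W4 t x := by
    intro h
    have := W4_comm B h (B.mul_z haQ) hax
    exact B.anti_ne hab this
  obtain ⟨a0, ha0Q, ⟨a', ha', ha'x, ha'a0⟩, hval⟩ := T.value_of hbQ hbt hbW
  rcases B.comm a haQ a0 ha0Q with hq | h
  · have haa : a * a' * a0 = t * (a0 * (a * a')) := by
      calc a * a' * a0 = a * t * (a0 * a') := by rw [mul_assoc, ha'a0]; group
        _ = t * (a * a0) * a' := by rw [B.mul_z haQ]; group
        _ = t * (a0 * (a * a')) := by rw [hq]; group
    have hv := hval (a * a') (Q.mul_mem haQ ha')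
      ((show Commute a x from hax).mul_left (show Commute a' x from ha'x)).eq haa
    have hl : a * a' * b = x * t * (b * (a * a')) := by
      calc a * a' * b = a * (a' * b) := by group
        _ = a * x * (b * a') := by rw [hval a' ha' ha'x ha'a0, ← hx]; simp only [mul_assoc]
        _ = x * (a * b) * a' := by rw [hax]; simp only [mul_assoc]
        _ = x * t * (b * (a * a')) := by rw [hab]; simp only [mul_assoc]
    rw [hl] at hv
    exact B.z_ne (mul_eq_left.1 (mul_right_cancel hv))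
  · have := hval a haQ hax h
    rw [hab] at this
    exact hxt (mul_right_cancel this).symm

end Exclude

end CfsgLib.J3Type
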