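import Cfsg.Agent.Lib.J3Type.Count

/-!
The Sylow subgroups for the primes 17 and 19.
-/

set_option autoImplicit false
set_option synthInstance.maxSize 512

open scoped Classical

namespace CfsgLib.J3Type

open CfsgLib.J2Order

theorem divs17 : ∀ i ∈ Nat.divisors 128, ∀ j ∈ Nat.divisors 243, ∀ k ∈ Nat.divisors 95,
    i * j * k % 17 = 1 → i * j * k ∈ ([1, 18, 120, 171, 324, 1140, 2160, 2432, 3078, 20520, 38880, 369360] : List ℕ) := by
  decide +kernel

theorem divs19 : ∀ i ∈ Nat.divisors 128, ∀ j ∈ Nat.divisors 243, ∀ k ∈ Nat.divisors 85,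
    i * j * k % 19 = 1 → i * j * k ∈ ([1, 20, 96, 153, 324, 1920, 3060, 6480, 14688, 31104, 293760] : List ℕ) := by
  decide +kernel

theorem alt5_sixteen : ∀ a : alternatingGroup (Fin 5), a ^ 16 = 1 → a * a = 1 := by
  intro a ha
  rcases alt5_odd_iff a with h | h
  · rw [eq_one_of_two_pows ha h (by norm_num), one_mul]
  · rwa [pow_two] at h

variable {G : Type*} [Group G] [Finite G] {t x y w s : G} {E K C : Subgroup G}

/-- No element has order 16. -/
theorem Data.no_sixteen (D : Data t E K C) (b : G) : orderOf b ≠ 16 := by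
  intro hb
  have := Fintype.ofFinite G
  obtain ⟨e⟩ := D.S.equivK
  have hb8 : orderOf (b ^ 8) = 2 := by rw [orderOf_pow' b (by norm_num), hb]; norm_num
  obtain ⟨h1, h2⟩ := orderTwo hb8
  obtain ⟨g, hg⟩ := D.exists_to_t h2 h1
  have hcC : g * b * g⁻¹ ∈ C := by
    rw [D.memC, ← hg]
    exact conj_comm (Commute.pow_right (Commute.refl b) 8).eq
  have hco : orderOf (g * b * g⁻¹) = 16 :=
    (orderOf_injective (MulAut.conj g).toMonoidHom (MulAut.conj g).injective b).trans hb
  set c : C := ⟨g * b * g⁻¹, hcC⟩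
  have hρ : ∀ {q k : G} (hq : q ∈ E) (hk : k ∈ K) (hqk : q * k ∈ C), D.S.ρ ⟨q * k, hqk⟩ = D.S.ρK ⟨k, hk⟩ := by
    intro q k hq hk hqk
    rw [show (⟨q * k, hqk⟩ : C) = ⟨q, D.S.Q_le hq⟩ * ⟨k, D.S.K_le hk⟩ from rfl, map_mul,
      D.S.ρ_Q (q := ⟨q, D.S.Q_le hq⟩) hq, one_mul]
    rfl
  obtain ⟨q, hq, k, hk, hqk⟩ := D.S.decomp _ hcC
  have hρc : D.S.ρ c = D.S.ρK ⟨k, hk⟩ := by
    rw [← hρ hq hk (hqk ▸ hcC)]
    exact congrArg _ (Subtype.ext hqk)
  have hk16 : (⟨k, hk⟩ : K) ^ 16 = 1 := by
    apply D.S.ρK_injective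
    rw [map_pow, ← hρc, ← map_pow, map_one,
      show c ^ 16 = 1 from Subtype.ext (show (g * b * g⁻¹) ^ 16 = 1 from hco ▸ pow_orderOf_eq_one _), map_one]
  have hkk : (⟨k, hk⟩ : K) * ⟨k, hk⟩ = 1 := e.injective (by
    rw [map_mul, map_one]; exact alt5_sixteen _ (by rw [← map_pow, hk16, map_one]))
  obtain ⟨q', hq', k', hk', hqk'⟩ := D.S.decomp _ (C.mul_mem hcC hcC)
  have hk'1 : (⟨k', hk'⟩ : K) = 1 := by
    apply D.S.ρK_injective
    rw [← hρ hq' hk' (hqk' ▸ C.mul_mem hcC hcC), map_one,
      show (⟨q' * k', hqk' ▸ C.mul_mem hcC hcC⟩ : C) = c * c from Subtype.ext hqk'.symm, map_mul, hρc, ← map_mul,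
      hkk, map_one]
  have hsqE : g * b * g⁻¹ * (g * b * g⁻¹) ∈ E := by
    rw [hqk', show k' = 1 from congrArg Subtype.val hk'1, mul_one]
    exact hq'
  have h8 : (g * b * g⁻¹) ^ 8 = 1 := by
    rw [show (g * b * g⁻¹) ^ 8 = ((g * b * g⁻¹ * (g * b * g⁻¹)) * (g * b * g⁻¹ * (g * b * g⁻¹))) ^ 2 by
      rw [show (8 : ℕ) = 2 * 2 * 2 by norm_num, pow_mul, pow_mul, pow_two (g * b * g⁻¹), pow_two (_ * _)]]
    rcases D.S.sq _ hsqE with h | h <;> rw [h]
    · exact one_pow 2
    · rw [pow_two, D.S.z_sq]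
  have := orderOf_dvd_of_pow_eq_one h8
  rw [hco] at this
  norm_num at this

/-- The quotient of the normaliser of a Sylow subgroup of prime order is cyclic. -/
theorem quotient_cyclic {p : ℕ} [hp : Fact p.Prime] (P : Sylow p G) (hP : Nat.card P = p) :
    ∃ h : ((Subgroup.centralizer ((P : Subgroup G) : Set G)).subgroupOf
      (Subgroup.normalizer ((P : Subgroup G) : Set G))).Normal,
      IsCyclic (↥(Subgroup.normalizer ((P : Subgroup G) : Set G)) ⧸
        (Subgroup.centralizer ((P : Subgroup G) : Set G)).subgroupOf _) := by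
  rw [← Subgroup.normalizerMonoidHom_ker]
  refine ⟨MonoidHom.normal_ker _, ?_⟩
  haveI : IsCyclic (P : Subgroup G) := isCyclic_of_prime_card hP
  haveI : Fact (Nat.Prime (Nat.card (P : Subgroup G))) := ⟨by rw [show Nat.card (P : Subgroup G) = p from hP]; exact hp.out⟩
  haveI : IsCyclic (MulAut (P : Subgroup G)) :=
    isCyclic_of_surjective _ (IsCyclic.mulAutMulEquiv (G := (P : Subgroup G))).symm.surjective
  exact isCyclic_of_surjective _
    (QuotientGroup.quotientKerEquivRange (Subgroup.normalizerMonoidHom (P : Subgroup G))).symm.surjective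

theorem centralizer_card_eq {p : ℕ} [Fact p.Prime] (P R : Sylow p G) :
    Nat.card (Subgroup.centralizer ((P : Subgroup G) : Set G)) =
      Nat.card (Subgroup.centralizer ((R : Subgroup G) : Set G)) := by
  obtain ⟨g, hg⟩ := MulAction.exists_smul_eq G P R
  have hmem : ∀ a : G, a ∈ (R : Subgroup G) ↔ g⁻¹ * a * g ∈ (P : Subgroup G) := by
    intro a
    rw [← hg, Sylow.coe_subgroup_smul]
    constructor
    · rintro ⟨b, hb, rfl⟩
      simp only [MulDistribMulAction.toMonoidEnd_apply, MulDistribMulAction.toMonoidHom_apply, MulAut.smul_def,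
        MulAut.conj_apply]
      rw [show g⁻¹ * (g * b * g⁻¹) * g = b by group]
      exact hb
    · intro h
      exact ⟨_, h, by simp [mul_assoc]⟩
  refine Nat.card_congr ⟨fun c => ⟨g * c * g⁻¹, Subgroup.mem_centralizer_iff.2 fun a ha => ?_⟩,
    fun c => ⟨g⁻¹ * c * g, Subgroup.mem_centralizer_iff.2 fun a ha => ?_⟩,
    fun c => Subtype.ext (by group), fun c => Subtype.ext (by group)⟩
  · have h := Subgroup.mem_centralizer_iff.1 c.2 _ ((hmem a).1 ha)
    calc a * (g * c * g⁻¹) = g * (g⁻¹ * a * g * c) * g⁻¹ := by group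
      _ = g * c * g⁻¹ * a := by rw [h]; group
  · have h := Subgroup.mem_centralizer_iff.1 c.2 (g * a * g⁻¹) ((hmem _).2 (by rw [show g⁻¹ * (g * a * g⁻¹) * g = a by group]; exact ha))
    calc a * (g⁻¹ * c * g) = g⁻¹ * (g * a * g⁻¹ * c) * g := by group
      _ = g⁻¹ * c * g * a := by rw [h]; group

theorem prime_order_mem_sylow {p : ℕ} [hp : Fact p.Prime] (hP : ∀ P : Sylow p G, Nat.card P = p) {a : G}
    (ha : orderOf a = p) : ∃ P : Sylow p G, (P : Subgroup G) = Subgroup.zpowers a := by
  obtain ⟨P, hle⟩ := (IsPGroup.of_card (p := p) (n := 1)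
    (by rw [Nat.card_zpowers, ha, pow_one] : Nat.card (Subgroup.zpowers a) = p ^ 1)).exists_le_sylow
  exact ⟨P, (Subgroup.eq_of_le_of_card_ge hle
    (by rw [Nat.card_zpowers, ha, show Nat.card (P : Subgroup G) = p from hP P])).symm⟩

/-- The centraliser orders of the Sylow subgroups for 17 and 19, first estimates. -/
theorem seventeen_first (F : Five t x y w s E K C) (hs : IsSimpleGroup G) (hc : Nat.card G = 50232960)
    [Fact (Nat.Prime 17)] (P : Sylow 17 G) :
    Nat.card P = 17 ∧ ∃ c d : ℕ, Nat.card (Subgroup.centralizer ((P : Subgroup G) : Set G)) = c ∧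
      Nat.card (Subgroup.normalizer ((P : Subgroup G) : Set G)) = c * d ∧
      ((c = 17 ∧ d = 8) ∨ ((c = 323 ∨ c = 2907) ∧ 4 ∣ d)) := by
  have hG : Nat.card G = 17 * 2954880 := by rw [hc]
  have hP := sylow_card_prime hG (by norm_num) P
  refine ⟨hP, ?_⟩
  obtain ⟨n, d, hn, hn1, hn2, hd, hpc, hN, hnc⟩ := sylow_numbers hs hG (by norm_num) (by norm_num) P
  obtain ⟨h2, h5⟩ := F.D.cent_coprime F (by norm_num) P hP
  have hd16 : d ≠ 16 := by
    intro hd16
    obtain ⟨hnor, hcyc⟩ := quotient_cyclic P hP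
    set N := Subgroup.normalizer ((P : Subgroup G) : Set G)
    set H := (Subgroup.centralizer ((P : Subgroup G) : Set G)).subgroupOf N
    have hidx : Nat.card (N ⧸ H) = d := by
      have h := Subgroup.card_eq_card_quotient_mul_card_subgroup H
      rw [Nat.card_congr (Subgroup.subgroupOfEquivOfLe (centralizer_le_normalizer (P : Subgroup G))).toEquiv, hN,
        mul_comm] at h
      exact (Nat.eq_of_mul_eq_mul_right Nat.card_pos h).symm
    obtain ⟨q, hq⟩ := IsCyclic.exists_ofOrder_eq_natCard (α := N ⧸ H)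
    obtain ⟨b, rfl⟩ := QuotientGroup.mk'_surjective H q
    have hdvd : 16 ∣ orderOf (b : G) := by
      rw [Subgroup.orderOf_coe, ← hd16, ← hidx, ← hq]
      exact orderOf_map_dvd (QuotientGroup.mk' H) b
    obtain ⟨k, hk⟩ := hdvd
    refine F.D.no_sixteen ((b : G) ^ k) ?_
    have hk0 : k ≠ 0 := fun e => by
      rw [e, mul_zero] at hk
      exact (orderOf_pos (b : G)).ne' hk
    rw [orderOf_pow' _ hk0, hk, Nat.gcd_mul_left_left, Nat.mul_div_cancel _ (Nat.pos_of_ne_zero hk0)]
  obtain ⟨i, j, k, hi, hj, hk, rfl⟩ :=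
    dvd_three (a := 128) (b := 243) (c := 95) (by norm_num) (by norm_num) (by norm_num) (by simpa using hn)
  have hv := divs17 i hi j hj k hk hn1
  have hd5 : d = 1 ∨ d = 2 ∨ d = 4 ∨ d = 8 := by
    obtain ⟨m, hm, rfl⟩ := (Nat.dvd_prime_pow Nat.prime_two (m := 4)).1 (by simpa using hd)
    interval_cases m <;> simp_all
  refine ⟨_, d, rfl, hN, ?_⟩
  rw [hc] at hnc
  generalize Nat.card (Subgroup.centralizer ((P : Subgroup G) : Set G)) = c at h2 h5 hpc hnc
  generalize i * j * k = n at hv hn2 hnc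
  simp only [List.mem_cons, List.not_mem_nil, or_false] at hv
  rcases hv with rfl | rfl | rfl | rfl | rfl | rfl | rfl | rfl | rfl | rfl | rfl | rfl <;>
    rcases hd5 with rfl | rfl | rfl | rfl <;> omega

theorem nineteen_first (F : Five t x y w s E K C) (hs : IsSimpleGroup G) (hc : Nat.card G = 50232960)
    [Fact (Nat.Prime 19)] (R : Sylow 19 G) :
    Nat.card R = 19 ∧ ∃ c d : ℕ, Nat.card (Subgroup.centralizer ((R : Subgroup G) : Set G)) = c ∧
      Nat.card (Subgroup.normalizer ((R : Subgroup G) : Set G)) = c * d ∧ ¬ 4 ∣ c * d ∧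
      (17 ∣ c ∨ ((c = 19 ∨ c = 57 ∨ c = 171) ∧ c * d = 171)) := by
  have hG : Nat.card G = 19 * 2643840 := by rw [hc]
  have hP := sylow_card_prime hG (by norm_num) R
  refine ⟨hP, ?_⟩
  obtain ⟨n, d, hn, hn1, hn2, hd, hpc, hN, hnc⟩ := sylow_numbers hs hG (by norm_num) (by norm_num) R
  obtain ⟨h2, h5⟩ := F.D.cent_coprime F (by norm_num) R hP
  obtain ⟨i, j, k, hi, hj, hk, rfl⟩ :=
    dvd_three (a := 128) (b := 243) (c := 85) (by norm_num) (by norm_num) (by norm_num) (by simpa using hn)
  have hv := divs19 i hi j hj k hk hn1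
  have hd5 : d ∈ ({1, 2, 3, 6, 9, 18} : Finset ℕ) := by
    have := Nat.mem_divisors.2 ⟨hd, (by norm_num : (19 - 1 : ℕ) ≠ 0)⟩
    rwa [show Nat.divisors (19 - 1) = {1, 2, 3, 6, 9, 18} by decide] at this
  simp only [Finset.mem_insert, Finset.mem_singleton] at hd5
  refine ⟨_, d, rfl, hN, ?_⟩
  rw [hc] at hnc
  generalize Nat.card (Subgroup.centralizer ((R : Subgroup G) : Set G)) = c at h2 h5 hpc hnc ⊢
  generalize i * j * k = n at hv hn2 hnc
  simp only [List.mem_cons, List.not_mem_nil, or_false] at hv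
  rcases hv with rfl | rfl | rfl | rfl | rfl | rfl | rfl | rfl | rfl | rfl | rfl <;>
    rcases hd5 with rfl | rfl | rfl | rfl | rfl | rfl <;> omega

/-- A Sylow 17-subgroup is self-centralising. -/
theorem seventeen (F : Five t x y w s E K C) (hs : IsSimpleGroup G) (hc : Nat.card G = 50232960)
    [Fact (Nat.Prime 17)] (P : Sylow 17 G) :
    Nat.card (Subgroup.centralizer ((P : Subgroup G) : Set G)) = 17 ∧
    Nat.card (Subgroup.normalizer ((P : Subgroup G) : Set G)) = 136 := by
  haveI : Fact (Nat.Prime 19) := ⟨by norm_num⟩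
  obtain ⟨hP, c, d, hC, hN, h⟩ := seventeen_first F hs hc P
  rcases h with ⟨rfl, rfl⟩ | ⟨hc', h4⟩
  · exact ⟨hC, hN⟩
  exfalso
  set CP := Subgroup.centralizer ((P : Subgroup G) : Set G) with hCP
  set NP := Subgroup.normalizer ((P : Subgroup G) : Set G) with hNP
  obtain ⟨Q⟩ : Nonempty (Sylow 19 CP) := inferInstance
  have hQc : Nat.card Q = 19 := by
    rcases hc' with rfl | rfl
    · exact sylow_card_prime (m := 17) hC (by norm_num) Q
    · exact sylow_card_prime (m := 153) hC (by norm_num) Q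
  set R' := (Q : Subgroup CP).map CP.subtype with hR'
  have hR'c : Nat.card R' = 19 := by rw [Subgroup.card_map_of_injective CP.subtype_injective]; exact hQc
  -- `Q` is the only Sylow subgroup of the centraliser
  have hQn : Nat.card (Sylow 19 CP) = 1 := by
    have h1 := card_sylow_modEq_one 19 CP
    have hPle : (P : Subgroup G).subgroupOf CP ≤ Subgroup.normalizer ((Q : Subgroup CP) : Set CP) := by
      refine le_trans ?_ (centralizer_le_normalizer (Q : Subgroup CP))
      intro a ha
      refine Subgroup.mem_centralizer_iff.2 fun b _ => Subtype.ext ?_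
      exact (Subgroup.mem_centralizer_iff.1 b.2 (a : G) ha).symm
    have hPsub : (P : Subgroup G) ≤ CP := by
      haveI : IsCyclic (P : Subgroup G) := isCyclic_of_prime_card hP
      intro a ha
      rw [hCP, Subgroup.mem_centralizer_iff]
      intro b hb
      letI : CommGroup (P : Subgroup G) := IsCyclic.commGroup
      exact congrArg Subtype.val (mul_comm (⟨b, hb⟩ : (P : Subgroup G)) ⟨a, ha⟩)
    have h17 : 17 ∣ Nat.card (Subgroup.normalizer ((Q : Subgroup CP) : Set CP)) := by
      have h := Subgroup.card_dvd_of_le hPle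
      rwa [Nat.card_congr (Subgroup.subgroupOfEquivOfLe hPsub).toEquiv, show Nat.card (P : Subgroup G) = 17 from hP] at h
    have h19 : 19 ∣ Nat.card (Subgroup.normalizer ((Q : Subgroup CP) : Set CP)) := by
      have h := Subgroup.card_dvd_of_le (Subgroup.le_normalizer (H := (Q : Subgroup CP)))
      rwa [show Nat.card (Q : Subgroup CP) = 19 from hQc] at h
    obtain ⟨m, hm⟩ : 323 ∣ Nat.card (Subgroup.normalizer ((Q : Subgroup CP) : Set CP)) :=
      Nat.Coprime.mul_dvd_of_dvd_of_dvd (m := 17) (n := 19) (by norm_num) h17 h19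
    have hmul := (Subgroup.normalizer ((Q : Subgroup CP) : Set CP)).card_mul_index
    rw [show (Subgroup.normalizer ((Q : Subgroup CP) : Set CP)).index = Nat.card (Sylow 19 CP) from
      Q.card_eq_index_normalizer.symm, hm, hC] at hmul
    rw [Nat.ModEq] at h1
    generalize Nat.card (Sylow 19 CP) = r at hmul h1 ⊢
    have hr : r ∣ 9 := by
      refine ⟨m * (2907 / c), ?_⟩
      rcases hc' with rfl | rfl <;> norm_num <;> nlinarith
    have := Nat.le_of_dvd (by norm_num) hr
    omega
  haveI : Subsingleton (Sylow 19 CP) := (Nat.card_eq_one_iff_unique.1 hQn).1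
  have hnorm : NP ≤ Subgroup.normalizer (R' : Set G) := by
    intro g hg
    have hgC : ∀ a ∈ CP, g * a * g⁻¹ ∈ CP := by
      intro a ha
      rw [hCP, Subgroup.mem_centralizer_iff]
      intro b hb
      have hb' : g⁻¹ * b * g ∈ (P : Subgroup G) := by
        have h1 := (Subgroup.mem_normalizer_iff.1 (NP.inv_mem hg) b).1 hb
        rwa [inv_inv] at h1
      have h := Subgroup.mem_centralizer_iff.1 ha _ hb'
      calc b * (g * a * g⁻¹) = g * (g⁻¹ * b * g * a) * g⁻¹ := by group
        _ = g * a * g⁻¹ * b := by rw [h]; group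
    have hgR : ∀ a ∈ R', g * a * g⁻¹ ∈ R' := by
      rintro _ ⟨a, ha, rfl⟩
      have hmem : (⟨g * a * g⁻¹, hgC _ a.2⟩ : CP) ∈ (Q : Subgroup CP) := by
        have hord : (⟨g * a * g⁻¹, hgC _ a.2⟩ : CP) ^ 19 = 1 := by
          apply Subtype.ext
          show (g * (a : G) * g⁻¹) ^ 19 = 1
          have ha19 : a ^ 19 = 1 := by
            have hd := Subgroup.orderOf_dvd_natCard (Q : Subgroup CP) ha
            rw [show Nat.card (Q : Subgroup CP) = 19 from hQc] at hd
            exact orderOf_dvd_iff_pow_eq_one.1 hd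
          rw [conj_pow, ← SubgroupClass.coe_pow, ha19]
          simp
        have hpg : IsPGroup 19 (Subgroup.zpowers (⟨g * a * g⁻¹, hgC _ a.2⟩ : CP)) := by
          obtain ⟨e, -, he⟩ := (Nat.dvd_prime_pow (i := orderOf (⟨g * a * g⁻¹, hgC _ a.2⟩ : CP)) (m := 1)
            (by norm_num : Nat.Prime 19)).1
            (by rw [pow_one]; exact orderOf_dvd_of_pow_eq_one hord)
          exact IsPGroup.of_card (n := e) (by rw [Nat.card_zpowers]; exact he)
        obtain ⟨S, hS⟩ := hpg.exists_le_sylow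
        rw [Subsingleton.elim Q S]
        exact hS (Subgroup.mem_zpowers _)
      exact ⟨_, hmem, rfl⟩
    have heq : R'.map (MulAut.conj g).toMonoidHom = R' :=
      Subgroup.eq_of_le_of_card_ge (by rintro _ ⟨a, ha, rfl⟩; exact hgR a ha)
        (le_of_eq (Nat.card_congr (Subgroup.equivMapOfInjective R' (MulAut.conj g).toMonoidHom
          (MulAut.conj g).injective).toEquiv))
    refine Subgroup.mem_normalizer_iff.2 fun a => ⟨hgR a, fun ha => ?_⟩
    rw [← heq] at ha
    obtain ⟨b, hb, hba⟩ := ha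
    exact (MulAut.conj g).injective hba ▸ hb
  have hR19 : Nat.card R' = 19 ^ (Nat.card G).factorization 19 := by
    rw [hR'c, hc, show (50232960 : ℕ) = 19 * 2643840 by norm_num,
      Nat.factorization_mul (by norm_num) (by norm_num), Finsupp.add_apply,
      Nat.Prime.factorization_self (by norm_num : Nat.Prime 19),
      Nat.factorization_eq_zero_of_not_dvd (by norm_num : ¬ 19 ∣ 2643840)]
    norm_num
  obtain ⟨-, c', d', -, hN', h4', -⟩ := nineteen_first F hs hc (Sylow.ofCard R' hR19)
  rw [Sylow.coe_ofCard] at hN'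
  refine h4' (hN' ▸ (dvd_trans (dvd_mul_of_dvd_right h4 c) ?_))
  rw [← hN]
  exact Subgroup.card_dvd_of_le hnorm

/-- A Sylow 19-subgroup is self-centralising. -/
theorem nineteen (F : Five t x y w s E K C) (hs : IsSimpleGroup G) (hc : Nat.card G = 50232960)
    [Fact (Nat.Prime 19)] (R : Sylow 19 G) :
    Nat.card (Subgroup.centralizer ((R : Subgroup G) : Set G)) = 19 ∧
    Nat.card (Subgroup.normalizer ((R : Subgroup G) : Set G)) = 171 := by
  haveI : Fact (Nat.Prime 17) := ⟨by norm_num⟩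
  haveI : Fact (Nat.Prime 5) := ⟨by norm_num⟩
  haveI : Fact (Nat.Prime 3) := ⟨Nat.prime_three⟩
  letI : Fintype G := Fintype.ofFinite G
  have h17 : ∀ P : Sylow 17 G, Nat.card P = 17 := fun P => (seventeen_first F hs hc P).1
  have h19 : ∀ R : Sylow 19 G, Nat.card R = 19 := fun R => (nineteen_first F hs hc R).1
  have h171 : ∀ R : Sylow 19 G, ∃ c d : ℕ, Nat.card (Subgroup.centralizer ((R : Subgroup G) : Set G)) = c ∧
      Nat.card (Subgroup.normalizer ((R : Subgroup G) : Set G)) = c * d ∧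
      (c = 19 ∨ c = 57 ∨ c = 171) ∧ c * d = 171 := by
    intro R
    obtain ⟨hR, c, d, hC, hN, -, h | ⟨h1, h2⟩⟩ := nineteen_first F hs hc R
    · exfalso
      obtain ⟨⟨a, ha⟩, hao⟩ :=
        exists_prime_orderOf_dvd_card' (G := Subgroup.centralizer ((R : Subgroup G) : Set G)) 17 (hC ▸ h)
      rw [Subgroup.orderOf_mk] at hao
      obtain ⟨P, hPa⟩ := prime_order_mem_sylow h17 hao
      have hle : (R : Subgroup G) ≤ Subgroup.centralizer ((P : Subgroup G) : Set G) := by
        intro b hb
        rw [hPa, Subgroup.mem_centralizer_iff]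
        intro z hz
        obtain ⟨j, rfl⟩ := Subgroup.mem_zpowers_iff.1 hz
        exact ((show Commute a b from (Subgroup.mem_centralizer_iff.1 ha b hb).symm).zpow_left j).eq
      have := Subgroup.card_dvd_of_le hle
      rw [show Nat.card (R : Subgroup G) = 19 from hR, (seventeen F hs hc P).1] at this
      norm_num at this
    · exact ⟨c, d, hC, hN, h1, h2⟩
  obtain ⟨c, d, hC, hN, h1, h2⟩ := h171 R
  by_cases h19c : c = 19
  · exact ⟨h19c ▸ hC, hN.trans h2⟩
  exfalso
  -- otherwise there are too many elements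
  have h3 : ∀ R' : Sylow 19 G, ∃ v : G, orderOf v = 3 ∧ ∀ a ∈ (R' : Subgroup G), a * v = v * a := by
    intro R'
    have hd : 3 ∣ Nat.card (Subgroup.centralizer ((R' : Subgroup G) : Set G)) := by
      rw [centralizer_card_eq R' R, hC]
      rcases h1 with h | h | h
      · exact absurd h h19c
      · rw [h]; norm_num
      · rw [h]; norm_num
    obtain ⟨⟨v, hv⟩, hvo⟩ := exists_prime_orderOf_dvd_card' 3 hd
    rw [Subgroup.orderOf_mk] at hvo
    exact ⟨v, hvo, fun a ha => Subgroup.mem_centralizer_iff.1 hv a ha⟩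
  have hy5 : Nat.card (Subgroup.zpowers y) = 5 ^ (Nat.card G).factorization 5 := by
    rw [Nat.card_zpowers, F.y_ord, hc, show (50232960 : ℕ) = 5 * 10046592 by norm_num,
      Nat.factorization_mul (by norm_num) (by norm_num), Finsupp.add_apply,
      Nat.Prime.factorization_self (by norm_num : Nat.Prime 5),
      Nat.factorization_eq_zero_of_not_dvd (by norm_num : ¬ 5 ∣ 10046592)]
    norm_num
  have h5 : ∀ P : Sylow 5 G, Nat.card P = 5 := fun P =>
    sylow_card_prime (m := 10046592) (by rw [hc]) (by norm_num) P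
  have h53 : ∀ P : Sylow 5 G, ∃ v : G, orderOf v = 3 ∧ ∀ a ∈ (P : Subgroup G), a * v = v * a := by
    intro P
    obtain ⟨⟨f, hf⟩, hfo⟩ := exists_prime_orderOf_dvd_card' (G := (P : Subgroup G)) 5 (dvd_of_eq (h5 P).symm)
    rw [Subgroup.orderOf_mk] at hfo
    obtain ⟨⟨v, hv⟩, hvo⟩ := exists_prime_orderOf_dvd_card' (G := Subgroup.centralizer ({f} : Set G)) 3
      (by rw [F.D.five_conj_cent F hfo]; norm_num)
    rw [Subgroup.orderOf_mk] at hvo
    refine ⟨v, hvo, fun a ha => ?_⟩
    have heq : Subgroup.zpowers f = (P : Subgroup G) := Subgroup.eq_of_le_of_card_ge (Subgroup.zpowers_le.2 hf)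
      (by rw [Nat.card_zpowers, hfo, show Nat.card (P : Subgroup G) = 5 from h5 P])
    rw [← heq] at ha
    obtain ⟨j, rfl⟩ := Subgroup.mem_zpowers_iff.1 ha
    exact ((show Commute f v from (Subgroup.mem_centralizer_singleton_iff.1 hv).symm).zpow_left j).eq
  have hn5 : Nat.card (Sylow 5 G) = 837216 := by
    obtain ⟨φ, hinj, hrange, -⟩ := F.exists_norm
    have hcN : Nat.card (Subgroup.normalizer (Subgroup.zpowers y : Set G)) = 60 := by
      rw [← hrange, ← Nat.card_congr (MonoidHom.ofInjective hinj).toEquiv, Nat.card_prod,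
        DihedralGroup.nat_card, DihedralGroup.nat_card]
    have hm := (Subgroup.normalizer (Subgroup.zpowers y : Set G)).card_mul_index
    rw [(Sylow.ofCard _ hy5 : Sylow 5 G).card_eq_index_normalizer,
      show (Subgroup.normalizer ((Sylow.ofCard _ hy5 : Sylow 5 G) : Set G)) =
        Subgroup.normalizer (Subgroup.zpowers y : Set G) from rfl]
    rw [hcN, hc] at hm
    omega
  obtain ⟨P0⟩ : Nonempty (Sylow 17 G) := inferInstance
  have hn17 : Nat.card (Sylow 17 G) = 369360 := by
    have hm := (Subgroup.normalizer ((P0 : Subgroup G) : Set G)).card_mul_index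
    rw [(seventeen F hs hc P0).2, hc] at hm
    rw [P0.card_eq_index_normalizer,
      show (Subgroup.normalizer (P0 : Set G)) = Subgroup.normalizer ((P0 : Subgroup G) : Set G) from rfl]
    omega
  have hn19 : Nat.card (Sylow 19 G) = 293760 := by
    have hm := (Subgroup.normalizer ((R : Subgroup G) : Set G)).card_mul_index
    rw [hN, h2, hc] at hm
    rw [R.card_eq_index_normalizer,
      show (Subgroup.normalizer (R : Set G)) = Subgroup.normalizer ((R : Subgroup G) : Set G) from rfl]
    omega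
  have e5 := prime_elems_le h5
  have e15 := prod_elems_le (q := 3) (by norm_num) h5 h53
  have e17 := prime_elems_le h17
  have e19 := prime_elems_le h19
  have e57 := prod_elems_le (q := 3) (by norm_num) h19 h3
  rw [hn5] at e5 e15
  rw [hn17] at e17
  rw [hn19] at e19 e57
  -- the even elements
  have hidx : (Subgroup.centralizer ({t} : Set G)).index = 26163 := by
    have hm := (Subgroup.centralizer ({t} : Set G)).card_mul_index
    rw [← F.D.C_eq, F.D.core.card_C, hc] at hm
    rw [← F.D.C_eq]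
    omega
  set I := Finset.univ.filter fun z : G => IsConj z t with hI
  have hIc : I.card = 26163 := by
    rw [← hidx, ← Char.card_isConj_eq_index, Nat.card_eq_fintype_card, Fintype.card_subtype]
  have hev : 26163 * 704 ≤ (I.biUnion withInvol).card := by
    rw [card_withInvol_sum]
    calc 26163 * 704 = ∑ _i ∈ I, 704 := by rw [Finset.sum_const, hIc]; rfl
      _ ≤ _ := Finset.sum_le_sum fun i hi => by
        obtain ⟨g, hg⟩ := isConj_iff.1 (Finset.mem_filter.1 hi).2
        rw [← card_withInvol_conj g i, hg]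
        exact withInvol_lower F
  set U : Finset G := I.biUnion withInvol with hU
  have hUo : ∀ n : ℕ, ¬ 2 ∣ n → Disjoint U (ofOrder G n) := fun n hn => Finset.disjoint_left.2 fun a ha ha' => by
    obtain ⟨i, -, hai⟩ := Finset.mem_biUnion.1 ha
    exact hn (mem_ofOrder.1 ha' ▸ (mem_withInvol.1 hai).1)
  have hoo : ∀ m n : ℕ, m ≠ n → Disjoint (ofOrder G m) (ofOrder G n) := fun m n hne =>
    Finset.disjoint_left.2 fun a ha ha' => hne ((mem_ofOrder.1 ha).symm.trans (mem_ofOrder.1 ha'))
  have htot := Finset.card_le_univ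
    (U ∪ ofOrder G 5 ∪ ofOrder G (5 * 3) ∪ ofOrder G 17 ∪ ofOrder G 19 ∪ ofOrder G (19 * 3))
  rw [Finset.card_union_of_disjoint, Finset.card_union_of_disjoint, Finset.card_union_of_disjoint,
    Finset.card_union_of_disjoint, Finset.card_union_of_disjoint, ← Nat.card_eq_fintype_card, hc] at htot
  · omega
  · exact hUo 5 (by norm_num)
  all_goals
    simp only [Finset.disjoint_union_left]
    refine ?_
    repeat' constructor
  all_goals first | exact hUo _ (by norm_num) | exact hoo _ _ (by norm_num)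

end CfsgLib.J3Type
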