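import Cfsg.Agent.Lib.J3Type.Fifteen
import Cfsg.Agent.Lib.J3Type.AltSix
import Cfsg.Agent.Lib.Fusion.SplitExtraspecial
import Cfsg.Agent.S3035
import Cfsg.Agent.S0497

/-!
One class of involutions with centraliser `2^(1+4).A₅`: the centraliser of an element of order 3
centralised by an involution is an extension of a group of order 3 by `A₆`.
-/

set_option autoImplicit false

open scoped Classical

namespace CfsgLib.J3Type

open CfsgLib.J2Order

theorem alt6_card : Nat.card (alternatingGroup (Fin 6)) = 360 := by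
  rw [nat_card_alternatingGroup, Nat.card_eq_fintype_card, Fintype.card_fin]; decide

variable {G : Type*} [Group G] [Finite G] {t : G} {E K C : Subgroup G}

/-- A chosen element of order 3 of the complement. -/
structure Three (t x : G) (E K C : Subgroup G) : Prop where
  data : Data t E K C
  x_mem : x ∈ K
  x_ord : orderOf x = 3

theorem Data.exists_three (D : Data t E K C) : ∃ x, Three t x E K C := by
  haveI : Fact (Nat.Prime 3) := ⟨Nat.prime_three⟩
  obtain ⟨x, hx⟩ := exists_prime_orderOf_dvd_card' (G := K) 3 (by rw [D.S.card_K]; norm_num)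
  exact ⟨x, D, x.2, by rw [Subgroup.orderOf_coe]; exact hx⟩

namespace Three

variable {x : G} (T : Three t x E K C)
include T

theorem S : Setup t E K C := T.data.setup

theorem core : J2Type.Core t E K C := T.data.core

theorem x3 : x ^ 3 = 1 := by rw [← T.x_ord]; exact pow_orderOf_eq_one x

theorem x_ne : x ≠ 1 := fun h => by
  have := T.x_ord
  rw [h, orderOf_one] at this
  omega

theorem xC : x ∈ C := T.S.K_le T.x_mem

theorem xt : x * t = t * x := T.data.memC.1 T.xC

theorem sub_eq_inv {y : G} (hy : y ∈ Subgroup.zpowers x) : y = 1 ∨ y = x ∨ y = x⁻¹ := by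
  obtain ⟨j, rfl⟩ := Subgroup.mem_zpowers_iff.1 hy
  rw [← zpow_mod_orderOf, T.x_ord]
  have h0 := Int.emod_nonneg j (show ((3 : ℕ) : ℤ) ≠ 0 by norm_num)
  have h3 := Int.emod_lt_of_pos j (show (0 : ℤ) < ((3 : ℕ) : ℤ) by norm_num)
  rcases (show j % ((3 : ℕ) : ℤ) = 0 ∨ j % ((3 : ℕ) : ℤ) = 1 ∨ j % ((3 : ℕ) : ℤ) = 2 by omega) with e' | e' | e'
  · exact Or.inl (by rw [e', zpow_zero])
  · exact Or.inr (Or.inl (by rw [e', zpow_one]))
  · exact Or.inr (Or.inr (by
      rw [e']
      exact eq_inv_of_mul_eq_one_left (by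
        rw [← zpow_add_one, show (2 : ℤ) + 1 = ((3 : ℕ) : ℤ) from rfl, zpow_natCast, T.x3])))

theorem exists_inverter : ∃ s ∈ K, s * s = 1 ∧ s ≠ 1 ∧ s * x * s⁻¹ = x⁻¹ := by
  obtain ⟨e⟩ := T.S.equivK
  obtain ⟨i, hi2, hi1, hix⟩ := J2Type.alt5_three_inv (e ⟨x, T.x_mem⟩) (by
    rw [← map_pow, show (⟨x, T.x_mem⟩ : K) ^ 3 = 1 from Subtype.ext T.x3, map_one])
  refine ⟨(e.symm i : G), SetLike.coe_mem _, ?_, fun h => hi1 ?_, ?_⟩
  · rw [← Subgroup.coe_mul, ← map_mul, hi2, map_one]; rfl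
  · have : e.symm i = 1 := Subtype.ext h
    simpa using congrArg e this
  · have : e.symm i * ⟨x, T.x_mem⟩ * (e.symm i)⁻¹ = (⟨x, T.x_mem⟩ : K)⁻¹ := e.injective (by simp [hix])
    exact congrArg Subtype.val this

/-- All elements of order 3 of `C` are conjugate to `x` or its inverse. -/
theorem three_conj {y : G} (hy : y ∈ C) (hyo : orderOf y = 3) :
    ∃ c ∈ C, c * y * c⁻¹ = x := by
  haveI : Fact (Nat.Prime 3) := ⟨Nat.prime_three⟩
  have hT : Nat.card (Subgroup.zpowers (⟨x, T.xC⟩ : C)) = 3 ^ (Nat.card C).factorization 3 := by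
    rw [T.core.card_C, Nat.card_zpowers, Subgroup.orderOf_mk, T.x_ord, show (1920 : ℕ) = 3 ^ 1 * 640 by norm_num,
      Nat.factorization_mul (by norm_num) (by norm_num), Finsupp.add_apply,
      Nat.Prime.factorization_pow Nat.prime_three, Finsupp.single_eq_same,
      Nat.factorization_eq_zero_of_not_dvd (by norm_num : ¬ 3 ∣ 640)]
    norm_num
  obtain ⟨T2, hT2⟩ := (IsPGroup.of_card (p := 3) (n := 1)
    (by rw [Nat.card_zpowers, Subgroup.orderOf_mk, hyo, pow_one] :
      Nat.card (Subgroup.zpowers (⟨y, hy⟩ : C)) = 3 ^ 1)).exists_le_sylow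
  obtain ⟨⟨b, hb⟩, hbT⟩ := MulAction.exists_smul_eq C T2 (Sylow.ofCard _ hT)
  have hmem : (⟨b, hb⟩ : C) * ⟨y, hy⟩ * (⟨b, hb⟩ : C)⁻¹ ∈ ((Sylow.ofCard _ hT : Sylow 3 C) : Subgroup C) := by
    rw [← hbT, Sylow.coe_subgroup_smul]
    exact ⟨_, hT2 (Subgroup.mem_zpowers _), rfl⟩
  rw [Sylow.coe_ofCard, Subgroup.mem_zpowers_iff] at hmem
  obtain ⟨j, hj⟩ := hmem
  have hj' : b * y * b⁻¹ ∈ Subgroup.zpowers x :=
    Subgroup.mem_zpowers_iff.2 ⟨j, by simpa using congrArg Subtype.val hj⟩
  rcases T.sub_eq_inv hj' with h | h | h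
  · rw [conj_eq_one_iff] at h
    rw [h, orderOf_one] at hyo
    omega
  · exact ⟨b, hb, h⟩
  · obtain ⟨s, hs, -, -, hsx⟩ := T.exists_inverter
    refine ⟨s * b, C.mul_mem (T.S.K_le hs) hb, ?_⟩
    rw [show s * b * y * (s * b)⁻¹ = s * (b * y * b⁻¹) * s⁻¹ by group, h,
      show s * x⁻¹ * s⁻¹ = (s * x * s⁻¹)⁻¹ by group, hsx, inv_inv]

/-- The two pairs fixed by `x`. -/
theorem exists_pairs : ∃ u v : G, u ∈ T.S.X ∧ v ∈ T.S.X ∧ u * x = x * u ∧ v * x = x * v ∧
    T.S.pr u ≠ T.S.pr v ∧ (∀ w ∈ T.S.X, w * x = x * w → T.S.pr w = T.S.pr u ∨ T.S.pr w = T.S.pr v) ∧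
    ∀ s ∈ K, s * s = 1 → s ≠ 1 → s * x * s⁻¹ = x⁻¹ → T.S.pr (s * u * s⁻¹) = T.S.pr v := by
  let eP : T.S.P ≃ Fin 5 := Fintype.equivFinOfCardEq (by rw [Fintype.card_coe, T.S.card_P])
  set σ := eP.permCongrHom (T.S.ρK ⟨x, T.x_mem⟩) with hσ
  have hσ3 : σ ^ 3 = 1 := by
    rw [hσ, ← map_pow, ← map_pow, show (⟨x, T.x_mem⟩ : K) ^ 3 = 1 from Subtype.ext T.x3, map_one, map_one]
  have hσ1 : σ ≠ 1 := fun h => T.x_ne (by
    rw [hσ, MulEquiv.map_eq_one_iff] at h
    exact congrArg Subtype.val (T.S.ρK_injective (h.trans (map_one _).symm)))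
  obtain ⟨i, j, hij, hi, hj, hu⟩ := perm5_three σ hσ3 hσ1
  have hpick : ∀ l, σ l = l → ∃ u ∈ T.S.X, u * x = x * u ∧ T.S.pr u = ((eP.symm l : T.S.P) : Finset G) := by
    intro l hl
    obtain ⟨⟨p, hp⟩, hpl⟩ : ∃ p : T.S.P, p = eP.symm l := ⟨_, rfl⟩
    obtain ⟨u, huX, rfl⟩ := Finset.mem_image.1 hp
    refine ⟨u, huX, ?_, by rw [← hpl]⟩
    have hfix : T.S.ρ ⟨x, T.xC⟩ (eP.symm l) = eP.symm l := by
      apply eP.injective
      rw [Equiv.apply_symm_apply]
      exact hl
    rw [← hpl] at hfix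
    have h2 : T.S.pr (x * u * x⁻¹) = T.S.pr u := by
      rw [← T.S.ρ_pr ⟨x, T.xC⟩ huX]
      exact congrArg Subtype.val hfix
    have h3 := T.S.mem_pr.1 (h2 ▸ Finset.mem_insert_self _ _ : x * u * x⁻¹ ∈ T.S.pr u)
    rcases h3 with h3 | h3
    · exact (mul_inv_eq_iff_eq_mul.1 h3).symm
    · exfalso
      have e2 : x * (x * (x * u * x⁻¹) * x⁻¹) * x⁻¹ = u := by
        rw [show x * (x * (x * u * x⁻¹) * x⁻¹) * x⁻¹ = x ^ 3 * u * (x ^ 3)⁻¹ by
          simp only [pow_succ, pow_zero, one_mul]; group, T.x3]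
        group
      have hz : ∀ a : G, x * (a * t) * x⁻¹ = x * a * x⁻¹ * t := fun a => by
        rw [show x * (a * t) * x⁻¹ = x * a * (t * x⁻¹) by group,
          ← T.S.z_cen x⁻¹ (C.inv_mem T.xC)]
        group
      rw [h3, hz, h3, T.S.mul_zz, h3] at e2
      exact T.S.z_ne (mul_eq_left.1 e2)
  obtain ⟨u, huX, hux, hup⟩ := hpick i hi
  obtain ⟨v, hvX, hvx, hvp⟩ := hpick j hj
  refine ⟨u, v, huX, hvX, hux, hvx, ?_, ?_, ?_⟩
  · rw [hup, hvp]
    exact fun h => hij (eP.symm.injective (Subtype.ext h))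
  · intro w hw hwx
    have hfix : σ (eP ⟨T.S.pr w, Finset.mem_image_of_mem _ hw⟩) = eP ⟨T.S.pr w, Finset.mem_image_of_mem _ hw⟩ := by
      rw [hσ]
      simp only [Equiv.permCongrHom, MulEquiv.coe_mk, Equiv.permCongr_apply, Equiv.symm_apply_apply]
      congr 1
      apply Subtype.ext
      show ((T.S.ρ ⟨x, T.xC⟩ _ : T.S.P) : Finset G) = T.S.pr w
      rw [T.S.ρ_pr _ hw]
      simp only
      rw [mul_inv_eq_iff_eq_mul.2 hwx.symm]
    rcases hu _ hfix with h | h
    · left; rw [hup, ← h, Equiv.symm_apply_apply]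
    · right; rw [hvp, ← h, Equiv.symm_apply_apply]
  · intro s hs hs2 hs1 hsx
    have hsi : s⁻¹ = s := inv_eq_of_mul_eq_one_right hs2
    set κ := eP.permCongrHom (T.S.ρK ⟨s, hs⟩) with hκ
    have hne : κ i ≠ i := by
      refine perm5_swap σ hσ3 hσ1 κ ?_ ?_ ?_ ?_ i hi
      · rw [hκ, ← map_mul, ← map_mul, show (⟨s, hs⟩ : K) * ⟨s, hs⟩ = 1 from Subtype.ext hs2, map_one, map_one]
      · intro h
        rw [hκ, MulEquiv.map_eq_one_iff] at h
        exact hs1 (congrArg Subtype.val (T.S.ρK_injective (h.trans (map_one _).symm)))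
      · rw [hκ]
        exact (Equiv.Perm.sign_permCongr eP _).trans (T.S.sign_ρK _)
      · rw [hκ, hσ, ← map_mul, ← map_mul, ← map_mul, ← map_mul, ← map_inv, ← map_inv]
        congr 2
        apply Subtype.ext
        show s * x * s = x⁻¹
        rw [← hsx, hsi]
    have hsu : s * u * s⁻¹ * x = x * (s * u * s⁻¹) := by
      have h1 : Commute u x⁻¹ := (show Commute u x from hux).inv_right
      have h2 : Commute (s * u * s⁻¹) (s * x⁻¹ * s⁻¹) := Commute.conj_iff _ |>.2 h1
      rw [show s * x⁻¹ * s⁻¹ = (s * x * s⁻¹)⁻¹ by group, hsx, inv_inv] at h2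
      exact h2.eq
    have hsX := T.S.conj_X (T.S.K_le hs) huX
    have hfix : σ (κ i) = κ i := by
      have h1 := congrArg (fun f => f i)
        (show κ * σ = σ⁻¹ * κ by
          rw [hκ, hσ, ← map_mul, ← map_mul, ← map_inv, ← map_inv, ← map_mul, ← map_mul]
          congr 2
          apply Subtype.ext
          show s * x = x⁻¹ * s
          exact mul_inv_eq_iff_eq_mul.1 hsx)
      simp only [Equiv.Perm.mul_apply, hi] at h1
      nth_rewrite 1 [h1]
      simp
    have hκj : κ i = j := (hu _ hfix).resolve_left hne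
    rw [hvp, ← hκj, hκ]
    simp only [Equiv.permCongrHom, MulEquiv.coe_mk, Equiv.permCongr_apply, Equiv.symm_apply_apply]
    show _ = ((T.S.ρ ⟨s, T.S.K_le hs⟩ _ : T.S.P) : Finset G)
    have he : eP.symm i = ⟨T.S.pr u, Finset.mem_image_of_mem _ huX⟩ := Subtype.ext hup.symm
    rw [he, T.S.ρ_pr _ huX]

/-- The pairs fixed by `x` and the group they generate. -/
structure Pairs (T : Three t x E K C) (u v : G) : Prop where
  uX : u ∈ T.S.X
  vX : v ∈ T.S.X
  ux : u * x = x * u
  vx : v * x = x * v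
  anti : u * v = t * (v * u)
  ne : T.S.pr u ≠ T.S.pr v
  only : ∀ w ∈ T.S.X, w * x = x * w → T.S.pr w = T.S.pr u ∨ T.S.pr w = T.S.pr v
  swap : ∀ s ∈ K, s * s = 1 → s ≠ 1 → s * x * s⁻¹ = x⁻¹ → T.S.pr (s * u * s⁻¹) = T.S.pr v

theorem exists_Pairs : ∃ u v : G, Pairs T u v := by
  obtain ⟨u, v, huX, hvX, hux, hvx, hne, honly, hswap⟩ := T.exists_pairs
  exact ⟨u, v, huX, hvX, hux, hvx, T.S.anti_of_ne huX hvX hne, hne, honly, hswap⟩

/-- An element of `C` centralising `x`. -/
theorem cent_C {c : G} (hc : c ∈ C) (hcx : c * x = x * c) :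
    ∃ q y : G, q ∈ E ∧ q * x = x * q ∧ y ∈ Subgroup.zpowers x ∧ c = q * y := by
  obtain ⟨q, hq, k, hk, rfl⟩ := T.S.decomp c hc
  obtain ⟨h1, h2⟩ := T.core.commute_decomp hq hk T.x_mem hcx
  refine ⟨q, k, hq, h2, ?_, rfl⟩
  obtain ⟨e⟩ := T.S.equivK
  have h3 : (⟨x, T.x_mem⟩ : K) ^ 3 = 1 := Subtype.ext T.x3
  have := J2Type.alt5_three_cent (e ⟨x, T.x_mem⟩) (by rw [← map_pow, h3, map_one])
    (fun h => T.x_ne (congrArg Subtype.val (e.injective (h.trans (map_one e).symm))))
    (e ⟨k, hk⟩) (by rw [← map_mul, ← map_mul]; exact congrArg e (Subtype.ext h1))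
  rcases this with h | h | h
  · rw [MulEquiv.map_eq_one_iff] at h
    rw [show k = 1 from congrArg Subtype.val h]
    exact Subgroup.one_mem _
  · rw [show k = x from congrArg Subtype.val (e.injective h)]
    exact Subgroup.mem_zpowers x
  · rw [← map_pow] at h
    rw [show k = x ^ 2 from congrArg Subtype.val (e.injective h)]
    exact Subgroup.pow_mem _ (Subgroup.mem_zpowers x) 2

namespace Pairs

variable {T}
variable {u v : G} (U : Pairs T u v)
include U

/-- The centraliser of `x` in `E`. -/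
theorem cases {q : G} (hq : q ∈ E) (hqx : q * x = x * q) :
    q ∈ ({1, t, u, u * t, v, v * t, u * v, u * v * t} : Finset G) := by
  obtain ⟨huQ, hu2, hu1, hut⟩ := T.S.mem_X.1 U.uX
  obtain ⟨hvQ, hv2, hv1, hvt⟩ := T.S.mem_X.1 U.vX
  have hvu : v * u = t * (u * v) := T.S.anti_symm hvQ U.anti huQ
  have key : ∀ y ∈ E, y * x = x * y → y * u = u * y → y * v = v * y → y = 1 ∨ y = t := by
    intro y hy hyx hyu hyv
    rcases T.S.sq y hy with h | h
    · rcases commuting_invols T.S.toBase T.S.card_X U.uX hy h hyu.symm with e | e | e | e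
      · exact Or.inl e
      · exact Or.inr e
      · exfalso
        rw [e, U.anti] at hyv
        exact T.S.z_ne (mul_eq_right.1 hyv)
      · exfalso
        rw [e] at hyv
        have hc : Commute u v := by
          have := (show Commute (u * t) v from hyv).mul_left (T.S.z_cen v (T.S.Q_le hvQ) |> Commute.symm)
          rwa [mul_assoc, T.S.z_sq, mul_one] at this
        exact T.S.anti_ne U.anti hc.eq
    · -- a third fixed pair
      exfalso
      have huv2 : u * v * (u * v) = t := by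
        rw [show u * v * (u * v) = u * (v * u) * v by group, hvu, ← mul_assoc u t, T.S.mul_z huQ,
          show t * u * (u * v) * v = t * (u * u) * (v * v) by group, hu2, hv2, mul_one, mul_one]
      set w := y * (u * v) with hw
      have hcy : y * (u * v) = u * v * y :=
        ((show Commute y u from hyu).mul_right (show Commute y v from hyv)).eq
      have hw2 : w * w = 1 := by
        rw [hw, show y * (u * v) * (y * (u * v)) = y * ((u * v) * y) * (u * v) by group, ← hcy,
          show y * (y * (u * v)) * (u * v) = (y * y) * (u * v * (u * v)) by group, h, huv2, T.S.z_sq]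
      have hwu : u * w = t * (w * u) := by
        calc u * w = (u * y) * (u * v) := by rw [hw]; group
          _ = y * u * (t * (v * u)) := by rw [← hyu, U.anti]
          _ = t * (w * u) := by
            rw [show y * u * (t * (v * u)) = y * (u * t) * (v * u) by group, T.S.mul_z huQ,
              show y * (t * u) * (v * u) = (y * t) * (u * (v * u)) by group, T.S.mul_z hy, hw]
            group
      have hwQ : w ∈ E := E.mul_mem hy (E.mul_mem huQ hvQ)
      have hwX : w ∈ T.S.X := T.S.mem_X.2 ⟨hwQ, hw2, fun e => by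
        rw [e, mul_one, one_mul] at hwu
        exact T.S.z_ne (mul_eq_right.1 hwu.symm), fun e => by
        rw [e, T.S.mul_z huQ, ← mul_assoc, T.S.z_sq, one_mul] at hwu
        exact hu1 (mul_eq_left.1 (show t * u = t by
          have := hwu
          exact absurd (this : t * u = u) (fun hh => T.S.z_ne (mul_eq_right.1 hh))))⟩
      have hwx : w * x = x * w := ((show Commute y x from hyx).mul_left
        ((show Commute u x from U.ux).mul_left (show Commute v x from U.vx))).eq
      have hwv : v * w = t * (w * v) := by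
        calc v * w = (v * y) * (u * v) := by rw [hw]; group
          _ = y * (v * u) * v := by rw [← hyv]; group
          _ = y * t * (u * v * v) := by rw [hvu]; group
          _ = t * (w * v) := by rw [T.S.mul_z hy, hw]; group
      rcases U.only w hwX hwx with e | e
      · rcases T.S.mem_pr.1 (e ▸ Finset.mem_insert_self _ _ : w ∈ T.S.pr u) with e' | e'
        · rw [e'] at hwu; exact T.S.anti_ne hwu rfl
        · rw [e'] at hwu
          exact T.S.anti_ne hwu (by rw [mul_assoc u t u, ← T.S.mul_z huQ])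
      · rcases T.S.mem_pr.1 (e ▸ Finset.mem_insert_self _ _ : w ∈ T.S.pr v) with e' | e'
        · rw [e'] at hwv; exact T.S.anti_ne hwv rfl
        · rw [e'] at hwv
          exact T.S.anti_ne hwv (by rw [mul_assoc v t v, ← T.S.mul_z hvQ])
  simp only [Finset.mem_insert, Finset.mem_singleton]
  have cu : ∀ {y : G}, y ∈ E → y * x = x * y → (y * v * u = u * (y * v) ↔ ¬ y * u = u * y) := by
    intro y hy _
    rcases T.S.comm y hy u huQ with h | h
    · refine ⟨fun e => ?_, fun e => absurd h e⟩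
      exfalso
      have h' := T.S.anti_mul_comm (c := y) U.anti h.symm
      have : u * (y * v) = t * (y * v * u) := T.S.comm_mul_anti' hy h.symm U.anti
      rw [← e] at this
      exact T.S.z_ne (mul_eq_right.1 this.symm)
    · refine ⟨fun _ => T.S.anti_ne h, fun _ => (T.S.comm_mul_anti huQ hy ?_ U.anti).symm⟩
      exact T.S.anti_symm huQ h hy
  -- move `q` into the common centraliser
  obtain ⟨a, ha, hax, hau, hqa⟩ : ∃ a ∈ E, a * x = x * a ∧ a * u = u * a ∧ (q = a ∨ q = a * v) := by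
    by_cases h : q * u = u * q
    · exact ⟨q, hq, hqx, h, Or.inl rfl⟩
    · refine ⟨q * v, E.mul_mem hq hvQ, ((show Commute q x from hqx).mul_left U.vx).eq, (cu hq hqx).2 h, Or.inr ?_⟩
      rw [mul_assoc, hv2, mul_one]
  obtain ⟨b, hb, hbx, hbu, hbv, hab⟩ : ∃ b ∈ E, b * x = x * b ∧ b * u = u * b ∧ b * v = v * b ∧
      (a = b ∨ a = b * u) := by
    by_cases h : a * v = v * a
    · exact ⟨a, ha, hax, hau, h, Or.inl rfl⟩
    · refine ⟨a * u, E.mul_mem ha huQ, ((show Commute a x from hax).mul_left U.ux).eq,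
        ((show Commute a u from hau).mul_left (Commute.refl u)).eq, ?_, Or.inr ?_⟩
      · have h' := T.S.anti_symm hvQ ((T.S.comm a ha v hvQ).resolve_left h) ha
        exact (T.S.comm_mul_anti hvQ ha h' hvu).symm
      · rw [mul_assoc, hu2, mul_one]
  have hb' := key b hb hbx hbu hbv
  have htu : t * u = u * t := (T.S.mul_z huQ).symm
  have htv : t * v = v * t := (T.S.mul_z hvQ).symm
  rcases hqa with rfl | rfl <;> rcases hab with rfl | rfl <;> rcases hb' with rfl | rfl
  all_goals simp [htu, htv, ← T.S.mul_z (E.mul_mem huQ hvQ), mul_assoc]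

theorem W_le {a : G} (ha : a ∈ Subgroup.closure ({u, v} : Set G)) : a ∈ E ∧ a * x = x * a := by
  induction ha using Subgroup.closure_induction with
  | mem z hz =>
    rcases hz with rfl | hz
    · exact ⟨(T.S.mem_X.1 U.uX).1, U.ux⟩
    · rw [Set.mem_singleton_iff] at hz
      subst hz
      exact ⟨(T.S.mem_X.1 U.vX).1, U.vx⟩
  | one => exact ⟨E.one_mem, by simp⟩
  | mul a b _ _ h1 h2 => exact ⟨E.mul_mem h1.1 h2.1, ((show Commute a x from h1.2).mul_left h2.2).eq⟩
  | inv a _ h => exact ⟨E.inv_mem h.1, (show Commute a x from h.2).inv_left.eq⟩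

theorem uv_sq : u * v * (u * v) = t := by
  obtain ⟨huQ, hu2, -, -⟩ := T.S.mem_X.1 U.uX
  obtain ⟨hvQ, hv2, -, -⟩ := T.S.mem_X.1 U.vX
  rw [show u * v * (u * v) = u * (v * u) * v by group, T.S.anti_symm hvQ U.anti huQ, ← mul_assoc u t,
    T.S.mul_z huQ, show t * u * (u * v) * v = t * (u * u) * (v * v) by group, hu2, hv2, mul_one, mul_one]

theorem W_mem {q : G} (hq : q ∈ E) (hqx : q * x = x * q) : q ∈ Subgroup.closure ({u, v} : Set G) := by
  set W := Subgroup.closure ({u, v} : Set G)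
  have hu : u ∈ W := Subgroup.subset_closure (by simp)
  have hv : v ∈ W := Subgroup.subset_closure (by simp)
  have ht : t ∈ W := U.uv_sq ▸ W.mul_mem (W.mul_mem hu hv) (W.mul_mem hu hv)
  have := U.cases hq hqx
  simp only [Finset.mem_insert, Finset.mem_singleton] at this
  rcases this with rfl | rfl | rfl | rfl | rfl | rfl | rfl | rfl
  exacts [W.one_mem, ht, hu, W.mul_mem hu ht, hv, W.mul_mem hv ht, W.mul_mem hu hv,
    W.mul_mem (W.mul_mem hu hv) ht]

theorem card_W : Nat.card (Subgroup.closure ({u, v} : Set G)) = 8 := by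
  set W := Subgroup.closure ({u, v} : Set G) with hW
  obtain ⟨huQ, hu2, hu1, hut⟩ := T.S.mem_X.1 U.uX
  obtain ⟨hvQ, hv2, hv1, hvt⟩ := T.S.mem_X.1 U.vX
  have hu : u ∈ W := Subgroup.subset_closure (by simp)
  have hv : v ∈ W := Subgroup.subset_closure (by simp)
  have ht : t ∈ W := U.uv_sq ▸ W.mul_mem (W.mul_mem hu hv) (W.mul_mem hu hv)
  have hle : Nat.card W ≤ 8 := (card_le_of_subset fun a ha => U.cases (U.W_le ha).1 (U.W_le ha).2).trans
    ((Finset.card_insert_le _ _).trans (Nat.succ_le_succ ((Finset.card_insert_le _ _).trans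
    (Nat.succ_le_succ ((Finset.card_insert_le _ _).trans (Nat.succ_le_succ ((Finset.card_insert_le _ _).trans
    (Nat.succ_le_succ ((Finset.card_insert_le _ _).trans (Nat.succ_le_succ ((Finset.card_insert_le _ _).trans
    (Nat.succ_le_succ ((Finset.card_insert_le _ _).trans (Nat.succ_le_succ (Finset.card_singleton _).le))))))))))))))
  have h5 : 5 ≤ Nat.card W := by
    have hsub : (({1, t, u, u * t, v} : Finset G) : Set G) ⊆ (W : Set G) := by
      intro a ha
      simp only [Finset.coe_insert, Finset.coe_singleton, Set.mem_insert_iff, Set.mem_singleton_iff] at ha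
      rcases ha with rfl | rfl | rfl | rfl | rfl
      exacts [W.one_mem, ht, hu, W.mul_mem hu ht, hv]
    have := Set.ncard_le_ncard hsub (Set.toFinite _)
    rw [Set.ncard_coe_finset, ← Nat.card_coe_set_eq] at this
    refine le_trans (le_of_eq ?_) this
    have a1 : u * t ≠ u := fun e => T.S.z_ne (mul_eq_left.1 e)
    have a2 : u * t ≠ t := fun e => hu1 (mul_eq_right.1 e)
    have a3 : u * t ≠ 1 := fun e => hut (by
      rw [eq_inv_of_mul_eq_one_left e, inv_eq_of_mul_eq_one_right T.S.z_sq])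
    have n1 : u ≠ v := fun e => U.ne (by rw [e])
    have n2 : u * t ≠ v := fun e => U.ne (by rw [← e]; exact (T.S.pr_eq (T.S.mem_pr.2 (Or.inr rfl))).symm)
    rw [Finset.card_insert_of_notMem (by simp [T.S.z_ne.symm, hu1.symm, a3.symm, hv1.symm]),
      Finset.card_insert_of_notMem (by simp [hut.symm, a2.symm, hvt.symm]),
      Finset.card_insert_of_notMem (by simp [a1.symm, n1]), Finset.card_pair n2]
  have hd : Nat.card W ∣ 2 ^ 5 := by
    rw [show (2 : ℕ) ^ 5 = Nat.card E by rw [T.S.cardQ]; norm_num]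
    exact Subgroup.card_dvd_of_le fun a ha => (U.W_le ha).1
  obtain ⟨i, hi, hic⟩ := (Nat.dvd_prime_pow Nat.prime_two).1 hd
  rw [hic] at hle h5 ⊢
  interval_cases i <;> omega

theorem equiv_W : Nonempty (Subgroup.closure ({u, v} : Set G) ≃* DihedralGroup 4) := by
  set W := Subgroup.closure ({u, v} : Set G) with hW
  obtain ⟨huQ, hu2, -, -⟩ := T.S.mem_X.1 U.uX
  obtain ⟨hvQ, hv2, -, -⟩ := T.S.mem_X.1 U.vX
  refine CfsgLib.Fusion.Split.exists_dihedral_equiv U.card_W (x := ⟨u, Subgroup.subset_closure (by simp)⟩)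
    (y := ⟨v, Subgroup.subset_closure (by simp)⟩) (Subtype.ext hu2) (Subtype.ext hv2) ?_ (Subtype.ext ?_)
  · rw [eq_top_iff]
    intro a _
    obtain ⟨a, ha⟩ := a
    induction ha using Subgroup.closure_induction with
    | mem z hz =>
      refine Subgroup.subset_closure ?_
      rcases hz with rfl | hz
      · exact Or.inl rfl
      · exact Or.inr (Subtype.ext hz)
    | one => exact Subgroup.one_mem _
    | mul a b _ _ h1 h2 => exact Subgroup.mul_mem _ (h1 trivial) (h2 trivial)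
    | inv a _ h => exact Subgroup.inv_mem _ (h trivial)
  · show (u * v) ^ 4 = 1
    rw [show (u * v) ^ 4 = u * v * (u * v) * (u * v * (u * v)) by
      simp only [pow_succ, pow_zero, one_mul, mul_assoc], U.uv_sq, T.S.z_sq]

end Pairs

theorem center_x : ((Subgroup.zpowers x).subgroupOf (Subgroup.centralizer ({x} : Set G))).Normal := by
  refine ⟨fun n hn g => ?_⟩
  rw [Subgroup.mem_subgroupOf] at hn ⊢
  obtain ⟨j, hj⟩ := Subgroup.mem_zpowers_iff.1 hn
  have hg : Commute (g : G) x := Subgroup.mem_centralizer_singleton_iff.1 g.2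
  rw [Subgroup.coe_mul, Subgroup.coe_mul, Subgroup.coe_inv, ← hj, (hg.zpow_right j).eq, mul_inv_cancel_right]
  exact Subgroup.zpow_mem _ (Subgroup.mem_zpowers x) j

/-- Involutions centralising `x` are conjugate in the centraliser of `x`. -/
theorem invol_conj {i : G} (hi2 : i * i = 1) (hi1 : i ≠ 1) (hix : i * x = x * i) :
    ∃ n, n * x = x * n ∧ n * i * n⁻¹ = t := by
  obtain ⟨g, hg⟩ := T.data.exists_to_t hi2 hi1
  have hy : g * x * g⁻¹ ∈ C := by
    rw [T.data.memC, ← hg]
    exact conj_comm hix.symm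
  obtain ⟨c, hc, hcx⟩ := T.three_conj hy
    ((orderOf_injective (MulAut.conj g).toMonoidHom (MulAut.conj g).injective x).trans T.x_ord)
  refine ⟨c * g, ?_, ?_⟩
  · refine mul_inv_eq_iff_eq_mul.1 ?_
    rw [show c * g * x * (c * g)⁻¹ = c * (g * x * g⁻¹) * c⁻¹ by group, hcx]
  · rw [show c * g * i * (c * g)⁻¹ = c * (g * i * g⁻¹) * c⁻¹ by group, hg, T.data.memC.1 hc,
      mul_inv_cancel_right]

theorem five_dvd : 5 ∣ Nat.card (Subgroup.centralizer ({x} : Set G)) := by
  obtain ⟨k, P⟩ := T.data.exists_klein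
  obtain ⟨r, f, i, hr, hf, hrf, hi, hri⟩ := P.exists_fifteen
  have := Fintype.ofFinite G
  obtain ⟨hi1, hi2⟩ := orderTwo hi
  obtain ⟨g, hg⟩ := T.data.exists_to_t hi2 hi1
  have hy : g * r * g⁻¹ ∈ C := by
    rw [T.data.memC, ← hg]
    exact conj_comm hri
  obtain ⟨c, hc, hcx⟩ := T.three_conj hy
    ((orderOf_injective (MulAut.conj g).toMonoidHom (MulAut.conj g).injective r).trans hr)
  set h := c * g with hh
  have hm : h * f * h⁻¹ ∈ Subgroup.centralizer ({x} : Set G) := by
    rw [Subgroup.mem_centralizer_singleton_iff, ← hcx, show c * (g * r * g⁻¹) * c⁻¹ = h * r * h⁻¹ by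
      rw [hh]; group]
    exact conj_comm hrf.symm
  rw [← hf, ← orderOf_injective (MulAut.conj h).toMonoidHom (MulAut.conj h).injective f]
  exact Subgroup.orderOf_dvd_natCard _ hm

/-- The quotient of the centraliser by `⟨x⟩` is `A₆`. -/
theorem exists_hom : ∃ φ : Subgroup.centralizer ({x} : Set G) →* alternatingGroup (Fin 6),
    Function.Surjective φ ∧ ∀ c, φ c = 1 ↔ (c : G) ∈ Subgroup.zpowers x := by
  obtain ⟨u, v, U⟩ := T.exists_Pairs
  haveI := T.center_x
  set M := Subgroup.centralizer ({x} : Set G) with hM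
  set π := QuotientGroup.mk' ((Subgroup.zpowers x).subgroupOf M) with hπ
  have hπs : Function.Surjective π := QuotientGroup.mk'_surjective _
  have hπ1 : ∀ c : M, π c = 1 ↔ (c : G) ∈ Subgroup.zpowers x := fun c => by
    rw [hπ, QuotientGroup.mk'_apply, QuotientGroup.eq_one_iff, Subgroup.mem_subgroupOf]
  have htM : t ∈ M := Subgroup.mem_centralizer_singleton_iff.2 T.xt.symm
  set tb := π ⟨t, htM⟩ with htb
  -- the centraliser of the image of `t`
  have htlift : ∀ c : M, π c * tb = tb * π c → (c : G) ∈ C := by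
    intro c h
    rw [htb, ← map_mul, ← map_mul] at h
    have h2 : (c : G) * t * (c : G)⁻¹ * t⁻¹ ∈ Subgroup.zpowers x := by
      have := (hπ1 (c * ⟨t, htM⟩ * c⁻¹ * ⟨t, htM⟩⁻¹)).1 (by
        rw [map_mul, map_mul (f := π) (c * ⟨t, htM⟩), map_inv, map_inv, h, map_mul]; group)
      simpa using this
    set d := (c : G) * t * (c : G)⁻¹ * t⁻¹ with hd
    have hdt : Commute d t := by
      obtain ⟨j, hj⟩ := Subgroup.mem_zpowers_iff.1 h2
      rw [← hj]
      exact (show Commute x t from T.xt).zpow_left j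
    have hd2 : d ^ 2 = 1 := by
      have h3 : (d * t) ^ 2 = 1 := by
        rw [show d * t = (c : G) * t * (c : G)⁻¹ by rw [hd]; group, pow_two, conj_sq_one T.S.z_sq]
      rwa [hdt.mul_pow, pow_two t, T.S.z_sq, mul_one] at h3
    have hd3 : d ^ 3 = 1 := by
      obtain ⟨j, hj⟩ := Subgroup.mem_zpowers_iff.1 h2
      rw [← hj, ← zpow_natCast, ← zpow_mul, mul_comm, zpow_mul, zpow_natCast, T.x3, one_zpow]
    have hd1 : d = 1 := by
      calc d = d ^ 3 * (d ^ 2)⁻¹ := by group
        _ = 1 := by rw [hd2, hd3, inv_one, one_mul]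
    rw [T.data.memC]
    rw [hd, mul_inv_eq_one, mul_inv_eq_iff_eq_mul] at hd1
    exact hd1
  set W := Subgroup.closure ({u, v} : Set G) with hW
  have hWM : W ≤ M := fun a ha => Subgroup.mem_centralizer_singleton_iff.2 (U.W_le ha).2
  set CH := Subgroup.centralizer ({tb} : Set (M ⧸ (Subgroup.zpowers x).subgroupOf M)) with hCH
  let ψ : W →* CH := (π.comp (Subgroup.inclusion hWM)).codRestrict CH fun a => by
    rw [hCH, Subgroup.mem_centralizer_singleton_iff, htb]
    show π (Subgroup.inclusion hWM a) * π ⟨t, htM⟩ = π ⟨t, htM⟩ * π (Subgroup.inclusion hWM a)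
    rw [← map_mul, ← map_mul]
    refine congrArg π (Subtype.ext ?_)
    exact T.S.mul_z (U.W_le a.2).1
  have hψ : Function.Bijective ψ := by
    refine ⟨(injective_iff_map_eq_one ψ).2 fun a ha => ?_, fun b => ?_⟩
    · have h1 : (a : G) ∈ Subgroup.zpowers x := (hπ1 _).1 (congrArg Subtype.val ha)
      apply Subtype.ext
      rcases T.sub_eq_inv h1 with h | h | h
      · exact h
      all_goals
        exfalso
        have hE := (U.W_le a.2).1
        rw [h] at hE
      · exact T.core.notQ_of_K T.x_mem T.x_ne hE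
      · exact T.core.notQ_of_K T.x_mem T.x_ne (inv_inv x ▸ E.inv_mem hE)
    · obtain ⟨c, hc⟩ := hπs b.1
      have hcC := htlift c (by rw [hc]; exact Subgroup.mem_centralizer_singleton_iff.1 b.2)
      obtain ⟨q, y, hq, hqx, hy, hcq⟩ := T.cent_C hcC (Subgroup.mem_centralizer_singleton_iff.1 c.2)
      refine ⟨⟨q, U.W_mem hq hqx⟩, Subtype.ext ?_⟩
      show π _ = (b : M ⧸ _)
      rw [← hc]
      have hqM : q ∈ M := Subgroup.mem_centralizer_singleton_iff.2 hqx
      have hyM : y ∈ M := by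
        have := M.mul_mem (M.inv_mem hqM) c.2
        rwa [hcq, inv_mul_cancel_left] at this
      rw [show c = ⟨q, hqM⟩ * ⟨y, hyM⟩ from Subtype.ext hcq, map_mul, (hπ1 ⟨y, hyM⟩).2 hy, mul_one]
      rfl
  obtain ⟨eW⟩ := U.equiv_W
  have htb2 : tb * tb = 1 := by
    rw [htb, ← map_mul, show (⟨t, htM⟩ : M) * ⟨t, htM⟩ = 1 from Subtype.ext T.S.z_sq, map_one]
  have htb1 : tb ≠ 1 := by
    intro h
    rcases T.sub_eq_inv ((hπ1 _).1 h) with e | e | e
    · exact T.S.z_ne e
    all_goals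
      have := T.S.z_mem
      simp only at e
      rw [e] at this
    · exact T.core.notQ_of_K T.x_mem T.x_ne this
    · exact T.core.notQ_of_K T.x_mem T.x_ne (inv_inv x ▸ E.inv_mem this)
  -- one class of involutions
  have hone : ∀ a : M ⧸ (Subgroup.zpowers x).subgroupOf M, a * a = 1 → a ≠ 1 → IsConj a tb := by
    intro a ha ha1
    obtain ⟨c, rfl⟩ := hπs a
    have hc2 : ((c * c : M) : G) ∈ Subgroup.zpowers x := (hπ1 _).1 (by rw [map_mul]; exact ha)
    set i : M := c ^ 3 with hi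
    have hπi : π i = π c := by rw [hi, map_pow, pow_succ, pow_two, ha, one_mul]
    have hi2 : (i : G) * i = 1 := by
      have h6 : ((c * c : M) : G) ^ 3 = 1 := by
        obtain ⟨j, hj⟩ := Subgroup.mem_zpowers_iff.1 hc2
        rw [← hj, ← zpow_natCast, ← zpow_mul, mul_comm, zpow_mul, zpow_natCast, T.x3, one_zpow]
      rw [hi, ← h6, SubgroupClass.coe_pow, Subgroup.coe_mul, ← pow_add, ← pow_two (c : G), ← pow_mul]
    have hi1 : (i : G) ≠ 1 := fun h => ha1 (by
      rw [← hπi, show i = 1 from Subtype.ext h, map_one])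
    obtain ⟨n, hn, hni⟩ := T.invol_conj hi2 hi1 (Subgroup.mem_centralizer_singleton_iff.1 i.2)
    refine isConj_iff.2 ⟨π ⟨n, Subgroup.mem_centralizer_singleton_iff.2 hn⟩, ?_⟩
    rw [← hπi, ← map_inv, ← map_mul, ← map_mul, htb]
    exact congrArg π (Subtype.ext hni)
  have hclass := Cfsg.Agent.S3035.result tb (orderOf_eq_prime (by rw [pow_two, htb2]) htb1)
    ⟨(MulEquiv.ofBijective ψ hψ).symm.trans eW⟩
  have hnoperm : ∀ n : ℕ, (∃ a b : Equiv.Perm (Fin n), a * a = 1 ∧ a ≠ 1 ∧ b * b = 1 ∧ b ≠ 1 ∧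
      Equiv.Perm.sign a ≠ Equiv.Perm.sign b) →
      Nonempty (M ⧸ (Subgroup.zpowers x).subgroupOf M ≃* Equiv.Perm (Fin n)) → False := by
    rintro n ⟨a, b, ha, ha1, hb, hb1, hab⟩ ⟨ε⟩
    have h1 := hone (ε.symm a) (by rw [← map_mul, ha, map_one]) (by simpa using ha1)
    have h2 := hone (ε.symm b) (by rw [← map_mul, hb, map_one]) (by simpa using hb1)
    have h3 := MonoidHom.map_isConj ε.toMonoidHom (h1.trans h2.symm)
    simp only [MulEquiv.coe_toMonoidHom, MulEquiv.apply_symm_apply] at h3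
    exact hab (isConj_iff_eq.1 (MonoidHom.map_isConj Equiv.Perm.sign h3))
  have h5 := T.five_dvd
  rcases hclass with h | h | h | h | h
  · exfalso
    obtain ⟨u', hu'⟩ : ∃ u' : M, (u' : G) = u := ⟨⟨u, Subgroup.mem_centralizer_singleton_iff.2 U.ux⟩, rfl⟩
    obtain ⟨huQ, hu2, hu1, hut⟩ := T.S.mem_X.1 U.uX
    have hub2 : π u' * π u' = 1 := by
      rw [← map_mul, show u' * u' = 1 from Subtype.ext (by rw [Subgroup.coe_mul, hu']; exact hu2), map_one]
    have hub1 : π u' ≠ 1 := by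
      intro h'
      rw [hπ1, hu'] at h'
      rcases T.sub_eq_inv h' with e | e | e
      · exact hu1 e
      all_goals
        rw [e] at huQ
      · exact T.core.notQ_of_K T.x_mem T.x_ne huQ
      · exact T.core.notQ_of_K T.x_mem T.x_ne (inv_inv x ▸ E.inv_mem huQ)
    have hubc : π u' * tb = tb * π u' := by
      rw [htb, ← map_mul, ← map_mul]
      refine congrArg π (Subtype.ext ?_)
      rw [Subgroup.coe_mul, Subgroup.coe_mul, hu']
      exact T.S.mul_z huQ
    obtain ⟨g, hg⟩ := isConj_iff.1 (hone _ hub2 hub1).symm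
    haveI : (Cfsg.oddCore (M ⧸ (Subgroup.zpowers x).subgroupOf M)).Normal :=
      CfsgLib.Transfer.pPrimeCore_normal 2 _
    obtain ⟨d, hd, o, ho, rfl⟩ := Subgroup.mem_sup_of_normal_right.1
      (show g ∈ CH ⊔ Cfsg.oddCore (M ⧸ (Subgroup.zpowers x).subgroupOf M) by rw [h]; trivial)
    set O := Cfsg.oddCore (M ⧸ (Subgroup.zpowers x).subgroupOf M) with hO
    have hmem : π u' * tb⁻¹ ∈ O := by
      rw [← hg, show d * o * tb * (d * o)⁻¹ * tb⁻¹ = d * (o * (tb * o⁻¹ * tb⁻¹)) * d⁻¹ * (d * tb * d⁻¹ * tb⁻¹) by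
        group, Subgroup.mem_centralizer_singleton_iff.1 hd,
        show tb * d * d⁻¹ * tb⁻¹ = 1 by group, mul_one]
      exact Subgroup.Normal.conj_mem inferInstance _
        (O.mul_mem ho (Subgroup.Normal.conj_mem inferInstance _ (O.inv_mem ho) _)) _
    have hodd : (Nat.card O).Coprime 2 := CfsgLib.Transfer.pPrimeCore_coprime 2
    have hsq : (π u' * tb⁻¹) ^ 2 = 1 := by
      rw [inv_eq_of_mul_eq_one_right htb2, (show Commute (π u') tb from hubc).mul_pow, pow_two, pow_two, hub2,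
        htb2, one_mul]
    have h1 : π u' * tb⁻¹ = 1 := by
      rw [← orderOf_eq_one_iff]
      exact Nat.eq_one_of_dvd_coprimes hodd.symm (orderOf_dvd_of_pow_eq_one hsq)
        (Subgroup.orderOf_dvd_natCard _ hmem)
    rw [mul_inv_eq_one, htb, hπ, QuotientGroup.mk'_apply, QuotientGroup.mk'_apply, QuotientGroup.eq,
      Subgroup.mem_subgroupOf, Subgroup.coe_mul, Subgroup.coe_inv, hu'] at h1
    rcases T.sub_eq_inv h1 with e | e | e
    · exact hut (inv_mul_eq_one.1 e)
    all_goals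
      have hmem' : u⁻¹ * t ∈ E := E.mul_mem (E.inv_mem huQ) T.S.z_mem
      simp only at e
      rw [e] at hmem'
    · exact T.core.notQ_of_K T.x_mem T.x_ne hmem'
    · exact T.core.notQ_of_K T.x_mem T.x_ne (inv_inv x ▸ E.inv_mem hmem')
  · exact (hnoperm 4 ⟨Equiv.swap 0 1, Equiv.swap 0 1 * Equiv.swap 2 3, by decide⟩ h).elim
  · exact (hnoperm 5 ⟨Equiv.swap 0 1, Equiv.swap 0 1 * Equiv.swap 2 3, by decide⟩ h).elim
  · exfalso
    obtain ⟨ε⟩ := h
    have hc : Nat.card (M ⧸ (Subgroup.zpowers x).subgroupOf M) = 168 := by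
      rw [Nat.card_congr ε.toEquiv, Nat.card_eq_fintype_card]; decide +kernel
    have hm := Subgroup.card_eq_card_quotient_mul_card_subgroup ((Subgroup.zpowers x).subgroupOf M)
    rw [hc, Nat.card_congr (Subgroup.subgroupOfEquivOfLe (show Subgroup.zpowers x ≤ M by
      rw [Subgroup.zpowers_le, hM, Subgroup.mem_centralizer_singleton_iff])).toEquiv, Nat.card_zpowers,
      T.x_ord] at hm
    rw [hm] at h5
    norm_num at h5
  · obtain ⟨ε⟩ := h
    refine ⟨ε.toMonoidHom.comp π, ε.surjective.comp hπs, fun c => ?_⟩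
    show ε (π c) = 1 ↔ _
    rw [MulEquiv.map_eq_one_iff, hπ1]

end Three

end CfsgLib.J3Type
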