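import Cfsg.Agent.Lib.J3Type.Main
import Cfsg.Agent.Lib.J3Type.Fifteen
import Cfsg.Agent.Lib.DoublyPrim.Basic

/-!
A torus of order 15 normalising the elementary abelian subgroup of order 16, with two inverting involutions.
-/

set_option autoImplicit false
set_option maxHeartbeats 800000
set_option synthInstance.maxSize 512

open scoped Classical

namespace CfsgLib.J3Type

section Ninety

variable {X : Type*} [Group X] [Finite X]

theorem sylow_unique {Y : Type*} [Group Y] [Finite Y] {p a m : ℕ} [Fact p.Prime] (hY : Nat.card Y = p ^ a * m)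
    (hm : ∀ n ∈ Nat.divisors m, n % p = 1 → n = 1) (hpm : ¬ p ∣ m) (P : Sylow p Y) :
    Nat.card P = p ^ a ∧ (P : Subgroup Y).Normal := by
  have hm0 : m ≠ 0 := fun e => hpm (e ▸ dvd_zero p)
  have hP : Nat.card P = p ^ a := by
    rw [P.card_eq_multiplicity, hY, Nat.factorization_mul (pow_ne_zero _ (Nat.Prime.ne_zero Fact.out)) hm0,
      Finsupp.add_apply, Nat.Prime.factorization_pow Fact.out, Finsupp.single_eq_same,
      Nat.factorization_eq_zero_of_not_dvd hpm, add_zero]
  refine ⟨hP, ?_⟩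
  have hidx : (P : Subgroup Y).index = m := by
    have := (P : Subgroup Y).card_mul_index
    rw [hP, hY] at this
    exact Nat.eq_of_mul_eq_mul_left (pow_pos (Nat.Prime.pos Fact.out) a) this
  have h1 : Nat.card (Sylow p Y) = 1 := by
    refine hm _ (Nat.mem_divisors.2 ⟨hidx ▸ P.card_dvd_index, hm0⟩) ?_
    have := card_sylow_modEq_one p Y
    rw [Nat.ModEq, Nat.mod_eq_of_lt (Nat.Prime.one_lt Fact.out)] at this
    exact this
  rw [Sylow.card_eq_index_normalizer P, Subgroup.index_eq_one] at h1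
  exact Subgroup.normalizer_eq_top_iff.1 h1

/-- In a group of order 90 the Sylow 3-subgroup centralises every element of order 5. -/
theorem ninety (hX : Nat.card X = 90) {f : X} (hf : orderOf f = 5) :
    9 ∣ Nat.card (Subgroup.centralizer ({f} : Set X)) := by
  haveI : Fact (Nat.Prime 3) := ⟨Nat.prime_three⟩
  obtain ⟨M, hMn, hMi⟩ := CfsgLib.DoublyPrim.exists_index_two (G := X) (m := 45) (by decide) (by rw [hX])
  have hMc : Nat.card M = 45 := by
    have := M.card_mul_index
    rw [hMi, hX] at this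
    omega
  have hfM : f ∈ M := by
    have := Subgroup.sq_mem_of_index_two hMi (f ^ 3)
    rwa [← pow_mul, show 3 * 2 = 5 + 1 from rfl, pow_succ, ← hf, pow_orderOf_eq_one, one_mul] at this
  obtain ⟨P⟩ : Nonempty (Sylow 3 M) := inferInstance
  obtain ⟨hPc, hPn⟩ := sylow_unique (p := 3) (a := 2) (m := 5) (by rw [hMc]; norm_num)
    (by decide) (by norm_num) P
  set R := (P : Subgroup M).map M.subtype with hR
  have hRc : Nat.card R = 9 := by
    rw [hR, Subgroup.card_map_of_injective M.subtype_injective]; exact hPc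
  have hmod := five_fixed R (e := f) (by rw [← hf]; exact pow_orderOf_eq_one f) (by
    rintro _ ⟨a, ha, rfl⟩
    exact ⟨⟨f, hfM⟩ * a * (⟨f, hfM⟩ : M)⁻¹, hPn.conj_mem a ha _, rfl⟩)
  rw [hRc] at hmod
  obtain ⟨i, hi, hic⟩ := (Nat.dvd_prime_pow Nat.prime_three).1
    (show Nat.card (R ⊓ Subgroup.centralizer ({f} : Set X) : Subgroup X) ∣ 3 ^ 2 by
      rw [show (3 : ℕ) ^ 2 = Nat.card R by rw [hRc]; norm_num]; exact Subgroup.card_dvd_of_le inf_le_left)
  have hd := Subgroup.card_dvd_of_le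
    (show R ⊓ Subgroup.centralizer ({f} : Set X) ≤ Subgroup.centralizer ({f} : Set X) from inf_le_right)
  rw [hic] at hmod hd
  interval_cases i <;> first | exact absurd hmod (by decide) | exact hd

end Ninety

theorem d3_five : ∀ p : DihedralGroup 3, p ^ 5 = 1 → p = 1 := by decide

theorem d5_three : ∀ p : DihedralGroup 5, p ^ 3 = 1 → p = 1 := by decide

theorem d3_cent : ∀ q s : DihedralGroup 3, q ^ 3 = 1 → q ≠ 1 → s * s = 1 → s * q = q * s → s = 1 := by decide

theorem d5_inv : ∀ p s : DihedralGroup 5, p ^ 5 = 1 → s * s = 1 → s ≠ 1 → s * p * s⁻¹ = p⁻¹ := by decide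

theorem d3_inv : ∀ q : DihedralGroup 3, q ^ 3 = 1 → ∃ z, z * z = 1 ∧ z * q * z⁻¹ = q⁻¹ := by decide

variable {G : Type*} [Group G] [Finite G] {t : G} {E K C : Subgroup G}

theorem mem_normalizer_zpowers {a n : G} (h : n * a * n⁻¹ ∈ Subgroup.zpowers a) :
    n ∈ Subgroup.normalizer (Subgroup.zpowers a : Set G) := by
  have heq : Subgroup.zpowers (n * a * n⁻¹) = Subgroup.zpowers a :=
    Subgroup.eq_of_le_of_card_ge (Subgroup.zpowers_le.2 h) (by
      rw [Nat.card_zpowers, Nat.card_zpowers]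
      exact (orderOf_injective (MulAut.conj n).toMonoidHom (MulAut.conj n).injective a).ge)
  refine Subgroup.mem_normalizer_iff.2 fun z => ⟨fun hz => ?_, fun hz => ?_⟩
  · obtain ⟨j, rfl⟩ := Subgroup.mem_zpowers_iff.1 hz
    rw [← heq, ← conj_zpow]
    exact Subgroup.zpow_mem _ (Subgroup.mem_zpowers _) j
  · rw [← heq] at hz
    obtain ⟨j, hj⟩ := Subgroup.mem_zpowers_iff.1 hz
    rw [conj_zpow] at hj
    rw [← mul_left_cancel (mul_right_cancel hj)]
    exact Subgroup.zpow_mem _ (Subgroup.mem_zpowers _) j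

/-- The normaliser of any subgroup of order 5 is `D₁₀ × S₃`. -/
theorem Five.exists_norm_conj {x y w s : G} (F : Five t x y w s E K C) {f : G} (hf : orderOf f = 5) :
    ∃ φ : DihedralGroup 5 × DihedralGroup 3 →* G, Function.Injective φ ∧
      ∀ n ∈ Subgroup.normalizer (Subgroup.zpowers f : Set G), n ∈ φ.range := by
  haveI : Fact (Nat.Prime 5) := ⟨by decide⟩
  obtain ⟨k, hk⟩ : (5 : ℕ) ∣ Nat.card G := hf ▸ orderOf_dvd_natCard f
  have hk5 : ¬ 5 ∣ k := fun ⟨l, hl⟩ => F.not_dvd_25 ⟨l, by rw [hk, hl]; ring⟩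
  have hy5 : Nat.card (Subgroup.zpowers y) = 5 ^ (Nat.card G).factorization 5 := by
    rw [Nat.card_zpowers, F.y_ord, hk, Nat.factorization_mul (by norm_num) (fun e => hk5 (by rw [e]; exact dvd_zero 5)),
      Finsupp.add_apply, Nat.Prime.factorization_self (by decide : Nat.Prime 5),
      Nat.factorization_eq_zero_of_not_dvd hk5, add_zero, pow_one]
  obtain ⟨T2, hT2⟩ := (IsPGroup.of_card (p := 5) (n := 1)
    (by rw [Nat.card_zpowers, hf, pow_one] : Nat.card (Subgroup.zpowers f) = 5 ^ 1)).exists_le_sylow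
  obtain ⟨b, hbT⟩ := MulAction.exists_smul_eq G T2 (Sylow.ofCard _ hy5)
  have hmem : b * f * b⁻¹ ∈ ((Sylow.ofCard _ hy5 : Sylow 5 G) : Subgroup G) := by
    rw [← hbT, Sylow.coe_subgroup_smul]
    exact ⟨_, hT2 (Subgroup.mem_zpowers _), rfl⟩
  rw [Sylow.coe_ofCard] at hmem
  have hle : Subgroup.zpowers (b * f * b⁻¹) = Subgroup.zpowers y := by
    refine Subgroup.eq_of_le_of_card_ge (Subgroup.zpowers_le.2 hmem) ?_
    rw [Nat.card_zpowers, Nat.card_zpowers, F.y_ord, ← hf]
    exact (orderOf_injective (MulAut.conj b).toMonoidHom (MulAut.conj b).injective f).ge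
  obtain ⟨φ, hinj, hrange, -⟩ := F.exists_norm
  refine ⟨(MulAut.conj b⁻¹).toMonoidHom.comp φ, (MulAut.conj b⁻¹).injective.comp hinj, fun n hn => ?_⟩
  have h1 : b * n * b⁻¹ ∈ φ.range := by
    rw [hrange, ← hle]
    refine mem_normalizer_zpowers ?_
    obtain ⟨j, hj⟩ := Subgroup.mem_zpowers_iff.1
      ((Subgroup.mem_normalizer_iff.1 hn f).1 (Subgroup.mem_zpowers f))
    refine Subgroup.mem_zpowers_iff.2 ⟨j, ?_⟩
    rw [conj_zpow, hj]
    group
  obtain ⟨p, hp⟩ := h1
  refine ⟨p, ?_⟩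
  show b⁻¹ * φ p * b⁻¹⁻¹ = n
  rw [hp]; group

/-- The torus. -/
structure TorusData (A : Subgroup G) (r f σ j : G) : Prop where
  r_ord : orderOf r = 3
  f_ord : orderOf f = 5
  comm : r * f = f * r
  r_mem : r ∈ Subgroup.normalizer (A : Set G)
  f_mem : f ∈ Subgroup.normalizer (A : Set G)
  σ_mem : σ ∈ Subgroup.normalizer (A : Set G)
  σ_sq : σ * σ = 1
  σ_r : σ * r = r * σ
  σ_f : σ * f * σ⁻¹ = f⁻¹
  j_sq : j * j = 1
  j_r : j * r * j⁻¹ = r⁻¹
  j_f : j * f * j⁻¹ = f⁻¹
  σ_j : σ * j = j * σ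
  f_fpf : ∀ a ∈ A, a * f = f * a → a = 1
  r_fpf : ∀ a ∈ A, a * r = r * a → a = 1
  ninety : 90 ∣ Nat.card (Subgroup.normalizer (A : Set G) ⊓ Subgroup.centralizer ({r} : Set G) : Subgroup G)

theorem Klein.exists_torus {k x y w s : G} (P : Klein t k E K C) (F : Five t x y w s E K C) :
    ∃ r f σ j : G, TorusData (AK C k) r f σ j := by
  haveI : Fact (Nat.Prime 2) := ⟨Nat.prime_two⟩
  have := Fintype.ofFinite G
  haveI : Fact (Nat.Prime 5) := ⟨by decide⟩
  obtain ⟨r, f, -, hro, hfo, hrf, -, -, hrN, hfN, h90⟩ := P.exists_fifteen_local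
  set A := AK C k with hA
  set N := Subgroup.normalizer (A : Set G) with hN
  have hf5 : f ^ 5 = 1 := by rw [← hfo]; exact pow_orderOf_eq_one f
  have hr3 : r ^ 3 = 1 := by rw [← hro]; exact pow_orderOf_eq_one r
  have hcases : ∀ F' : Subgroup G, F' ≤ A → ∃ i ≤ 4, Nat.card F' = 2 ^ i := fun F' hF' =>
    (Nat.dvd_prime_pow Nat.prime_two).1 (by
      rw [show 2 ^ 4 = Nat.card A by rw [P.card_AK]; norm_num]; exact Subgroup.card_dvd_of_le hF')
  have hnc : ∀ (g : G) (p : ℕ), orderOf g = p → ¬ p ∣ 16 → ¬ ∀ a ∈ A, a * g = g * a := fun g p hp h16 h => by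
    have := Subgroup.orderOf_dvd_natCard A (P.cent_AK fun a ha => (h a ha).symm)
    rw [hp, P.card_AK] at this
    exact h16 this
  have hsub : ∀ g : G, (∀ a, a ∈ A ⊓ Subgroup.centralizer ({g} : Set G) ↔ a ∈ A ∧ a * g = g * a) := fun g a => by
    simp [Subgroup.mem_centralizer_singleton_iff]
  have hfpf : ∀ a ∈ A, a * f = f * a → a = 1 := by
    intro a ha hac
    have hmod := five_fixed A hf5 fun b hb => P.conj_N hfN hb
    rw [P.card_AK] at hmod
    set F' := A ⊓ Subgroup.centralizer ({f} : Set G) with hF'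
    obtain ⟨i, hi, hic⟩ := hcases F' inf_le_left
    rw [hic] at hmod
    interval_cases i <;> first | exact absurd hmod (by decide) | skip
    · have : a ∈ F' := (hsub f a).2 ⟨ha, hac⟩
      rwa [Subgroup.card_eq_one.1 (hic.trans (pow_zero 2)), Subgroup.mem_bot] at this
    · refine absurd (fun b hb => ?_) (hnc f 5 hfo (by norm_num))
      have hFA : F' = A := Subgroup.eq_of_le_of_card_ge inf_le_left (by rw [hic, P.card_AK]; norm_num)
      exact ((hsub f b).1 (hFA.ge hb)).2
  have hrfpf : ∀ a ∈ A, a * r = r * a → a = 1 := by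
    intro a ha hac
    set F' := A ⊓ Subgroup.centralizer ({r} : Set G) with hF'
    have hmod := five_fixed F' hf5 fun b hb => by
      obtain ⟨hb1, hb2⟩ := (hsub r b).1 hb
      refine (hsub r _).2 ⟨P.conj_N hfN hb1, ?_⟩
      have := conj_comm (c := f) hb2
      rwa [show f * r * f⁻¹ = r by rw [← hrf, mul_inv_cancel_right]] at this
    have h1 : (F' ⊓ Subgroup.centralizer ({f} : Set G) : Subgroup G) = ⊥ := by
      rw [eq_bot_iff]
      rintro b ⟨hb, hbc⟩
      rw [Subgroup.mem_bot]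
      exact hfpf b hb.1 (Subgroup.mem_centralizer_singleton_iff.1 hbc)
    rw [h1, Subgroup.card_bot] at hmod
    obtain ⟨i, hi, hic⟩ := hcases F' inf_le_left
    rw [hic] at hmod
    interval_cases i <;> first | exact absurd hmod (by decide) | skip
    · have : a ∈ F' := (hsub r a).2 ⟨ha, hac⟩
      rwa [Subgroup.card_eq_one.1 (hic.trans (pow_zero 2)), Subgroup.mem_bot] at this
    · refine absurd (fun b hb => ?_) (hnc r 3 hro (by norm_num))
      have hFA : F' = A := Subgroup.eq_of_le_of_card_ge inf_le_left (by rw [hic, P.card_AK]; norm_num)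
      exact ((hsub r b).1 (hFA.ge hb)).2
  obtain ⟨φ, hinj, hφ⟩ := F.exists_norm_conj hfo
  have hrC : r ∈ Subgroup.normalizer (Subgroup.zpowers f : Set G) :=
    mem_normalizer_zpowers (by rw [hrf, mul_inv_cancel_right]; exact Subgroup.mem_zpowers f)
  -- an involution of the normaliser commuting with `r`
  set M := N ⊓ Subgroup.centralizer ({r} : Set G) with hM
  set Mf := M ⊓ Subgroup.normalizer (Subgroup.zpowers f : Set G) with hMf
  obtain ⟨σ, hσM, hσ2, hσ1⟩ : ∃ σ ∈ Mf, σ * σ = 1 ∧ σ ≠ 1 := by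
    by_cases h2 : 2 ∣ Nat.card Mf
    · obtain ⟨⟨σ, hσ⟩, ho⟩ := exists_prime_orderOf_dvd_card' (G := Mf) 2 h2
      rw [Subgroup.orderOf_mk] at ho
      obtain ⟨a, b⟩ := J2Order.orderTwo ho
      exact ⟨σ, hσ, b, a⟩
    exfalso
    have hfM : f ∈ M := ⟨hfN, Subgroup.mem_centralizer_singleton_iff.2 hrf.symm⟩
    have hfMf : f ∈ Mf := ⟨hfM, Subgroup.le_normalizer (Subgroup.mem_zpowers f)⟩
    have hrMf : r ∈ Mf := ⟨⟨hrN, Subgroup.mem_centralizer_singleton_iff.2 rfl⟩, hrC⟩
    have hd60 : Nat.card Mf ∣ 60 := by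
      have := Subgroup.card_dvd_of_le (show Mf ≤ φ.range from fun n hn => hφ n hn.2)
      rwa [← Nat.card_congr (MonoidHom.ofInjective hinj).toEquiv, Nat.card_prod, DihedralGroup.nat_card,
        DihedralGroup.nat_card] at this
    have h3 : 3 ∣ Nat.card Mf := hro ▸ Subgroup.orderOf_dvd_natCard Mf hrMf
    have h5 : 5 ∣ Nat.card Mf := hfo ▸ Subgroup.orderOf_dvd_natCard Mf hfMf
    have h15 : Nat.card Mf = 15 := by
      have hle := Nat.le_of_dvd (by norm_num) hd60
      obtain ⟨m, hm⟩ := (Nat.Coprime.mul_dvd_of_dvd_of_dvd (by norm_num : Nat.Coprime 3 5) h3 h5)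
      rw [hm] at hd60 h2 hle ⊢
      have hm4 : m ≤ 4 := by omega
      interval_cases m <;> first | rfl | omega | exact absurd hd60 (by norm_num)
    have hMA : ∀ m ∈ M, m ∈ A → m = 1 := fun m hm hmA =>
      hrfpf m hmA (Subgroup.mem_centralizer_singleton_iff.1 hm.2)
    set An := A.subgroupOf N with hAn
    haveI : An.Normal := Subgroup.normal_subgroupOf_of_le_normalizer le_rfl
    have hMN : M ≤ N := inf_le_left
    have hinjM : Function.Injective ((QuotientGroup.mk' An).comp (Subgroup.inclusion hMN)) := by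
      refine (injective_iff_map_eq_one _).2 fun m hm => ?_
      rw [MonoidHom.comp_apply, QuotientGroup.mk'_apply, QuotientGroup.eq_one_iff, hAn,
        Subgroup.mem_subgroupOf] at hm
      exact Subtype.ext (hMA _ m.2 hm)
    have h180 : Nat.card M ∣ 180 := by
      have h := Subgroup.card_dvd_of_injective _ hinjM
      have hQ : Nat.card (N ⧸ An) = 180 := by
        have := Subgroup.card_eq_card_quotient_mul_card_subgroup An
        rw [show Nat.card N = 2880 from P.card_N, show Nat.card An = 16 by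
          rw [Nat.card_congr (Subgroup.subgroupOfEquivOfLe (Subgroup.le_normalizer (H := A))).toEquiv]
          exact P.card_AK] at this
        omega
      rwa [hQ] at h
    set fM : M := ⟨f, hfM⟩ with hfM'
    have hfMo : orderOf fM = 5 := by rw [hfM', Subgroup.orderOf_mk]; exact hfo
    have hM90 : Nat.card M = 90 ∨ Nat.card M = 180 := by
      obtain ⟨m, hm⟩ := h90
      rw [hm] at h180 ⊢
      obtain ⟨m', hm'⟩ := h180
      have : m * m' = 2 := by nlinarith
      have hm2 : m ∣ 2 := ⟨m', this.symm⟩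
      rcases (Nat.dvd_prime Nat.prime_two).1 hm2 with rfl | rfl <;> norm_num
    have hT : Nat.card (Subgroup.zpowers fM) = 5 ^ (Nat.card M).factorization 5 := by
      rw [Nat.card_zpowers, hfMo]
      obtain ⟨m, hm, hm5⟩ : ∃ m, Nat.card M = 5 ^ 1 * m ∧ ¬ 5 ∣ m := by
        rcases hM90 with h | h <;> rw [h]
        · exact ⟨18, by norm_num, by norm_num⟩
        · exact ⟨36, by norm_num, by norm_num⟩
      rw [hm, Nat.factorization_mul (by norm_num) (fun e => hm5 (by rw [e]; exact dvd_zero 5)), Finsupp.add_apply,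
        Nat.Prime.factorization_pow (by decide : Nat.Prime 5), Finsupp.single_eq_same,
        Nat.factorization_eq_zero_of_not_dvd hm5]
      norm_num
    have hidx : Nat.card (Sylow 5 M) =
        (Subgroup.normalizer ((Subgroup.zpowers fM : Subgroup M) : Set M)).index :=
      (Sylow.card_eq_index_normalizer (Sylow.ofCard _ hT)).trans (by rfl)
    have hnc' : Nat.card (Subgroup.normalizer ((Subgroup.zpowers fM : Subgroup M) : Set M)) = 15 := by
      rw [← h15]
      refine Nat.card_congr ⟨fun n => ⟨((n : M) : G), (n : M).2, mem_normalizer_zpowers ?_⟩,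
        fun n => ⟨⟨(n : G), n.2.1⟩, mem_normalizer_zpowers ?_⟩, fun _ => rfl, fun _ => rfl⟩
      · obtain ⟨z, hz⟩ := Subgroup.mem_zpowers_iff.1
          ((Subgroup.mem_normalizer_iff.1 n.2 fM).1 (Subgroup.mem_zpowers fM))
        exact Subgroup.mem_zpowers_iff.2 ⟨z, by simpa [hfM'] using congrArg Subtype.val hz⟩
      · obtain ⟨z, hz⟩ := Subgroup.mem_zpowers_iff.1
          ((Subgroup.mem_normalizer_iff.1 n.2.2 f).1 (Subgroup.mem_zpowers f))
        exact Subgroup.mem_zpowers_iff.2 ⟨z, Subtype.ext (by simpa [hfM'] using hz)⟩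
    have hmul := Subgroup.card_mul_index (Subgroup.normalizer ((Subgroup.zpowers fM : Subgroup M) : Set M))
    rw [hnc'] at hmul
    have hmod := card_sylow_modEq_one 5 M
    rw [hidx, Nat.ModEq] at hmod
    rcases hM90 with h | h
    · have h9 := ninety h hfMo
      have hle : Nat.card (Subgroup.centralizer ({fM} : Set M)) ∣
          Nat.card (Subgroup.centralizer ({f} : Set G)) := by
        rw [← Subgroup.card_map_of_injective M.subtype_injective]
        refine Subgroup.card_dvd_of_le ?_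
        rintro _ ⟨c, hc, rfl⟩
        exact Subgroup.mem_centralizer_singleton_iff.2
          (congrArg Subtype.val (Subgroup.mem_centralizer_singleton_iff.1 hc))
      rw [P.data.five_conj_cent F hfo] at hle
      exact absurd (h9.trans hle) (by norm_num)
    · rw [h] at hmul
      omega
  have hσr : σ * r = r * σ := Subgroup.mem_centralizer_singleton_iff.1 hσM.1.2
  -- the preimages
  obtain ⟨⟨p1, p2⟩, hp⟩ := hφ f (Subgroup.le_normalizer (Subgroup.mem_zpowers f))
  obtain ⟨⟨q1, q2⟩, hq⟩ := hφ r hrC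
  obtain ⟨⟨s1, s2⟩, hs⟩ := hφ σ hσM.2
  have hp5 : (p1, p2) ^ 5 = 1 := hinj (by rw [map_pow, hp, hf5, map_one])
  have hq3 : (q1, q2) ^ 3 = 1 := hinj (by rw [map_pow, hq, hr3, map_one])
  have hss : (s1, s2) * (s1, s2) = 1 := hinj (by rw [map_mul, hs, hσ2, map_one])
  have hsq : (s1, s2) * (q1, q2) = (q1, q2) * (s1, s2) := hinj (by rw [map_mul, map_mul, hq, hs, hσr])
  simp only [Prod.ext_iff, Prod.pow_fst, Prod.pow_snd, Prod.fst_one, Prod.snd_one, Prod.fst_mul,
    Prod.snd_mul] at hp5 hq3 hss hsq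
  obtain rfl : p2 = 1 := d3_five p2 hp5.2
  obtain rfl : q1 = 1 := d5_three q1 hq3.1
  have hq2 : q2 ≠ 1 := fun e => by
    rw [e, show ((1 : DihedralGroup 5), (1 : DihedralGroup 3)) = 1 from rfl, map_one] at hq
    rw [← hq, orderOf_one] at hro
    omega
  obtain rfl : s2 = 1 := d3_cent q2 s2 hq3.2 hq2 hss.2 hsq.2
  have hs1 : s1 ≠ 1 := fun e => hσ1 (by
    rw [← hs, e, show ((1 : DihedralGroup 5), (1 : DihedralGroup 3)) = 1 from rfl, map_one])
  obtain ⟨z, hz2, hzq⟩ := d3_inv q2 hq3.2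
  have hinv := d5_inv p1 s1 hp5.1 hss.1 hs1
  refine ⟨r, f, σ, φ (s1, z), ⟨hro, hfo, hrf, hrN, hfN, hσM.1.1, hσ2, hσr, ?_, ?_, ?_, ?_, ?_, hfpf, hrfpf, h90⟩⟩
  · rw [← hs, ← hp, ← map_inv, ← map_inv, ← map_mul, ← map_mul]
    congr 1
    simp [hinv]
  · rw [← map_mul, ← map_one φ]
    congr 1
    simp [hss.1, hz2]
  · rw [← hq, ← map_inv, ← map_inv, ← map_mul, ← map_mul]
    congr 1
    simp [hzq]
  · rw [← hp, ← map_inv, ← map_inv, ← map_mul, ← map_mul]
    congr 1
    simp [hinv]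
  · rw [← hs, ← map_mul, ← map_mul]
    congr 1
    simp

end CfsgLib.J3Type
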